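import Cfsg.Agent.Lib.Blocks.GroupAlgebra
import Mathlib.Algebra.Group.ConjFinite
import Cfsg.Agent.Lib.Char.Orthogonality
import Mathlib.RingTheory.IntegralClosure.IsIntegralClosure.Basic
import Mathlib.LinearAlgebra.Trace

/-!
# Central characters on the centre of the complex group algebra

`omega χ z` is the scalar by which a central element `z` acts; `blockIdem A` is the sum of the
central idempotents of a set `A` of irreducible characters.
-/

set_option linter.style.haveILetI false
set_option linter.unusedSectionVars false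

namespace Cfsg.Agent.Blocks

open Cfsg MonoidAlgebra
open scoped ComplexConjugate

universe u

variable {G : Type u} [Group G] [Finite G]

/-- A function on the group, extended linearly to the group algebra. -/
noncomputable def chiL (χ : G → ℂ) (z : MonoidAlgebra ℂ G) : ℂ := ∑ᶠ g, z.coeff g * χ g

/-- The central character of `χ` on a group algebra element. -/
noncomputable def omega (χ : G → ℂ) (z : MonoidAlgebra ℂ G) : ℂ := chiL χ z / χ 1

theorem chiL_eq_sum [Fintype G] (χ : G → ℂ) (z : MonoidAlgebra ℂ G) :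
    chiL χ z = ∑ g, z.coeff g * χ g := finsum_eq_sum_of_fintype _

theorem chiL_zero (χ : G → ℂ) : chiL χ 0 = 0 := by simp [chiL]

theorem chiL_add (χ : G → ℂ) (z w : MonoidAlgebra ℂ G) :
    chiL χ (z + w) = chiL χ z + chiL χ w := by
  haveI := Fintype.ofFinite G
  simp [chiL_eq_sum, add_mul, Finset.sum_add_distrib]

theorem chiL_smul (χ : G → ℂ) (c : ℂ) (z : MonoidAlgebra ℂ G) :
    chiL χ (c • z) = c * chiL χ z := by
  haveI := Fintype.ofFinite G
  simp [chiL_eq_sum, Finset.mul_sum, mul_assoc]

theorem chiL_neg (χ : G → ℂ) (z : MonoidAlgebra ℂ G) : chiL χ (-z) = -chiL χ z := by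
  have := chiL_smul χ (-1) z
  rwa [neg_one_smul, neg_one_mul] at this

theorem chiL_sub (χ : G → ℂ) (z w : MonoidAlgebra ℂ G) :
    chiL χ (z - w) = chiL χ z - chiL χ w := by
  rw [sub_eq_add_neg, chiL_add, chiL_neg, sub_eq_add_neg]

theorem chiL_sum (χ : G → ℂ) {ι : Type*} (s : Finset ι) (f : ι → MonoidAlgebra ℂ G) :
    chiL χ (∑ i ∈ s, f i) = ∑ i ∈ s, chiL χ (f i) := by
  classical
  induction s using Finset.induction with
  | empty => simp [chiL_zero]
  | insert i s hi ih => rw [Finset.sum_insert hi, chiL_add, ih, Finset.sum_insert hi]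

theorem chiL_single (χ : G → ℂ) (a : G) (r : ℂ) : chiL χ (MonoidAlgebra.single a r) = r * χ a := by
  classical
  haveI := Fintype.ofFinite G
  simp [chiL_eq_sum, Finsupp.single_apply]

theorem chiL_one (χ : G → ℂ) : chiL χ 1 = χ 1 := by
  rw [MonoidAlgebra.one_def, chiL_single, one_mul]

theorem card_isConj_eq_index (g : G) :
    Nat.card {x : G // IsConj g x} = (Subgroup.centralizer ({g} : Set G)).index := by
  haveI := Fintype.ofFinite G
  refine Nat.eq_of_mul_eq_mul_left (Nat.card_pos (α := Subgroup.centralizer ({g} : Set G))) ?_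
  rw [Char.card_centralizer_mul_card_conj, Subgroup.card_mul_index]

theorem chiL_classSum {χ : G → ℂ} (hχ : IsClassFunction G χ) (g : G) :
    chiL χ (classSum ℂ g) = ((Subgroup.centralizer ({g} : Set G)).index : ℂ) * χ g := by
  classical
  haveI := Fintype.ofFinite G
  rw [chiL_eq_sum, ← card_isConj_eq_index]
  simp only [coeff_classSum, ite_mul, one_mul, zero_mul, ← Finset.sum_filter]
  rw [Finset.sum_congr rfl (g := fun _ => χ g) fun x hx =>
      (Char.IsClassFunction.apply_of_isConj hχ (Finset.mem_filter.1 hx).2).symm,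
    Finset.sum_const, nsmul_eq_mul, Nat.card_eq_fintype_card, Fintype.card_subtype]

theorem omega_classSum {χ : G → ℂ} (hχ : IsClassFunction G χ) (g : G) :
    omega χ (classSum ℂ g) = centralChar χ g := by rw [omega, chiL_classSum hχ, centralChar]

theorem omega_add (χ : G → ℂ) (z w : MonoidAlgebra ℂ G) :
    omega χ (z + w) = omega χ z + omega χ w := by rw [omega, chiL_add, add_div]; rfl

theorem omega_sub (χ : G → ℂ) (z w : MonoidAlgebra ℂ G) :
    omega χ (z - w) = omega χ z - omega χ w := by rw [omega, chiL_sub, sub_div]; rfl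

theorem omega_smul (χ : G → ℂ) (c : ℂ) (z : MonoidAlgebra ℂ G) :
    omega χ (c • z) = c * omega χ z := by rw [omega, chiL_smul, mul_div_assoc]; rfl

theorem omega_sum (χ : G → ℂ) {ι : Type*} (s : Finset ι) (f : ι → MonoidAlgebra ℂ G) :
    omega χ (∑ i ∈ s, f i) = ∑ i ∈ s, omega χ (f i) := by
  rw [omega, chiL_sum, Finset.sum_div]; rfl

theorem omega_zero (χ : G → ℂ) : omega χ 0 = 0 := by rw [omega, chiL_zero, zero_div]

/-! ### Representations -/

theorem asAlgebraHom_eq_opSum [Fintype G] {V : Type*} [AddCommGroup V] [Module ℂ V]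
    (ρ : Representation ℂ G V) (z : MonoidAlgebra ℂ G) :
    ρ.asAlgebraHom z = Char.opSum (fun g => z.coeff g) ρ := by
  conv_lhs => rw [eq_sum_single z, map_sum]
  simp [Char.opSum]

theorem chiL_character {V : Type*} [AddCommGroup V] [Module ℂ V]
    (ρ : Representation ℂ G V) (z : MonoidAlgebra ℂ G) :
    chiL ρ.character z = LinearMap.trace ℂ V (ρ.asAlgebraHom z) := by
  haveI := Fintype.ofFinite G
  rw [asAlgebraHom_eq_opSum, Char.trace_opSum, chiL_eq_sum]

theorem exists_eq_omega_smul {n : ℕ} (ρ : Representation ℂ G (Fin n → ℂ)) [ρ.IsIrreducible]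
    {z : MonoidAlgebra ℂ G} (hz : IsCentralElt z) :
    ρ.asAlgebraHom z = omega ρ.character z • (1 : Module.End ℂ (Fin n → ℂ)) := by
  haveI := Fintype.ofFinite G
  obtain ⟨a, ha⟩ := Char.exists_opSum_eq_smul (c := fun g => z.coeff g) (fun g h => hz g h) ρ
  have he : ρ.asAlgebraHom z = a • (1 : Module.End ℂ (Fin n → ℂ)) := by
    rw [asAlgebraHom_eq_opSum]
    exact LinearMap.ext fun x => by simp [ha]
  rw [he, omega, chiL_character, he, map_smul, LinearMap.trace_one, Representation.char_one,
    smul_eq_mul, mul_div_assoc, div_self, mul_one]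
  haveI := Char.nontrivial_of_isIrreducible ρ
  exact Nat.cast_ne_zero.2 Module.finrank_pos.ne'

variable (χ : IrrCharacter G)

theorem irr_one_ne_zero : χ.1 1 ≠ 0 := Char.IsIrrCharacter.apply_one_ne_zero χ.2

theorem irr_classFun : IsClassFunction G χ.1 :=
  Char.IsCharacter.isClassFunction (Char.irr_isCharacter χ)

theorem omega_one : omega χ.1 1 = 1 := by rw [omega, chiL_one, div_self (irr_one_ne_zero χ)]

theorem chiL_mul_of_central {z : MonoidAlgebra ℂ G} (hz : IsCentralElt z)
    (w : MonoidAlgebra ℂ G) : chiL χ.1 (z * w) = omega χ.1 z * chiL χ.1 w := by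
  obtain ⟨n, ρ, hρ, he⟩ := χ.2
  haveI := hρ
  rw [← he, chiL_character, map_mul, exists_eq_omega_smul ρ hz, smul_mul_assoc, one_mul, map_smul,
    smul_eq_mul, chiL_character]

theorem omega_mul {z : MonoidAlgebra ℂ G} (hz : IsCentralElt z) (w : MonoidAlgebra ℂ G) :
    omega χ.1 (z * w) = omega χ.1 z * omega χ.1 w := by
  rw [omega, chiL_mul_of_central χ hz, mul_div_assoc]; rfl

theorem omega_pow {z : MonoidAlgebra ℂ G} (hz : IsCentralElt z) (n : ℕ) :
    omega χ.1 (z ^ n) = omega χ.1 z ^ n := by
  induction n with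
  | zero => rw [pow_zero, pow_zero, omega_one]
  | succ n ih => rw [pow_succ, omega_mul χ (IsCentralElt.pow hz n), ih, pow_succ]

/-! ### Integrality -/

theorem isIntegral_centralChar (g : G) : IsIntegral ℤ (centralChar χ.1 g) := by
  classical
  haveI := Fintype.ofFinite G
  obtain ⟨n, ρ, hρ, he⟩ := χ.2
  haveI := hρ
  haveI := Char.nontrivial_of_isIrreducible ρ
  haveI : Module.Finite ℤ (MonoidAlgebra ℤ G) :=
    Module.Finite.of_surjective (∑ x : G, (LinearMap.proj (R := ℤ) (φ := fun _ : G => ℤ) x).smulRight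
      (MonoidAlgebra.single x (1 : ℤ))) fun z => ⟨fun x => z.coeff x, by
        conv_rhs => rw [eq_sum_single z]
        simp [MonoidAlgebra.smul_single]⟩
  have h1 : IsIntegral ℤ (classSum ℤ g) := IsIntegral.of_finite ℤ _
  let f : MonoidAlgebra ℤ G →+* Module.End ℂ (Fin n → ℂ) :=
    (ρ.asAlgebraHom : MonoidAlgebra ℂ G →+* _).comp
      (MonoidAlgebra.mapRingHom G (Int.castRingHom ℂ))
  have h2 := h1.map f.toIntAlgHom
  have hf : f (classSum ℤ g) = algebraMap ℂ (Module.End ℂ (Fin n → ℂ)) (centralChar χ.1 g) := by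
    have hm : MonoidAlgebra.mapRingHom G (Int.castRingHom ℂ) (classSum ℤ g) = classSum ℂ g :=
      alg_ext fun x => by simp [MonoidAlgebra.coeff_mapRingHom]
    show ρ.asAlgebraHom (MonoidAlgebra.mapRingHom G (Int.castRingHom ℂ) (classSum ℤ g)) = _
    rw [hm, exists_eq_omega_smul ρ (isCentralElt_classSum g), he, omega_classSum (irr_classFun χ),
      Algebra.algebraMap_eq_smul_one]
  rw [show f.toIntAlgHom (classSum ℤ g) = f (classSum ℤ g) from rfl, hf] at h2
  exact (isIntegral_algebraMap_iff (algebraMap ℂ (Module.End ℂ (Fin n → ℂ))).injective).1 h2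

/-- The central character at a class as an algebraic integer. -/
noncomputable def centralInt (g : G) : AlgInt :=
  algIntMk (centralChar χ.1 g) (isIntegral_centralChar χ g)

theorem coe_centralInt (g : G) : (centralInt χ g : ℂ) = centralChar χ.1 g := rfl

variable {M : Ideal AlgInt}

theorem memLocalRing_centralChar [M.IsPrime] (g : G) : MemLocalRing M (centralChar χ.1 g) :=
  memLocalRing_of_isIntegral (isIntegral_centralChar χ g)

theorem omega_eq_sum_classes [Fintype (ConjClasses G)] {z : MonoidAlgebra ℂ G}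
    (hz : IsCentralElt z) :
    omega χ.1 z = ∑ C : ConjClasses G, z.coeff C.out * centralChar χ.1 C.out := by
  conv_lhs => rw [IsCentralElt.eq_sum_classSum hz, omega_sum]
  exact Finset.sum_congr rfl fun C _ => by rw [omega_smul, omega_classSum (irr_classFun χ)]

theorem memLocalRing_omega [M.IsPrime] {z : MonoidAlgebra ℂ G} (hz : IsCentralElt z)
    (hS : SCoeff M z) : MemLocalRing M (omega χ.1 z) := by
  haveI := Fintype.ofFinite (ConjClasses G)
  rw [omega_eq_sum_classes χ hz]
  exact MemLocalRing.sum _ fun C _ => MemLocalRing.mul (hS _) (memLocalRing_centralChar χ _)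

theorem memLocalIdeal_omega [M.IsPrime] {z : MonoidAlgebra ℂ G} (hz : IsCentralElt z)
    (hS : MCoeff M z) : MemLocalIdeal M (omega χ.1 z) := by
  haveI := Fintype.ofFinite (ConjClasses G)
  rw [omega_eq_sum_classes χ hz]
  exact MemLocalIdeal.sum _ fun C _ => MemLocalIdeal.mul_right (hS _) (memLocalRing_centralChar χ _)

/-! ### Idempotents -/

variable (A : Set (IrrCharacter G))

/-- The sum of the central idempotents of the members of `A`. -/
noncomputable def blockIdem : MonoidAlgebra ℂ G := ofFun (blockCoeff A)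

theorem coeff_blockIdem (g : G) : (blockIdem A).coeff g = blockCoeff A g := by simp [blockIdem]

theorem blockCoeff_eq_sum [DecidablePred (· ∈ A)] (g : G) :
    blockCoeff A g = (Nat.card G : ℂ)⁻¹ *
      ∑ χ ∈ Finset.univ.filter (· ∈ A), χ.1 1 * conj (χ.1 g) := by
  rw [blockCoeff, finsum_mem_eq_sum_of_inter_support_eq]
  ext x
  simp

theorem isCentralElt_blockIdem : IsCentralElt (blockIdem A) := fun g h => by
  classical
  simp only [coeff_blockIdem, blockCoeff_eq_sum]
  congr 1
  exact Finset.sum_congr rfl fun χ _ => by rw [irr_classFun χ g h]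

open Classical in
theorem chiL_blockIdem : chiL χ.1 (blockIdem A) = if χ ∈ A then χ.1 1 else 0 := by
  haveI := Fintype.ofFinite G
  have h : ∀ ψ : IrrCharacter G, ∑ g, ψ.1 1 * conj (ψ.1 g) * χ.1 g =
      (Nat.card G : ℂ) * if χ = ψ then χ.1 1 else 0 := by
    intro ψ
    have := Char.classInner_irr χ ψ
    rw [classInner, inv_mul_eq_iff_eq_mul₀ Char.card_ne_zero] at this
    calc ∑ g, ψ.1 1 * conj (ψ.1 g) * χ.1 g = ψ.1 1 * ∑ g, χ.1 g * conj (ψ.1 g) := by
          rw [Finset.mul_sum]; exact Finset.sum_congr rfl fun g _ => by ring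
      _ = _ := by
        rw [this]
        split_ifs with he
        · rw [he]; ring
        · ring
  simp only [chiL_eq_sum, coeff_blockIdem, blockCoeff_eq_sum, mul_assoc, ← Finset.mul_sum]
  simp only [Finset.sum_mul]
  rw [Finset.sum_comm, Finset.sum_congr rfl fun ψ _ => h ψ, ← Finset.mul_sum, ← mul_assoc,
    inv_mul_cancel₀ Char.card_ne_zero, one_mul, Finset.sum_ite_eq]
  simp

open Classical in
theorem omega_blockIdem : omega χ.1 (blockIdem A) = if χ ∈ A then 1 else 0 := by
  rw [omega, chiL_blockIdem]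
  split_ifs
  exacts [div_self (irr_one_ne_zero χ), zero_div _]

variable {A}

/-- A central element is determined by the central characters. -/
theorem eq_zero_of_omega_eq_zero {z : MonoidAlgebra ℂ G} (hz : IsCentralElt z)
    (h : ∀ χ : IrrCharacter G, omega χ.1 z = 0) : z = 0 := by
  haveI := Fintype.ofFinite G
  have hL : ∀ θ, IsCharacter G θ → chiL θ z = 0 := fun θ hθ =>
    Char.IsCharacter.induction_on (P := fun θ => chiL θ z = 0) hθ (by simp [chiL])
      (fun φ ψ _ _ h1 h2 => by
        rw [chiL_eq_sum] at *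
        simp [mul_add, Finset.sum_add_distrib, h1, h2])
      (fun φ hφ => by
        have := h ⟨φ, hφ⟩
        rw [omega, div_eq_zero_iff] at this
        exact this.resolve_right (irr_one_ne_zero ⟨φ, hφ⟩))
  have h0 : (fun g => z.coeff g) = 0 := Char.eq_zero_of_classInner_irr (fun g h => hz g h)
    fun ψ => by
      rw [classInner, ← chiL_eq_sum (fun g => conj (ψ.1 g)) z,
        hL _ (Char.IsCharacter.conj (Char.irr_isCharacter ψ)), mul_zero]
  exact alg_ext fun g => by simpa using congrFun h0 g

theorem central_ext {z w : MonoidAlgebra ℂ G} (hz : IsCentralElt z) (hw : IsCentralElt w)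
    (h : ∀ χ : IrrCharacter G, omega χ.1 z = omega χ.1 w) : z = w :=
  sub_eq_zero.1 (eq_zero_of_omega_eq_zero (IsCentralElt.sub hz hw) fun χ => by
    rw [omega_sub, h χ, sub_self])

theorem blockIdem_mul_self (A : Set (IrrCharacter G)) :
    blockIdem A * blockIdem A = blockIdem A :=
  central_ext (IsCentralElt.mul (isCentralElt_blockIdem A) (isCentralElt_blockIdem A))
    (isCentralElt_blockIdem A) fun χ => by
      rw [omega_mul χ (isCentralElt_blockIdem A), omega_blockIdem]
      split_ifs <;> simp

theorem blockIdem_pow (A : Set (IrrCharacter G)) {n : ℕ} (hn : 1 ≤ n) :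
    blockIdem A ^ n = blockIdem A := by
  induction n, hn using Nat.le_induction with
  | base => rw [pow_one]
  | succ n _ ih => rw [pow_succ, ih, blockIdem_mul_self]

theorem blockIdem_mul (A B : Set (IrrCharacter G)) :
    blockIdem A * blockIdem B = blockIdem (A ∩ B) :=
  central_ext (IsCentralElt.mul (isCentralElt_blockIdem A) (isCentralElt_blockIdem B))
    (isCentralElt_blockIdem _) fun χ => by
      rw [omega_mul χ (isCentralElt_blockIdem A), omega_blockIdem, omega_blockIdem, omega_blockIdem]
      by_cases h1 : χ ∈ A <;> by_cases h2 : χ ∈ B <;> simp [h1, h2]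

theorem blockIdem_univ : blockIdem (Set.univ : Set (IrrCharacter G)) = 1 :=
  central_ext (isCentralElt_blockIdem _) isCentralElt_one fun χ => by
    rw [omega_blockIdem, omega_one]; simp

/-! ### Nilpotency and idempotent lifting -/

/-- A central local element all of whose central characters are `≡ 0` is nilpotent mod `M`. -/
theorem mcoeff_pow_of_omega [M.IsPrime] {z : MonoidAlgebra ℂ G} (hz : IsCentralElt z)
    (hS : SCoeff M z) (h : ∀ χ : IrrCharacter G, MemLocalIdeal M (omega χ.1 z)) :
    MCoeff M (z ^ Fintype.card (IrrCharacter G)) := by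
  classical
  suffices key : ∀ s : Finset (IrrCharacter G), ∃ w : MonoidAlgebra ℂ G, IsCentralElt w ∧
      SCoeff M w ∧ MCoeff M (z ^ s.card - w) ∧ ∀ χ ∈ s, omega χ.1 w = 0 by
    obtain ⟨w, hw, -, hzw, hw0⟩ := key Finset.univ
    rw [eq_zero_of_omega_eq_zero hw fun χ => hw0 χ (Finset.mem_univ χ), sub_zero,
      Finset.card_univ] at hzw
    exact hzw
  intro s
  induction s using Finset.induction with
  | empty =>
    exact ⟨1, isCentralElt_one, scoeff_one, by simpa using mcoeff_zero, by simp⟩
  | insert χ s hχ ih =>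
    obtain ⟨w, hw, hwS, hzw, hw0⟩ := ih
    have hcS : MemLocalRing M (omega χ.1 z) := memLocalRing_omega χ hz hS
    have hcI : MCoeff M (omega χ.1 z • (1 : MonoidAlgebra ℂ G)) := fun g => by
      rw [coeff_smul_apply, smul_eq_mul]
      exact MemLocalIdeal.mul_right (h χ) (scoeff_one g)
    refine ⟨w * (z - omega χ.1 z • 1),
      IsCentralElt.mul hw (IsCentralElt.sub hz (IsCentralElt.smul _ isCentralElt_one)),
      SCoeff.mul hwS (SCoeff.sub hS (SCoeff.smul hcS scoeff_one)), ?_, ?_⟩
    · rw [Finset.card_insert_of_notMem hχ, pow_succ]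
      have : z ^ s.card * z - w * (z - omega χ.1 z • 1) =
          (z ^ s.card - w) * z + w * (omega χ.1 z • 1) := by
        rw [sub_mul, mul_sub]; abel
      rw [this]
      exact MCoeff.add (MCoeff.mul_right hzw hS) (MCoeff.mul_left hwS hcI)
    · intro ψ hψ
      rw [omega_mul ψ hw, omega_sub, omega_smul, omega_one, mul_one]
      rcases Finset.mem_insert.1 hψ with rfl | hψ'
      · rw [sub_self, mul_zero]
      · rw [hw0 ψ hψ', zero_mul]

/-- The polynomial trick: a central local element with unit central characters on `A` and zero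
ones elsewhere has `blockIdem A` as a local multiple. -/
theorem exists_mul_eq_blockIdem [M.IsPrime] {u : MonoidAlgebra ℂ G} (hu : IsCentralElt u)
    (huS : SCoeff M u) (hA : ∀ χ ∈ A, ¬ MemLocalIdeal M (omega χ.1 u))
    (hnA : ∀ χ ∉ A, omega χ.1 u = 0) :
    ∃ w : MonoidAlgebra ℂ G, IsCentralElt w ∧ SCoeff M w ∧ u * w = blockIdem A := by
  classical
  suffices key : ∀ s : Finset (IrrCharacter G), (∀ χ ∈ s, χ ∈ A) →
      ∃ w : MonoidAlgebra ℂ G, IsCentralElt w ∧ SCoeff M w ∧
        ∀ χ ∈ s, omega χ.1 (u * w) = 1 by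
    obtain ⟨w, hw, hwS, h1⟩ :=
      key (Finset.univ.filter (· ∈ A)) (fun χ hχ => (Finset.mem_filter.1 hχ).2)
    refine ⟨w, hw, hwS, central_ext (IsCentralElt.mul hu hw) (isCentralElt_blockIdem A) fun χ => ?_⟩
    rw [omega_blockIdem]
    split_ifs with h
    · exact h1 χ (by simp [h])
    · rw [omega_mul χ hu, hnA χ h, zero_mul]
  intro s
  induction s using Finset.induction with
  | empty => exact fun _ => ⟨0, isCentralElt_zero, scoeff_zero, by simp⟩
  | insert χ s hχ ih =>
    intro hs
    obtain ⟨w, hw, hwS, h1⟩ := ih fun ψ hψ => hs ψ (Finset.mem_insert_of_mem hψ)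
    have hχA := hA χ (hs χ (Finset.mem_insert_self _ _))
    have ha := memLocalRing_inv (memLocalRing_omega χ hu huS) hχA
    refine ⟨w + (omega χ.1 u)⁻¹ • (1 - u * w),
      IsCentralElt.add hw (IsCentralElt.smul _ (IsCentralElt.sub isCentralElt_one
        (IsCentralElt.mul hu hw))),
      SCoeff.add hwS (SCoeff.smul ha (SCoeff.sub scoeff_one (SCoeff.mul huS hwS))), ?_⟩
    intro ψ hψ
    rw [omega_mul ψ hu, omega_add, omega_smul, omega_sub, omega_one, omega_mul ψ hu]
    rcases Finset.mem_insert.1 hψ with rfl | hψ'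
    · field_simp [ne_zero_of_not_memLocalIdeal hχA]
      ring
    · have := h1 ψ hψ'
      rw [omega_mul ψ hu] at this
      rw [mul_add, this, sub_self, mul_zero, mul_zero, add_zero]

end Cfsg.Agent.Blocks
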