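import Cfsg.Prelude.Def_Blocks
import Mathlib.RingTheory.Algebraic.Basic
import Mathlib.RingTheory.Ideal.Quotient.Basic
import Mathlib.RingTheory.IntegralClosure.IntegralRestrict
import Mathlib.Data.Nat.Factorization.Basic
import Mathlib.FieldTheory.Finite.Basic
import Mathlib.FieldTheory.IntermediateField.Adjoin.Basic

/-!
# The local ring of algebraic integers at a maximal ideal over `p`

`MemLocalRing M` / `MemLocalIdeal M` as a subring and an ideal, the total reduction map
`red M : ℂ → AlgInt ⧸ M`, and the behaviour of rational integers.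
-/

set_option linter.style.haveILetI false
set_option linter.unusedSectionVars false

namespace Cfsg.Agent.Blocks

open Cfsg

/-- An integral complex number as an element of `AlgInt`. -/
def algIntMk (z : ℂ) (h : IsIntegral ℤ z) : AlgInt := ⟨z, h⟩

@[simp] theorem coe_algIntMk (z : ℂ) (h : IsIntegral ℤ z) : (algIntMk z h : ℂ) = z := rfl

theorem algInt_coe_ne_zero {b : AlgInt} (hb : b ≠ 0) : (b : ℂ) ≠ 0 :=
  fun h => hb (Subtype.ext h)

section Prime

variable {M : Ideal AlgInt}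

theorem ne_zero_of_not_mem {b : AlgInt} (hb : b ∉ M) : b ≠ 0 := fun h => hb (h ▸ M.zero_mem)

theorem coe_ne_zero_of_not_mem {b : AlgInt} (hb : b ∉ M) : (b : ℂ) ≠ 0 :=
  algInt_coe_ne_zero (ne_zero_of_not_mem hb)

theorem memLocalRing_of_memLocalIdeal {z : ℂ} (h : MemLocalIdeal M z) : MemLocalRing M z :=
  let ⟨a, b, _, hb, he⟩ := h; ⟨a, b, hb, he⟩

variable [hMp : M.IsPrime]

theorem one_not_mem : (1 : AlgInt) ∉ M := fun h => hMp.ne_top ((Ideal.eq_top_iff_one M).2 h)

theorem memLocalRing_coe (a : AlgInt) : MemLocalRing M (a : ℂ) :=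
  ⟨a, 1, one_not_mem, by simp⟩

theorem memLocalRing_of_isIntegral {z : ℂ} (h : IsIntegral ℤ z) : MemLocalRing M z :=
  memLocalRing_coe (algIntMk z h)

theorem memLocalRing_natCast (n : ℕ) : MemLocalRing M (n : ℂ) := by
  simpa using memLocalRing_coe (M := M) (n : AlgInt)

theorem memLocalRing_intCast (n : ℤ) : MemLocalRing M (n : ℂ) := by
  simpa using memLocalRing_coe (M := M) (n : AlgInt)

theorem memLocalRing_zero : MemLocalRing M 0 := by simpa using memLocalRing_natCast (M := M) 0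

theorem memLocalRing_one : MemLocalRing M 1 := by simpa using memLocalRing_natCast (M := M) 1

theorem not_mem_mul {a b : AlgInt} (ha : a ∉ M) (hb : b ∉ M) : a * b ∉ M :=
  fun h => (hMp.mem_or_mem h).elim ha hb

theorem MemLocalRing.add {z w : ℂ} (hz : MemLocalRing M z) (hw : MemLocalRing M w) :
    MemLocalRing M (z + w) := by
  obtain ⟨a, b, hb, rfl⟩ := hz
  obtain ⟨c, d, hd, rfl⟩ := hw
  refine ⟨a * d + c * b, b * d, not_mem_mul hb hd, ?_⟩
  have := coe_ne_zero_of_not_mem hb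
  have := coe_ne_zero_of_not_mem hd
  push_cast
  field_simp

theorem MemLocalRing.mul {z w : ℂ} (hz : MemLocalRing M z) (hw : MemLocalRing M w) :
    MemLocalRing M (z * w) := by
  obtain ⟨a, b, hb, rfl⟩ := hz
  obtain ⟨c, d, hd, rfl⟩ := hw
  exact ⟨a * c, b * d, not_mem_mul hb hd, by push_cast; exact (div_mul_div_comm _ _ _ _).symm⟩

theorem MemLocalRing.neg {z : ℂ} (hz : MemLocalRing M z) : MemLocalRing M (-z) := by
  obtain ⟨a, b, hb, rfl⟩ := hz
  exact ⟨-a, b, hb, by push_cast; exact neg_div _ _⟩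

theorem MemLocalRing.sub {z w : ℂ} (hz : MemLocalRing M z) (hw : MemLocalRing M w) :
    MemLocalRing M (z - w) := sub_eq_add_neg z w ▸ MemLocalRing.add hz (MemLocalRing.neg hw)

variable (M) in
/-- The local integers at `M`, as a subring of `ℂ`. -/
def localInt : Subring ℂ where
  carrier := {z | MemLocalRing M z}
  zero_mem' := memLocalRing_zero
  one_mem' := memLocalRing_one
  add_mem' := MemLocalRing.add
  mul_mem' := MemLocalRing.mul
  neg_mem' := MemLocalRing.neg

theorem mem_localInt {z : ℂ} : z ∈ localInt M ↔ MemLocalRing M z := Iff.rfl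

theorem MemLocalRing.sum {ι : Type*} (s : Finset ι) {f : ι → ℂ}
    (h : ∀ i ∈ s, MemLocalRing M (f i)) : MemLocalRing M (∑ i ∈ s, f i) :=
  (localInt M).sum_mem h

theorem MemLocalRing.finsum {ι : Type*} {f : ι → ℂ} (h : ∀ i, MemLocalRing M (f i)) :
    MemLocalRing M (∑ᶠ i, f i) :=
  finsum_induction (MemLocalRing M) memLocalRing_zero (fun _ _ => MemLocalRing.add) h

theorem MemLocalRing.prod {ι : Type*} (s : Finset ι) {f : ι → ℂ}
    (h : ∀ i ∈ s, MemLocalRing M (f i)) : MemLocalRing M (∏ i ∈ s, f i) :=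
  (localInt M).prod_mem h

theorem MemLocalRing.pow {z : ℂ} (hz : MemLocalRing M z) (n : ℕ) : MemLocalRing M (z ^ n) :=
  (localInt M).pow_mem hz n

theorem memLocalIdeal_zero : MemLocalIdeal M 0 := ⟨0, 1, M.zero_mem, one_not_mem, by simp⟩

theorem MemLocalIdeal.add {z w : ℂ} (hz : MemLocalIdeal M z) (hw : MemLocalIdeal M w) :
    MemLocalIdeal M (z + w) := by
  obtain ⟨a, b, ha, hb, rfl⟩ := hz
  obtain ⟨c, d, hc, hd, rfl⟩ := hw
  refine ⟨a * d + c * b, b * d, M.add_mem (M.mul_mem_right _ ha) (M.mul_mem_right _ hc),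
    not_mem_mul hb hd, ?_⟩
  have := coe_ne_zero_of_not_mem hb
  have := coe_ne_zero_of_not_mem hd
  push_cast
  field_simp

theorem MemLocalIdeal.neg {z : ℂ} (hz : MemLocalIdeal M z) : MemLocalIdeal M (-z) := by
  obtain ⟨a, b, ha, hb, rfl⟩ := hz
  exact ⟨-a, b, M.neg_mem ha, hb, by push_cast; exact neg_div _ _⟩

theorem MemLocalIdeal.sub {z w : ℂ} (hz : MemLocalIdeal M z) (hw : MemLocalIdeal M w) :
    MemLocalIdeal M (z - w) := sub_eq_add_neg z w ▸ MemLocalIdeal.add hz (MemLocalIdeal.neg hw)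

theorem MemLocalIdeal.mul_right {z w : ℂ} (hz : MemLocalIdeal M z) (hw : MemLocalRing M w) :
    MemLocalIdeal M (z * w) := by
  obtain ⟨a, b, ha, hb, rfl⟩ := hz
  obtain ⟨c, d, hd, rfl⟩ := hw
  exact ⟨a * c, b * d, M.mul_mem_right _ ha, not_mem_mul hb hd,
    by push_cast; exact (div_mul_div_comm _ _ _ _).symm⟩

theorem MemLocalIdeal.mul_left {z w : ℂ} (hz : MemLocalRing M z) (hw : MemLocalIdeal M w) :
    MemLocalIdeal M (z * w) := mul_comm w z ▸ MemLocalIdeal.mul_right hw hz

theorem MemLocalIdeal.sum {ι : Type*} (s : Finset ι) {f : ι → ℂ}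
    (h : ∀ i ∈ s, MemLocalIdeal M (f i)) : MemLocalIdeal M (∑ i ∈ s, f i) :=
  Finset.sum_induction f _ (fun _ _ => MemLocalIdeal.add) memLocalIdeal_zero h

theorem MemLocalIdeal.finsum {ι : Type*} {f : ι → ℂ} (h : ∀ i, MemLocalIdeal M (f i)) :
    MemLocalIdeal M (∑ᶠ i, f i) :=
  finsum_induction (MemLocalIdeal M) memLocalIdeal_zero (fun _ _ => MemLocalIdeal.add) h

/-- For algebraic integers the local ideal is `M`. -/
theorem memLocalIdeal_coe_iff (a : AlgInt) : MemLocalIdeal M (a : ℂ) ↔ a ∈ M := by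
  refine ⟨fun ⟨c, d, hc, hd, he⟩ => ?_, fun ha => ⟨a, 1, ha, one_not_mem, by simp⟩⟩
  rw [div_eq_iff (coe_ne_zero_of_not_mem hd)] at he
  have : c = a * d := Subtype.ext (by push_cast; exact he)
  exact (hMp.mem_or_mem (this ▸ hc)).resolve_right hd

theorem not_memLocalIdeal_one : ¬ MemLocalIdeal M 1 := fun h =>
  one_not_mem ((memLocalIdeal_coe_iff (1 : AlgInt)).1 (by simpa using h))

/-- A local integer outside the local ideal is invertible in the local ring. -/
theorem memLocalRing_inv {z : ℂ} (hz : MemLocalRing M z) (hz' : ¬ MemLocalIdeal M z) :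
    MemLocalRing M z⁻¹ := by
  obtain ⟨a, b, hb, rfl⟩ := hz
  exact ⟨b, a, fun ha => hz' ⟨a, b, ha, hb, rfl⟩, (inv_div _ _).symm⟩

theorem ne_zero_of_not_memLocalIdeal {z : ℂ} (hz : ¬ MemLocalIdeal M z) : z ≠ 0 :=
  fun h => hz (h ▸ memLocalIdeal_zero)

theorem MemLocalIdeal.mem_or_mem {z w : ℂ} (hz : MemLocalRing M z) (hw : MemLocalRing M w)
    (h : MemLocalIdeal M (z * w)) : MemLocalIdeal M z ∨ MemLocalIdeal M w := by
  by_contra hc
  simp only [not_or] at hc
  have := MemLocalIdeal.mul_right h (memLocalRing_inv hz hc.1)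
  rw [mul_comm z w, mul_assoc, mul_inv_cancel₀ (ne_zero_of_not_memLocalIdeal hc.1), mul_one]
    at this
  exact hc.2 this

theorem MemLocalIdeal.of_pow {z : ℂ} (hz : MemLocalRing M z) {n : ℕ}
    (h : MemLocalIdeal M (z ^ n)) : MemLocalIdeal M z := by
  induction n with
  | zero => exact absurd (by simpa using h) (not_memLocalIdeal_one (M := M))
  | succ n ih =>
    rw [pow_succ] at h
    exact (MemLocalIdeal.mem_or_mem (MemLocalRing.pow hz n) hz h).elim ih id

theorem not_memLocalIdeal_mul {z w : ℂ} (hz : MemLocalRing M z) (hw : MemLocalRing M w)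
    (hz' : ¬ MemLocalIdeal M z) (hw' : ¬ MemLocalIdeal M w) : ¬ MemLocalIdeal M (z * w) :=
  fun h => (MemLocalIdeal.mem_or_mem hz hw h).elim hz' hw'

theorem memLocalIdeal_of_sub {z w : ℂ} (h : MemLocalIdeal M (z - w)) (hw : MemLocalIdeal M w) :
    MemLocalIdeal M z := by
  simpa using MemLocalIdeal.add h hw

/-- A congruence transports membership in the local ideal. -/
theorem memLocalIdeal_iff_of_sub {z w : ℂ} (h : MemLocalIdeal M (z - w)) :
    MemLocalIdeal M z ↔ MemLocalIdeal M w :=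
  ⟨fun hz => by simpa using MemLocalIdeal.sub hz h, memLocalIdeal_of_sub h⟩

end Prime

section Reduction

variable (M : Ideal AlgInt) [hM : M.IsMaximal]

/-- The residue ring at a maximal ideal is a field. -/
noncomputable scoped instance resField : Field (AlgInt ⧸ M) := Ideal.Quotient.field M

open Classical in
/-- Reduction modulo `M` of a complex number (zero outside the local ring). -/
noncomputable def red (z : ℂ) : AlgInt ⧸ M :=
  if h : MemLocalRing M z then
    Ideal.Quotient.mk M h.choose * (Ideal.Quotient.mk M h.choose_spec.choose)⁻¹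
  else 0

variable {M}

theorem mk_ne_zero {b : AlgInt} (hb : b ∉ M) : Ideal.Quotient.mk M b ≠ 0 :=
  fun h => hb (Ideal.Quotient.eq_zero_iff_mem.1 h)

theorem red_div (a b : AlgInt) (hb : b ∉ M) :
    red M ((a : ℂ) / b) = Ideal.Quotient.mk M a * (Ideal.Quotient.mk M b)⁻¹ := by
  have h : MemLocalRing M ((a : ℂ) / b) := ⟨a, b, hb, rfl⟩
  rw [red, dif_pos h]
  suffices key : ∀ c d : AlgInt, d ∉ M → (c : ℂ) / d = (a : ℂ) / b →
      Ideal.Quotient.mk M c * (Ideal.Quotient.mk M d)⁻¹ =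
        Ideal.Quotient.mk M a * (Ideal.Quotient.mk M b)⁻¹ from
    key _ _ h.choose_spec.choose_spec.1 h.choose_spec.choose_spec.2
  intro c d hd he
  rw [div_eq_div_iff (coe_ne_zero_of_not_mem hd) (coe_ne_zero_of_not_mem hb)] at he
  have hk : c * b = a * d := Subtype.ext (by push_cast; exact he)
  rw [← div_eq_mul_inv, ← div_eq_mul_inv, div_eq_div_iff (mk_ne_zero hd) (mk_ne_zero hb),
    ← map_mul, ← map_mul, hk]

@[simp] theorem red_coe (a : AlgInt) : red M (a : ℂ) = Ideal.Quotient.mk M a := by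
  simpa using red_div a 1 (one_not_mem (M := M))

@[simp] theorem red_zero : red M 0 = 0 := by simpa using red_coe (M := M) 0

@[simp] theorem red_one : red M 1 = 1 := by simpa using red_coe (M := M) 1

theorem red_natCast (n : ℕ) : red M (n : ℂ) = n := by simpa using red_coe (M := M) (n : AlgInt)

theorem red_intCast (n : ℤ) : red M (n : ℂ) = n := by simpa using red_coe (M := M) (n : AlgInt)

theorem red_add {z w : ℂ} (hz : MemLocalRing M z) (hw : MemLocalRing M w) :
    red M (z + w) = red M z + red M w := by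
  obtain ⟨a, b, hb, rfl⟩ := hz
  obtain ⟨c, d, hd, rfl⟩ := hw
  have he : (a : ℂ) / b + (c : ℂ) / d = ((a * d + c * b : AlgInt) : ℂ) / ((b * d : AlgInt) : ℂ) := by
    have := coe_ne_zero_of_not_mem hb
    have := coe_ne_zero_of_not_mem hd
    push_cast
    field_simp
  rw [he, red_div _ _ (not_mem_mul hb hd), red_div _ _ hb, red_div _ _ hd]
  have := mk_ne_zero hb
  have := mk_ne_zero hd
  simp only [map_add, map_mul]
  field_simp

theorem red_mul {z w : ℂ} (hz : MemLocalRing M z) (hw : MemLocalRing M w) :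
    red M (z * w) = red M z * red M w := by
  obtain ⟨a, b, hb, rfl⟩ := hz
  obtain ⟨c, d, hd, rfl⟩ := hw
  have he : (a : ℂ) / b * ((c : ℂ) / d) = ((a * c : AlgInt) : ℂ) / ((b * d : AlgInt) : ℂ) := by
    push_cast; exact div_mul_div_comm _ _ _ _
  rw [he, red_div _ _ (not_mem_mul hb hd), red_div _ _ hb, red_div _ _ hd]
  simp only [map_mul, mul_inv]
  ring

theorem red_eq_zero_of_mem {z : ℂ} (hz : MemLocalIdeal M z) : red M z = 0 := by
  obtain ⟨a, b, ha, hb, rfl⟩ := hz
  rw [red_div _ _ hb, Ideal.Quotient.eq_zero_iff_mem.2 ha, zero_mul]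

theorem red_eq_zero_iff {z : ℂ} (hz : MemLocalRing M z) : red M z = 0 ↔ MemLocalIdeal M z := by
  refine ⟨fun h => ?_, red_eq_zero_of_mem⟩
  obtain ⟨a, b, hb, rfl⟩ := hz
  rw [red_div _ _ hb, mul_eq_zero] at h
  exact ⟨a, b, Ideal.Quotient.eq_zero_iff_mem.1
    (h.resolve_right (inv_ne_zero (mk_ne_zero hb))), hb, rfl⟩

theorem red_neg {z : ℂ} (hz : MemLocalRing M z) : red M (-z) = -red M z := by
  have := red_add hz (MemLocalRing.neg hz)
  rw [add_neg_cancel, red_zero] at this
  exact eq_neg_of_add_eq_zero_right this.symm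

theorem red_sub {z w : ℂ} (hz : MemLocalRing M z) (hw : MemLocalRing M w) :
    red M (z - w) = red M z - red M w := by
  rw [sub_eq_add_neg, red_add hz (MemLocalRing.neg hw), red_neg hw, sub_eq_add_neg]

theorem red_eq_iff {z w : ℂ} (hz : MemLocalRing M z) (hw : MemLocalRing M w) :
    red M z = red M w ↔ MemLocalIdeal M (z - w) := by
  rw [← red_eq_zero_iff (MemLocalRing.sub hz hw), red_sub hz hw, sub_eq_zero]

theorem red_pow {z : ℂ} (hz : MemLocalRing M z) (n : ℕ) : red M (z ^ n) = red M z ^ n := by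
  induction n with
  | zero => simp
  | succ n ih => rw [pow_succ, pow_succ, red_mul (MemLocalRing.pow hz n) hz, ih]

theorem red_sum {ι : Type*} (s : Finset ι) {f : ι → ℂ} (h : ∀ i ∈ s, MemLocalRing M (f i)) :
    red M (∑ i ∈ s, f i) = ∑ i ∈ s, red M (f i) := by
  classical
  induction s using Finset.induction with
  | empty => simp
  | insert i s hi ih =>
    have hs : ∀ j ∈ s, MemLocalRing M (f j) := fun j hj => h j (Finset.mem_insert_of_mem hj)
    rw [Finset.sum_insert hi, Finset.sum_insert hi,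
      red_add (h i (Finset.mem_insert_self _ _)) (MemLocalRing.sum s hs), ih hs]

theorem red_prod {ι : Type*} (s : Finset ι) {f : ι → ℂ} (h : ∀ i ∈ s, MemLocalRing M (f i)) :
    red M (∏ i ∈ s, f i) = ∏ i ∈ s, red M (f i) := by
  classical
  induction s using Finset.induction with
  | empty => simp
  | insert i s hi ih =>
    have hs : ∀ j ∈ s, MemLocalRing M (f j) := fun j hj => h j (Finset.mem_insert_of_mem hj)
    rw [Finset.prod_insert hi, Finset.prod_insert hi,
      red_mul (h i (Finset.mem_insert_self _ _)) (MemLocalRing.prod s hs), ih hs]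

theorem red_inv {z : ℂ} (hz : MemLocalRing M z) (hz' : ¬ MemLocalIdeal M z) :
    red M z⁻¹ = (red M z)⁻¹ := by
  refine eq_inv_of_mul_eq_one_left ?_
  rw [← red_mul (memLocalRing_inv hz hz') hz, inv_mul_cancel₀ (ne_zero_of_not_memLocalIdeal hz'),
    red_one]

theorem red_surjective (x : AlgInt ⧸ M) : ∃ a : AlgInt, red M (a : ℂ) = x := by
  obtain ⟨a, rfl⟩ := Ideal.Quotient.mk_surjective x
  exact ⟨a, red_coe a⟩

end Reduction

section Prime_p

variable {p : ℕ} [hp : Fact p.Prime] {M : Ideal AlgInt} [hM : M.IsMaximal]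
variable (hpM : (p : AlgInt) ∈ M)
include hpM

theorem charP_residue : CharP (AlgInt ⧸ M) p := by
  have h0 : ((p : ℕ) : AlgInt ⧸ M) = 0 := by
    rw [← map_natCast (Ideal.Quotient.mk M)]
    exact Ideal.Quotient.eq_zero_iff_mem.2 hpM
  exact ringChar.of_eq ((hp.out.eq_one_or_self_of_dvd _ (ringChar.dvd h0)).resolve_left
    (CharP.ringChar_ne_one))

theorem natCast_mem_iff (n : ℕ) : (n : AlgInt) ∈ M ↔ p ∣ n := by
  haveI := charP_residue hpM
  rw [← Ideal.Quotient.eq_zero_iff_mem, map_natCast, CharP.cast_eq_zero_iff (AlgInt ⧸ M) p]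

theorem memLocalIdeal_natCast_iff (n : ℕ) : MemLocalIdeal M (n : ℂ) ↔ p ∣ n := by
  rw [← natCast_mem_iff hpM n, ← memLocalIdeal_coe_iff]
  simp

theorem memLocalIdeal_intCast_iff (n : ℤ) : MemLocalIdeal M (n : ℂ) ↔ (p : ℤ) ∣ n := by
  haveI := charP_residue hpM
  rw [← red_eq_zero_iff (memLocalRing_intCast n), red_intCast,
    CharP.intCast_eq_zero_iff (AlgInt ⧸ M) p]

theorem memLocalIdeal_p : MemLocalIdeal M (p : ℂ) := (memLocalIdeal_natCast_iff hpM p).2 dvd_rfl

theorem memLocalRing_inv_natCast {n : ℕ} (hn : ¬ p ∣ n) : MemLocalRing M (n : ℂ)⁻¹ :=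
  memLocalRing_inv (memLocalRing_natCast n) (mt (memLocalIdeal_natCast_iff hpM n).1 hn)

theorem natCast_div_exists (a b : ℕ) (ha : a ≠ 0) (hb : b ≠ 0) :
    ∃ u : ℂ, MemLocalRing M u ∧ ¬ MemLocalIdeal M u ∧
      (a : ℂ) / b = u * ((p : ℂ) ^ a.factorization p / (p : ℂ) ^ b.factorization p) := by
  obtain ⟨a', ha', hae⟩ : ∃ a', ¬ p ∣ a' ∧ a = p ^ a.factorization p * a' :=
    ⟨_, Nat.not_dvd_ordCompl hp.out ha, (Nat.ordProj_mul_ordCompl_eq_self a p).symm⟩
  obtain ⟨b', hb', hbe⟩ : ∃ b', ¬ p ∣ b' ∧ b = p ^ b.factorization p * b' :=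
    ⟨_, Nat.not_dvd_ordCompl hp.out hb, (Nat.ordProj_mul_ordCompl_eq_self b p).symm⟩
  have hb0 : (b' : ℂ) ≠ 0 := Nat.cast_ne_zero.2 (fun h => hb' (h ▸ dvd_zero p))
  refine ⟨(a' : ℂ) * (b' : ℂ)⁻¹,
    MemLocalRing.mul (memLocalRing_natCast _) (memLocalRing_inv_natCast hpM hb'), fun h => ?_, ?_⟩
  · have := MemLocalIdeal.mul_right h (memLocalRing_natCast (M := M) b')
    rw [mul_assoc, inv_mul_cancel₀ hb0, mul_one, memLocalIdeal_natCast_iff hpM] at this
    exact ha' this
  · have hpa : (a : ℂ) = (p : ℂ) ^ a.factorization p * a' := by exact_mod_cast hae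
    have hpb : (b : ℂ) = (p : ℂ) ^ b.factorization p * b' := by exact_mod_cast hbe
    have : (p : ℂ) ≠ 0 := Nat.cast_ne_zero.2 hp.out.ne_zero
    rw [hpa, hpb]
    field_simp

theorem memLocalIdeal_natCast_div {a b : ℕ} (ha : a ≠ 0) (hb : b ≠ 0)
    (h : b.factorization p < a.factorization p) : MemLocalIdeal M ((a : ℂ) / b) := by
  obtain ⟨u, hu, -, he⟩ := natCast_div_exists hpM a b ha hb
  obtain ⟨k, hk⟩ : ∃ k, a.factorization p = b.factorization p + k + 1 :=
    ⟨a.factorization p - b.factorization p - 1, by omega⟩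
  have hp0 : (p : ℂ) ≠ 0 := Nat.cast_ne_zero.2 hp.out.ne_zero
  rw [he, hk, pow_succ, pow_add, mul_assoc ((p : ℂ) ^ _), mul_div_cancel_left₀ _ (pow_ne_zero _ hp0),
    ← mul_assoc]
  exact MemLocalIdeal.mul_left (MemLocalRing.mul hu (MemLocalRing.pow (memLocalRing_natCast _) _))
    (memLocalIdeal_p hpM)

theorem memLocalRing_natCast_div {a b : ℕ} (ha : a ≠ 0) (hb : b ≠ 0)
    (h : b.factorization p ≤ a.factorization p) : MemLocalRing M ((a : ℂ) / b) := by
  obtain ⟨u, hu, -, he⟩ := natCast_div_exists hpM a b ha hb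
  have hp0 : (p : ℂ) ≠ 0 := Nat.cast_ne_zero.2 hp.out.ne_zero
  rw [he, ← Nat.add_sub_cancel' h, pow_add, mul_div_cancel_left₀ _ (pow_ne_zero _ hp0)]
  exact MemLocalRing.mul hu (MemLocalRing.pow (memLocalRing_natCast _) _)

theorem not_memLocalIdeal_natCast_div {a b : ℕ} (ha : a ≠ 0) (hb : b ≠ 0)
    (h : b.factorization p = a.factorization p) : ¬ MemLocalIdeal M ((a : ℂ) / b) := by
  intro hI
  have h1 := MemLocalIdeal.mul_right hI (memLocalRing_natCast_div hpM hb ha h.ge)
  rw [div_mul_div_cancel₀ (Nat.cast_ne_zero.2 hb), div_self (Nat.cast_ne_zero.2 ha)] at h1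
  exact not_memLocalIdeal_one h1

theorem memLocalRing_natCast_div_iff {a b : ℕ} (ha : a ≠ 0) (hb : b ≠ 0) :
    MemLocalRing M ((a : ℂ) / b) ↔ b.factorization p ≤ a.factorization p := by
  refine ⟨fun h => ?_, memLocalRing_natCast_div hpM ha hb⟩
  by_contra hlt
  have h1 := MemLocalIdeal.mul_left h (memLocalIdeal_natCast_div hpM hb ha (not_le.1 hlt))
  rw [div_mul_div_cancel₀ (Nat.cast_ne_zero.2 hb), div_self (Nat.cast_ne_zero.2 ha)] at h1
  exact not_memLocalIdeal_one h1

theorem memLocalIdeal_natCast_div_iff {a b : ℕ} (ha : a ≠ 0) (hb : b ≠ 0) :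
    MemLocalIdeal M ((a : ℂ) / b) ↔ b.factorization p < a.factorization p := by
  refine ⟨fun h => ?_, memLocalIdeal_natCast_div hpM ha hb⟩
  rcases lt_or_eq_of_le
    ((memLocalRing_natCast_div_iff hpM ha hb).1 (memLocalRing_of_memLocalIdeal h)) with h' | h'
  · exact h'
  · exact absurd h (not_memLocalIdeal_natCast_div hpM ha hb h')

/-- An integer whose quotient by `p ^ k` is a local integer is divisible by `p ^ k`. -/
theorem pow_dvd_of_memLocalRing_div {n k : ℕ}
    (h : MemLocalRing M ((n : ℂ) / (p : ℂ) ^ k)) : p ^ k ∣ n := by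
  rcases eq_or_ne n 0 with rfl | hn
  · exact dvd_zero _
  rw [← Nat.cast_pow] at h
  have h' := (memLocalRing_natCast_div_iff hpM hn (pow_ne_zero k hp.out.ne_zero)).1 h
  rw [hp.out.factorization_pow, Finsupp.single_eq_same] at h'
  exact (pow_dvd_pow p h').trans (Nat.ordProj_dvd n p)

/-- A complex number divisible in the local ring by every power of `p` is zero. -/
theorem eq_zero_of_forall_div_pow {z : ℂ}
    (h : ∀ N, ∃ k, N ≤ k ∧ MemLocalRing M (z / (p : ℂ) ^ k)) : z = 0 := by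
  have hp0 : (p : ℂ) ≠ 0 := Nat.cast_ne_zero.2 hp.out.ne_zero
  obtain ⟨k₀, -, hk₀⟩ := h 0
  obtain ⟨a, b, hb, hab⟩ : MemLocalRing M z := by
    have := MemLocalRing.mul hk₀ (MemLocalRing.pow (memLocalRing_natCast (M := M) p) k₀)
    rwa [div_mul_cancel₀ _ (pow_ne_zero _ hp0)] at this
  by_contra hz
  have ha : a ≠ 0 := fun ha => hz (by rw [← hab, ha]; simp)
  obtain ⟨c, hc, w, hw⟩ : ∃ c : ℤ, c ≠ 0 ∧ a ∣ algebraMap ℤ AlgInt c :=
    IsAlgebraic.exists_nonzero_dvd ((Algebra.IsIntegral.isIntegral (R := ℤ) a).isAlgebraic)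
      (mem_nonZeroDivisors_of_ne_zero ha)
  obtain ⟨k, hk, hkz⟩ := h (c.natAbs + 1)
  have hcz : (c : ℂ) = z * b * (w : ℂ) := by
    have := congrArg (Subtype.val : AlgInt → ℂ) hw
    rw [← hab, div_mul_cancel₀ _ (coe_ne_zero_of_not_mem hb)]
    simpa using this
  have h1 : MemLocalRing M ((c : ℂ) / (p : ℂ) ^ k) := by
    have := MemLocalRing.mul (MemLocalRing.mul hkz (memLocalRing_coe b)) (memLocalRing_coe w)
    convert this using 1
    rw [hcz]; field_simp
  have h2 : MemLocalRing M ((c.natAbs : ℂ) / (p : ℂ) ^ k) := by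
    rcases Int.natAbs_eq c with hc' | hc'
    · rwa [hc', Int.cast_natCast] at h1
    · rw [hc', Int.cast_neg, Int.cast_natCast, neg_div] at h1
      simpa using MemLocalRing.neg h1
  have h3 := Nat.le_of_dvd (Int.natAbs_pos.2 hc) (pow_dvd_of_memLocalRing_div hpM h2)
  exact absurd h3 (not_le.2 (lt_of_lt_of_le hk (Nat.lt_pow_self hp.out.one_lt).le))

/-- Every element of the residue field is fixed by some power of the Frobenius. -/
theorem exists_pow_eq (x : AlgInt ⧸ M) : ∃ f : ℕ, 0 < f ∧ x ^ p ^ f = x := by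
  classical
  haveI := charP_residue hpM
  letI : Algebra (ZMod p) (AlgInt ⧸ M) := (ZMod.castHom (dvd_refl p) _).toAlgebra
  have hx : IsIntegral (ZMod p) x := by
    obtain ⟨a, rfl⟩ := Ideal.Quotient.mk_surjective x
    have := (Algebra.IsIntegral.isIntegral (R := ℤ) a).map (Ideal.Quotient.mkₐ ℤ M)
    exact this.tower_top
  haveI : FiniteDimensional (ZMod p) (IntermediateField.adjoin (ZMod p) {x}) :=
    IntermediateField.adjoin.finiteDimensional hx
  haveI : Finite (IntermediateField.adjoin (ZMod p) {x}) := Module.finite_of_finite (ZMod p)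
  haveI := Fintype.ofFinite (IntermediateField.adjoin (ZMod p) {x})
  set K := IntermediateField.adjoin (ZMod p) {x}
  obtain ⟨n, -, hn⟩ := FiniteField.card K p
  refine ⟨n, n.pos, ?_⟩
  have := FiniteField.pow_card (⟨x, IntermediateField.mem_adjoin_simple_self _ x⟩ : K)
  rw [hn] at this
  simpa using congrArg (Subtype.val : K → AlgInt ⧸ M) this

end Prime_p

end Cfsg.Agent.Blocks
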