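import Cfsg.Agent.Lib.Blocks.Defect
import Cfsg.Agent.Lib.Char.Clifford
import Cfsg.Agent.Lib.CharInt.Basic
import Cfsg.Agent.Lib.PCore.Basic

/-!
# Blocks and normal subgroups of order prime to `p`
-/

namespace Cfsg.Agent.Blocks

open scoped ComplexConjugate
open Char (resFun orbitFinset orbitSum)

set_option linter.style.haveILetI false
set_option linter.unusedSectionVars false

universe u

variable {G : Type u} [Group G] [Fintype G] {M : Ideal AlgInt} [M.IsMaximal]
  {p : ℕ} [hp : Fact p.Prime] (hpM : (p : AlgInt) ∈ M)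
  (N : Subgroup G) [hN : N.Normal] [Fintype N]
include hpM

/-- Characters in one block lie over the same orbit of a normal `p'`-subgroup. -/
theorem classInner_ne_zero_of_sameBlock (hNp : ¬ p ∣ Nat.card N) {χ ψ : IrrCharacter G}
    (h : SameBlock M χ.1 ψ.1) {θ : IrrCharacter N}
    (hθ : classInner (resFun N χ.1) θ.1 ≠ 0) : classInner (resFun N ψ.1) θ.1 ≠ 0 := by
  classical
  set e := classInner (resFun N χ.1) θ.1 with he
  have hcl := Char.resFun_eq_smul_orbitSum N χ θ hθ
  have h1 := Char.apply_one_eq_mul_card_orbit N χ θ hθ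
  intro hψθ
  have hψ : ∀ η ∈ orbitFinset N θ, classInner (resFun N ψ.1) η.1 = 0 := by
    intro η hη
    obtain ⟨g, rfl⟩ := (Char.mem_orbitFinset N).1 hη
    rw [Char.conjChar_coe, Char.classInner_resFun_conjFun N (irr_classFun ψ), hψθ]
  -- the idempotent of the orbit of `θ`
  let z : MonoidAlgebra ℂ G := ofFun fun g =>
    if g ∈ N then θ.1 1 / ((Nat.card N : ℂ) * e) * conj (χ.1 g) else 0
  have hz : IsCentralElt z := isCentralElt_ofFun fun g x => by
    simp only [irr_classFun χ g x]
    have : x * g * x⁻¹ ∈ N ↔ g ∈ N :=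
      ⟨fun h => by simpa [mul_assoc] using hN.conj_mem _ h x⁻¹, fun h => hN.conj_mem g h x⟩
    simp [this]
  have hee : conj e = e := by
    obtain ⟨m, hm⟩ := Char.IsCharacter.exists_nat_classInner
      (Char.IsCharacter.restrict (Char.irr_isCharacter χ) N) (Char.irr_isCharacter θ)
    rw [he, show classInner (resFun N χ.1) θ.1 = m from hm, map_natCast]
  have hzS : SCoeff M z := scoeff_ofFun fun g => by
    split_ifs with hg
    · have h2 : χ.1 g = e * orbitSum N θ ⟨g, hg⟩ := congrFun hcl ⟨g, hg⟩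
      rw [h2, map_mul, hee, show θ.1 1 / ((Nat.card N : ℂ) * e) * (e * conj (orbitSum N θ ⟨g, hg⟩)) =
        θ.1 1 * (Nat.card N : ℂ)⁻¹ * conj (orbitSum N θ ⟨g, hg⟩) by field_simp]
      refine MemLocalRing.mul (MemLocalRing.mul ?_ (memLocalRing_inv_natCast hpM hNp))
        (memLocalRing_of_isIntegral ?_)
      · rw [Char.apply_one_eq_degree]; exact memLocalRing_natCast _
      · refine IsIntegral.map (starRingEnd ℂ).toIntAlgHom ?_
        rw [orbitSum, Finset.sum_apply]
        exact IsIntegral.sum _ fun η _ => CharInt.isIntegral_char (Char.irr_isCharacter η) _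
    · exact memLocalRing_zero
  have homega : ∀ φ : IrrCharacter G, omega φ.1 z =
      θ.1 1 / (e * φ.1 1) * classInner (resFun N φ.1) (resFun N χ.1) := by
    intro φ
    rw [omega, chiL_eq_sum, classInner]
    simp only [z, coeff_ofFun, ite_mul, zero_mul, Finset.mul_sum, Finset.sum_div, ite_div, zero_div]
    rw [← Finset.sum_filter, Finset.sum_subtype (p := fun g => g ∈ N) _ (fun g => by simp)]
    refine Finset.sum_congr (by congr 1) fun n _ => ?_
    simp only [resFun, div_eq_mul_inv, mul_inv]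
    ring
  have hχ1 : omega χ.1 z = 1 := by
    rw [homega]
    conv_lhs => arg 2; arg 2; rw [hcl]
    rw [Char.classInner_smul_right, hee, orbitSum, Char.classInner_sum_right,
      Finset.sum_congr rfl (g := fun _ => e) fun η hη => ?_, Finset.sum_const, nsmul_eq_mul, h1]
    · have hθ1 : θ.1 1 ≠ 0 := irr_one_ne_zero θ
      have hc : ((orbitFinset N θ).card : ℂ) ≠ 0 :=
        Nat.cast_ne_zero.2 (Finset.card_pos.2 ⟨θ, (Char.mem_orbitFinset N).2
          ⟨1, Subtype.ext (Char.conjFun_one N θ.1).symm⟩⟩).ne'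
      field_simp
      rw [← he, div_self hθ]
    · obtain ⟨g, rfl⟩ := (Char.mem_orbitFinset N).1 hη
      rw [Char.conjChar_coe, Char.classInner_resFun_conjFun N (irr_classFun χ)]
  have hψ0 : omega ψ.1 z = 0 := by
    rw [homega]
    conv_lhs => arg 2; arg 2; rw [hcl]
    rw [Char.classInner_smul_right, orbitSum, Char.classInner_sum_right,
      Finset.sum_eq_zero hψ, mul_zero, mul_zero]
  have := SameBlock.omega_sub h hz hzS
  rw [hχ1, hψ0, sub_zero] at this
  exact not_memLocalIdeal_one this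

/-- A normal `p'`-subgroup in the kernel of one member of a block is in the kernel of all. -/
theorem apply_eq_of_sameBlock (hNp : ¬ p ∣ Nat.card N) {χ ψ : IrrCharacter G}
    (h : SameBlock M χ.1 ψ.1) (hχ : ∀ n ∈ N, χ.1 n = χ.1 1) :
    ∀ n ∈ N, ψ.1 n = ψ.1 1 := by
  classical
  have h0 : classInner (resFun N χ.1) (Char.trivialChar N).1 ≠ 0 := by
    have : resFun N χ.1 = χ.1 1 • (Char.trivialChar N).1 := funext fun n => by
      simp [hχ n n.2]
    rw [this, Char.classInner_smul_left, Char.classInner_irr_self (Char.trivialChar N).2, mul_one]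
    exact irr_one_ne_zero χ
  have h1 := classInner_ne_zero_of_sameBlock hpM N hNp h h0
  have hcl := Char.resFun_eq_smul_orbitSum N ψ _ h1
  intro n hn
  have horb : ∀ m : N, orbitSum N (Char.trivialChar N) m =
      ((orbitFinset N (Char.trivialChar N)).card : ℂ) := fun m => by
    rw [orbitSum, Finset.sum_apply, Finset.sum_congr rfl (g := fun _ => (1 : ℂ)) fun η hη => ?_,
      Finset.sum_const, nsmul_one]
    obtain ⟨g, rfl⟩ := (Char.mem_orbitFinset N).1 hη
    simp [Char.conjFun]
  have e1 := congrFun hcl ⟨n, hn⟩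
  have e2 := congrFun hcl 1
  simp only [Pi.smul_apply, horb] at e1 e2
  exact e1.trans e2.symm

omit hN [Fintype N] in
/-- The kernel of a block. -/
theorem exists_blockKer {B : Set (IrrCharacter G)} (hB : IsPBlock M B) {χ : IrrCharacter G}
    (hχ : χ ∈ B) :
    ∃ K : Subgroup G, K.Normal ∧ (K : Set G) = blockKer B ∧ ¬ p ∣ Nat.card K ∧
      (∀ g ∈ K, χ.1 g = χ.1 1) ∧
      ∀ L : Subgroup G, L.Normal → ¬ p ∣ Nat.card L → (∀ g ∈ L, χ.1 g = χ.1 1) → L ≤ K := by
  classical
  let K : Subgroup G := ⨅ ψ : B, CharInt.charKernel (Char.irr_isCharacter ψ.1)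
  have hmem : ∀ g, g ∈ K ↔ ∀ ψ ∈ B, ψ.1 g = ψ.1 1 := fun g => by
    simp [K, Subgroup.mem_iInf, CharInt.mem_charKernel]
  refine ⟨K, Subgroup.normal_iInf_normal fun ψ => CharInt.charKernel_normal _,
    Set.ext fun g => hmem g, fun hd => ?_, fun g hg => (hmem g).1 hg χ hχ,
    fun L hL hLp hLχ g hg => (hmem g).2 fun ψ hψ => ?_⟩
  · obtain ⟨x, hx⟩ := exists_prime_orderOf_dvd_card' p hd
    have hsing : ¬ IsPRegular p (x : G) := fun h => h (by rw [Subgroup.orderOf_coe, hx])
    have h0 := blockCoeff_eq_zero hpM hB hsing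
    rw [blockCoeff_eq_sum, Finset.sum_congr rfl
      (g := fun ψ : IrrCharacter G => ((Char.degree ψ ^ 2 : ℕ) : ℂ)) fun ψ hψ => ?_,
      mul_eq_zero, inv_eq_zero, Nat.cast_eq_zero, ← Nat.cast_sum, Nat.cast_eq_zero] at h0
    · have hpos : (0 : ℕ) < ∑ ψ ∈ Finset.univ.filter (· ∈ B), Char.degree ψ ^ 2 :=
        Finset.sum_pos (fun ψ _ => pow_pos (Char.degree_pos ψ) 2)
          ⟨χ, Finset.mem_filter.2 ⟨Finset.mem_univ _, hχ⟩⟩
      exact h0.elim Nat.card_pos.ne' hpos.ne'
    · rw [(hmem _).1 x.2 ψ (Finset.mem_filter.1 hψ).2, Char.apply_one_eq_degree, map_natCast]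
      push_cast
      ring
  · haveI := hL
    haveI := Fintype.ofFinite L
    exact apply_eq_of_sameBlock hpM L hLp (sameBlock_of_mem hB hχ hψ) hLχ g hg

omit hN [Fintype N] in
/-- The principal block of a group with a normal `p`-complement. -/
theorem principalBlock_eq_of_index (hnc : ∃ k, (pPrimeCore p G).index = p ^ k) :
    principalBlock M G = {χ : IrrCharacter G | ∀ n ∈ pPrimeCore p G, χ.1 n = χ.1 1} := by
  classical
  set K := pPrimeCore p G
  haveI := Fintype.ofFinite K
  have hKp : ¬ p ∣ Nat.card K := PCore.not_dvd_card_pPrimeCore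
  ext χ
  refine ⟨fun h => apply_eq_of_sameBlock hpM K hKp (χ := Char.trivialChar G) h
    (fun _ _ => rfl), fun h => ?_⟩
  refine sameBlock_of_regular hpM (χ := Char.trivialChar G) fun g hg => ?_
  obtain ⟨k, hk⟩ := hnc
  have hgK : g ∈ K := by
    have h1 : orderOf (g : G ⧸ K) ∣ orderOf g := orderOf_map_dvd (QuotientGroup.mk' K) g
    have h2 : orderOf (g : G ⧸ K) ∣ p ^ k := by
      rw [← hk, Subgroup.index_eq_card]; exact orderOf_dvd_natCard _
    have h3 : Nat.Coprime (p ^ k) (orderOf g) :=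
      Nat.Coprime.pow_left _ ((Nat.Prime.coprime_iff_not_dvd hp.out).2 hg)
    exact (QuotientGroup.eq_one_iff g).1
      (orderOf_eq_one_iff.1 (Nat.eq_one_of_dvd_coprimes h3 h2 h1))
  have : centralChar χ.1 g = centralChar (Char.trivialChar G).1 g := by
    simp [centralChar, h g hgK, mul_div_assoc, div_self (irr_one_ne_zero χ)]
  rw [this, sub_self]
  exact memLocalIdeal_zero

end Cfsg.Agent.Blocks
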