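import Cfsg.Agent.Lib.Blocks.Nilpotent
import Cfsg.Agent.Lib.Blocks.CentralChar

/-!
# The trace lemma behind the second main theorem

If an idempotent `q X` of the group algebra commutes with `h` and every element in the support
of `X` is moved by a `p`-element of `⟨h⟩`, then every local-valued class function vanishes on
`(q X) h`.
-/

set_option linter.style.haveILetI false
set_option linter.unusedSectionVars false

namespace Cfsg.Agent.Blocks

open Cfsg MonoidAlgebra

universe u

variable {G : Type u} [Group G] [Finite G]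

theorem chiL_mul_comm {χ : G → ℂ} (hχ : IsClassFunction G χ) (a b : MonoidAlgebra ℂ G) :
    chiL χ (a * b) = chiL χ (b * a) := by
  haveI := Fintype.ofFinite G
  conv_lhs => rw [eq_sum_single a, eq_sum_single b, Finset.sum_mul]
  conv_rhs => rw [eq_sum_single a, eq_sum_single b, Finset.sum_mul]
  simp only [Finset.mul_sum, MonoidAlgebra.single_mul_single, chiL_sum, chiL_single]
  rw [Finset.sum_comm]
  exact Finset.sum_congr rfl fun x _ => Finset.sum_congr rfl fun y _ => by
    rw [Char.IsClassFunction.apply_mul_comm hχ, mul_comm (a.coeff y) (b.coeff x)]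

variable {M : Ideal AlgInt} [M.IsMaximal]

theorem memLocalRing_chiL {χ : G → ℂ} (hχ : ∀ g, MemLocalRing M (χ g)) {z : MonoidAlgebra ℂ G}
    (hz : SCoeff M z) : MemLocalRing M (chiL χ z) := by
  haveI := Fintype.ofFinite G
  rw [chiL_eq_sum]
  exact MemLocalRing.sum _ fun g _ => MemLocalRing.mul (hz g) (hχ g)

section MonProd

variable {R : Type*}

/-- The ordered product `u 0 * u 1 * ... * u (N - 1)`. -/
def monProd [Monoid R] (u : ℕ → R) : ℕ → R
  | 0 => 1
  | N + 1 => monProd u N * u N

theorem monProd_congr [Monoid R] {u v : ℕ → R} :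
    ∀ N, (∀ i < N, u i = v i) → monProd u N = monProd v N
  | 0, _ => rfl
  | N + 1, h => by
    show monProd u N * u N = monProd v N * v N
    rw [monProd_congr N fun i hi => h i (Nat.lt_succ_of_lt hi), h N (Nat.lt_succ_self N)]

theorem monProd_succ' [Monoid R] (u : ℕ → R) :
    ∀ N, monProd u (N + 1) = u 0 * monProd (fun i => u (i + 1)) N
  | 0 => by simp [monProd]
  | N + 1 => by
    show monProd u (N + 1) * u (N + 1) = u 0 * (monProd (fun i => u (i + 1)) N * u (N + 1))
    rw [monProd_succ' u N, mul_assoc]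

theorem sum_pow_eq_sum_monProd [Semiring R] {ι : Type*} [Fintype ι] (f : ι → R) (u₀ : ι) :
    ∀ N, (∑ i, f i) ^ N = ∑ w : Fin N → ι,
      monProd (fun i => f (if h : i < N then w ⟨i, h⟩ else u₀)) N := by
  classical
  intro N
  induction N with
  | zero => simp [monProd]
  | succ N ih =>
    rw [pow_succ, ih, Finset.sum_mul_sum, ← (Fin.snocEquiv fun _ => ι).sum_comp,
      Fintype.sum_prod_type, Finset.sum_comm]
    refine Finset.sum_congr rfl fun i _ => Finset.sum_congr rfl fun w _ => ?_
    show _ = monProd _ N * f _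
    congr 1
    · refine monProd_congr _ fun j hj => ?_
      rw [dif_pos hj, dif_pos (Nat.lt_succ_of_lt hj)]
      exact congrArg f (Fin.snoc_castSucc (α := fun _ => ι) i w ⟨j, hj⟩).symm
    · rw [dif_pos (Nat.lt_succ_self N)]
      exact congrArg f (Fin.snoc_last (α := fun _ => ι) i w).symm

end MonProd

section Words

variable {p : ℕ} [hp : Fact p.Prime] {N : ℕ} [NeZero N]

/-- The extension of a word of length `N` that increases by one after each round. -/
def wordExt (w : Fin N → ZMod p) (i : ℕ) : ZMod p :=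
  w ⟨i % N, Nat.mod_lt _ (NeZero.pos N)⟩ + ((i / N : ℕ) : ZMod p)

theorem wordExt_of_lt (w : Fin N → ZMod p) {i : ℕ} (h : i < N) : wordExt w i = w ⟨i, h⟩ := by
  simp [wordExt, Nat.mod_eq_of_lt h, Nat.div_eq_of_lt h]

theorem wordExt_add_mul (w : Fin N → ZMod p) (a b : ℕ) :
    wordExt w (a + N * b) = wordExt w a + (b : ZMod p) := by
  simp [wordExt, Nat.add_mul_mod_self_left, Nat.add_mul_div_left _ _ (NeZero.pos N), add_assoc]

/-- The twisted rotation of words. -/
def wordShift (w : Fin N → ZMod p) (k : ℕ) : Fin N → ZMod p := fun i => wordExt w (i + k)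

theorem wordExt_wordShift (w : Fin N → ZMod p) (k j : ℕ) :
    wordExt (wordShift w k) j = wordExt w (j + k) := by
  rw [wordExt]
  show wordExt w (j % N + k) + _ = _
  conv_rhs => rw [show j + k = j % N + k + N * (j / N) by have := Nat.mod_add_div j N; omega]
  rw [wordExt_add_mul]

theorem wordShift_wordShift (w : Fin N → ZMod p) (k l : ℕ) :
    wordShift (wordShift w k) l = wordShift w (l + k) :=
  funext fun i => by
    show wordExt (wordShift w k) _ = wordExt w _
    rw [wordExt_wordShift, Nat.add_assoc]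

theorem wordShift_zero (w : Fin N → ZMod p) : wordShift w 0 = w :=
  funext fun i => by
    show wordExt w _ = _
    rw [Nat.add_zero, wordExt_of_lt w i.2]

theorem wordShift_add_mul (w : Fin N → ZMod p) (k b : ℕ) :
    wordShift w (k + N * b) = fun i => wordShift w k i + (b : ZMod p) :=
  funext fun i => by
    show wordExt w _ = wordExt w _ + _
    rw [← Nat.add_assoc, wordExt_add_mul]

theorem wordShift_add_period (w : Fin N → ZMod p) (k c : ℕ) :
    wordShift w (k + N * (p * c)) = wordShift w k := by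
  rw [wordShift_add_mul]
  simp

end Words

variable {p : ℕ} [hp : Fact p.Prime]

/-- The twisted necklace argument. -/
theorem chiL_mul_single_eq_zero_of_split (hpM : (p : AlgInt) ∈ M) {χ : G → ℂ}
    (hχ : IsClassFunction G χ) (hχS : ∀ g, MemLocalRing M (χ g)) {h : G}
    (f : ZMod p → MonoidAlgebra ℂ G) (hfS : ∀ i, SCoeff M (f i))
    (hrel : ∀ i, MonoidAlgebra.single h (1 : ℂ) * f i = f (i + 1) * MonoidAlgebra.single h 1)
    (hidem : (∑ i, f i) * (∑ i, f i) = ∑ i, f i) :
    chiL χ ((∑ i, f i) * MonoidAlgebra.single h 1) = 0 := by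
  classical
  refine eq_zero_of_forall_div_pow hpM fun n => ⟨n + 1, Nat.le_succ n, ?_⟩
  haveI : NeZero (p ^ n) := ⟨pow_ne_zero n hp.out.ne_zero⟩
  haveI : NeZero (p ^ (n + 1)) := ⟨pow_ne_zero _ hp.out.ne_zero⟩
  have hpow : ∀ k, 1 ≤ k → (∑ i, f i) ^ k = ∑ i, f i := fun k hk => by
    induction k, hk using Nat.le_induction with
    | base => rw [pow_one]
    | succ k _ ih => rw [pow_succ, ih, hidem]
  let Φ : (Fin (p ^ n) → ZMod p) → ℂ := fun w =>
    chiL χ (monProd (fun i => f (wordExt w i)) (p ^ n) * MonoidAlgebra.single h 1)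
  have hexp : chiL χ ((∑ i, f i) * MonoidAlgebra.single h 1) = ∑ w, Φ w := by
    conv_lhs => rw [← hpow _ (Nat.one_le_pow n p hp.out.pos), sum_pow_eq_sum_monProd f 0,
      Finset.sum_mul, chiL_sum]
    refine Finset.sum_congr rfl fun w _ => ?_
    show chiL χ _ = chiL χ _
    congr 2
    exact monProd_congr _ fun i hi => by rw [dif_pos hi, wordExt_of_lt w hi]
  have hinv1 : ∀ w, Φ (wordShift w 1) = Φ w := by
    intro w
    show chiL χ (monProd (fun i => f (wordExt (wordShift w 1) i)) (p ^ n) *
      MonoidAlgebra.single h 1) = chiL χ _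
    simp only [wordExt_wordShift]
    obtain ⟨N', hN'⟩ : ∃ N', p ^ n = N' + 1 :=
      ⟨p ^ n - 1, by have := Nat.one_le_pow n p hp.out.pos; omega⟩
    have hlast : wordExt w (N' + 1) = wordExt w 0 + 1 := by
      have h1 := wordExt_add_mul w 0 1
      rw [zero_add, mul_one, Nat.cast_one] at h1
      exact (congrArg (wordExt w) hN').symm.trans h1
    have hm : ∀ u : ℕ → MonoidAlgebra ℂ G, monProd u (p ^ n) = monProd u (N' + 1) := fun u =>
      congrArg (monProd u) hN'
    rw [hm, hm]
    conv_rhs => rw [monProd_succ', mul_assoc, chiL_mul_comm hχ, mul_assoc, hrel, ← hlast]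
    rw [← mul_assoc]
    rfl
  have hinv : ∀ k w, Φ (wordShift w k) = Φ w := by
    intro k
    induction k with
    | zero => intro w; rw [wordShift_zero]
    | succ k ih => intro w; rw [← ih w, ← hinv1 (wordShift w k), wordShift_wordShift, Nat.add_comm]
  have hper : ∀ (w : Fin (p ^ n) → ZMod p) k,
      wordShift w (k % p ^ (n + 1)) = wordShift w k := by
    intro w k
    conv_rhs => rw [← Nat.mod_add_div k (p ^ (n + 1))]
    rw [show p ^ (n + 1) * (k / p ^ (n + 1)) = p ^ n * (p * (k / p ^ (n + 1))) by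
      rw [pow_succ, mul_assoc], wordShift_add_period]
  letI act : MulAction (Multiplicative (ZMod (p ^ (n + 1)))) (Fin (p ^ n) → ZMod p) :=
    { smul := fun t w => wordShift w (Multiplicative.toAdd t).val
      one_smul := fun w => by
        show wordShift w _ = w
        simp [wordShift_zero]
      mul_smul := fun s t w => by
        show wordShift w (Multiplicative.toAdd (s * t)).val = wordShift (wordShift w _) _
        rw [wordShift_wordShift, toAdd_mul, ZMod.val_add, hper] }
  rw [hexp]
  refine memLocalRing_sum_div_pow (A := Multiplicative (ZMod (p ^ (n + 1)))) Φ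
    (fun w => memLocalRing_chiL hχS (SCoeff.mul ?_ (scoeff_single h memLocalRing_one)))
    (fun t w => hinv _ w) (n + 1) fun w _ => ?_
  · have : ∀ k, SCoeff M (monProd (fun i => f (wordExt w i)) k) := fun k => by
      induction k with
      | zero => exact scoeff_one
      | succ k ih => exact SCoeff.mul ih (hfS _)
    exact this _
  · have hidx : (MulAction.stabilizer (Multiplicative (ZMod (p ^ (n + 1)))) w).index =
        Nat.card (MulAction.orbit (Multiplicative (ZMod (p ^ (n + 1)))) w) := by
      rw [MulAction.index_stabilizer, Nat.card_coe_set_eq]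
    have hdvd := (MulAction.stabilizer (Multiplicative (ZMod (p ^ (n + 1)))) w).index_dvd_card
    rw [hidx, Nat.card_congr Multiplicative.toAdd, Nat.card_zmod] at hdvd
    obtain ⟨j, hj, hje⟩ := (Nat.dvd_prime_pow hp.out).1 hdvd
    rw [hje]
    refine pow_dvd_pow p ?_
    by_contra hlt
    have hmem := (MulAction.stabilizer (Multiplicative (ZMod (p ^ (n + 1)))) w).pow_index_mem
      (Multiplicative.ofAdd ((1 : ℕ) : ZMod (p ^ (n + 1))))
    rw [hidx, hje] at hmem
    have hmem' := Subgroup.pow_mem _ hmem (p ^ (n - j))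
    rw [← pow_mul, ← pow_add, Nat.add_sub_cancel' (by omega : j ≤ n), MulAction.mem_stabilizer_iff,
      ← ofAdd_nsmul] at hmem'
    have h2 := congrFun hmem' 0
    change wordShift w (p ^ n • ((1 : ℕ) : ZMod (p ^ (n + 1)))).val 0 = w 0 at h2
    rw [Nat.cast_one, nsmul_one, ZMod.val_natCast_of_lt (Nat.pow_lt_pow_right hp.out.one_lt
      (Nat.lt_succ_self n))] at h2
    have h3 := congrFun (wordShift_add_mul w 0 1) 0
    rw [zero_add, mul_one, wordShift_zero, Nat.cast_one] at h3
    rw [h3] at h2
    exact one_ne_zero (add_eq_left.1 h2)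

/-- Commuting with a group element, on coefficients. -/
theorem coeff_conj_of_commute {X : MonoidAlgebra ℂ G} {h : G}
    (hX : Commute X (MonoidAlgebra.single h (1 : ℂ))) (y : G) :
    X.coeff (h * y * h⁻¹) = X.coeff y := by
  have := congrArg (fun z => MonoidAlgebra.coeff z (h * y)) hX.eq
  simpa [coeff_single_mul', coeff_mul_single'] using this

/-- **The trace lemma.** -/
theorem chiL_mul_single_eq_zero (hpM : (p : AlgInt) ∈ M) {χ : G → ℂ}
    (hχ : IsClassFunction G χ) (hχS : ∀ g, MemLocalRing M (χ g)) {h z : G}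
    (hzh : z ∈ Subgroup.zpowers h) (hzp : ∃ k, orderOf z = p ^ k)
    {q X : MonoidAlgebra ℂ G} (hqS : SCoeff M q) (hXS : SCoeff M X)
    (hq : Commute q (MonoidAlgebra.single h 1)) (hX : Commute X (MonoidAlgebra.single h 1))
    (hidem : q * X * (q * X) = q * X) (hsupp : ∀ x, X.coeff x ≠ 0 → ¬ Commute z x) :
    chiL χ (q * X * MonoidAlgebra.single h 1) = 0 := by
  classical
  haveI := Fintype.ofFinite G
  letI act : MulAction (Subgroup.zpowers h) G :=
    MulAction.compHom G ((MulAut.conj (G := G)).comp (Subgroup.zpowers h).subtype)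
  let r : G → G := fun x => (Quotient.mk'' x : MulAction.orbitRel.Quotient (Subgroup.zpowers h) G).out
  have hr : ∀ x, ∃ i : ℤ, x = h ^ i * r x * (h ^ i)⁻¹ := by
    intro x
    have : MulAction.orbitRel (Subgroup.zpowers h) G x (r x) :=
      Quotient.eq''.1 (Quotient.out_eq' (Quotient.mk'' x)).symm
    obtain ⟨⟨_, i, rfl⟩, hi⟩ := this
    exact ⟨i, hi.symm⟩
  choose ind hind using hr
  -- exponents fixing a moved element are divisible by `p`
  have hdiv : ∀ x, X.coeff x ≠ 0 → ∀ t : ℤ, Commute (h ^ t) x → (p : ℤ) ∣ t := by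
    intro x hx t ht
    by_contra hpt
    obtain ⟨k, hk⟩ := hzp
    obtain ⟨s, rfl⟩ := hzh
    refine hsupp x hx ?_
    obtain ⟨a, b, hab⟩ : IsCoprime t ((p : ℤ) ^ k) :=
      ((Nat.prime_iff_prime_int.1 hp.out).coprime_iff_not_dvd.2 hpt).symm.pow_right
    have h1 : h ^ s = (h ^ t) ^ (s * a) := by
      calc h ^ s = (h ^ s) ^ (a * t + b * (p : ℤ) ^ k) := by rw [hab, zpow_one]
        _ = (h ^ t) ^ (s * a) := by
          rw [zpow_add, mul_comm b, zpow_mul (h ^ s) ((p : ℤ) ^ k) b, ← Nat.cast_pow, zpow_natCast,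
            ← hk, pow_orderOf_eq_one, one_zpow, mul_one, ← zpow_mul, ← zpow_mul]
          congr 1; ring
    show Commute (h ^ s) x
    rw [h1]
    exact ht.zpow_left _
  have hshift : ∀ x, X.coeff x ≠ 0 → (ind (h * x * h⁻¹) : ZMod p) = (ind x : ZMod p) + 1 := by
    intro x hx
    have hre : r (h * x * h⁻¹) = r x := by
      refine congrArg Quotient.out (Quotient.eq''.2 ?_)
      exact ⟨⟨h, Subgroup.mem_zpowers h⟩, rfl⟩
    have hcm : Commute (h ^ (ind (h * x * h⁻¹) - (ind x + 1))) (h * x * h⁻¹) := by
      have e1 := hind (h * x * h⁻¹)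
      rw [hre] at e1
      have e2 : h * x * h⁻¹ = h ^ (ind x + 1) * r x * (h ^ (ind x + 1))⁻¹ := by
        conv_lhs => rw [hind x]
        group
      generalize h * x * h⁻¹ = y at e1 e2 ⊢
      generalize ind y = A at e1 ⊢
      show _ * _ = _ * _
      rw [← mul_inv_eq_iff_eq_mul]
      conv_lhs => rw [e2]
      conv_rhs => rw [e1]
      group
    have hd := hdiv _ (by rwa [coeff_conj_of_commute hX x]) _ hcm
    rw [← ZMod.intCast_zmod_eq_zero_iff_dvd, Int.cast_sub, sub_eq_zero] at hd
    rw [hd]
    push_cast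
    ring
  let a : ZMod p → MonoidAlgebra ℂ G := fun i =>
    ofFun fun x => if (ind x : ZMod p) = i then X.coeff x else 0
  have hsum : ∑ i, a i = X := alg_ext fun x => by simp [a]
  have ha : ∀ i, MonoidAlgebra.single h (1 : ℂ) * a i = a (i + 1) * MonoidAlgebra.single h 1 := by
    intro i
    refine alg_ext fun y => ?_
    rw [coeff_single_mul', coeff_mul_single', one_mul, mul_one]
    obtain ⟨x, rfl⟩ : ∃ x, y = h * x := ⟨h⁻¹ * y, (mul_inv_cancel_left h y).symm⟩
    simp only [inv_mul_cancel_left, a, coeff_ofFun, coeff_conj_of_commute hX x]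
    by_cases hx : X.coeff x = 0
    · simp [hx]
    · rw [hshift x hx]
      simp
  have hfs : ∑ i, q * a i = q * X := by rw [← Finset.mul_sum, hsum]
  rw [← hfs]
  refine chiL_mul_single_eq_zero_of_split hpM hχ hχS _ (fun i => SCoeff.mul hqS fun x => ?_)
    (fun i => by rw [← mul_assoc, ← hq.eq, mul_assoc, ha i, ← mul_assoc]) (by rw [hfs, hidem])
  simp only [a, coeff_ofFun]
  split_ifs
  exacts [hXS x, memLocalRing_zero]

end Cfsg.Agent.Blocks
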