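import Cfsg.Prelude.Def_Blocks
import Mathlib.GroupTheory.OrderOfElement
import Mathlib.Data.Int.GCD

/-!
# The `p`-part of an element
-/

set_option linter.unusedSectionVars false

namespace Cfsg.Agent.Blocks

open Cfsg

variable {G : Type*} [Group G] [Finite G] {p : ℕ} [hp : Fact p.Prime]

theorem exists_isPPart (g : G) : ∃ x, IsPPart p g x := by
  obtain ⟨n, rfl⟩ : ∃ n, n = orderOf g := ⟨_, rfl⟩
  set P := p ^ (orderOf g).factorization p with hP
  set m := orderOf g / P with hm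
  have hPm : P * m = orderOf g := Nat.ordProj_mul_ordCompl_eq_self _ p
  have hnd : ¬ p ∣ m := Nat.not_dvd_ordCompl hp.out (orderOf_pos g).ne'
  have hcop : Nat.Coprime P m := Nat.Coprime.pow_left _ ((Nat.Prime.coprime_iff_not_dvd hp.out).2 hnd)
  have hb : (1 : ℤ) = (P : ℤ) * P.gcdA m + (m : ℤ) * P.gcdB m := by
    have := Nat.gcd_eq_gcd_ab P m
    rw [hcop.gcd_eq_one] at this
    exact_mod_cast this
  refine ⟨g ^ ((m : ℤ) * P.gcdB m), g ^ ((P : ℤ) * P.gcdA m), ?_, Commute.zpow_zpow_self g _ _,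
    ?_, fun h => hnd (h.trans ?_)⟩
  · rw [← zpow_add, add_comm, ← hb, zpow_one]
  · obtain ⟨k, -, hk⟩ := (Nat.dvd_prime_pow hp.out).1
      (show orderOf (g ^ ((m : ℤ) * P.gcdB m)) ∣ p ^ (orderOf g).factorization p by
        refine orderOf_dvd_of_pow_eq_one ?_
        rw [← hP, ← zpow_natCast, ← zpow_mul,
          show (m : ℤ) * P.gcdB m * (P : ℤ) = ((P * m : ℕ) : ℤ) * P.gcdB m by push_cast; ring,
          zpow_mul, zpow_natCast, hPm, pow_orderOf_eq_one, one_zpow])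
    exact ⟨k, hk⟩
  · refine orderOf_dvd_of_pow_eq_one ?_
    rw [← zpow_natCast, ← zpow_mul,
      show (P : ℤ) * P.gcdA m * (m : ℤ) = ((P * m : ℕ) : ℤ) * P.gcdA m by push_cast; ring,
      zpow_mul, zpow_natCast, hPm, pow_orderOf_eq_one, one_zpow]

theorem IsPPart.mem_zpowers {g x : G} (h : IsPPart p g x) : x ∈ Subgroup.zpowers g := by
  obtain ⟨y, rfl, hc, ⟨k, hk⟩, hy⟩ := h
  have hcop : Nat.Coprime (orderOf x) (orderOf y) := by
    rw [hk]
    exact Nat.Coprime.pow_left _ ((Nat.Prime.coprime_iff_not_dvd hp.out).2 hy)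
  obtain ⟨m, hm⟩ := exists_pow_eq_self_of_coprime (x := x) hcop.symm
  exact ⟨((orderOf y * m : ℕ) : ℤ), by
    show (x * y) ^ ((orderOf y * m : ℕ) : ℤ) = x
    rw [zpow_natCast, hc.mul_pow, pow_mul, pow_mul, hm, pow_orderOf_eq_one, one_pow, mul_one]⟩

theorem eq_one_of_orderOf_dvd_coprime {u : G} {a b : ℕ} (ha : orderOf u ∣ a) (hb : orderOf u ∣ b)
    (hab : Nat.Coprime a b) : u = 1 :=
  orderOf_eq_one_iff.1 (Nat.eq_one_of_dvd_coprimes hab ha hb)

theorem IsPPart.unique {g x x' : G} (h : IsPPart p g x) (h' : IsPPart p g x') : x = x' := by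
  have hx := IsPPart.mem_zpowers h
  have hx' := IsPPart.mem_zpowers h'
  obtain ⟨y, hxy, hc, ⟨k, hk⟩, hy⟩ := h
  obtain ⟨y', hxy', hc', ⟨k', hk'⟩, hy'⟩ := h'
  have hcomm : ∀ {a b : G}, a ∈ Subgroup.zpowers g → b ∈ Subgroup.zpowers g → Commute a b := by
    rintro a b ⟨i, rfl⟩ ⟨j, rfl⟩
    exact Commute.zpow_zpow_self g i j
  have hye : y = x⁻¹ * g := by rw [← hxy, inv_mul_cancel_left]
  have hye' : y' = x'⁻¹ * g := by rw [← hxy', inv_mul_cancel_left]
  have hyg : y ∈ Subgroup.zpowers g := hye ▸ mul_mem (inv_mem hx) (Subgroup.mem_zpowers g)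
  have hyg' : y' ∈ Subgroup.zpowers g := hye' ▸ mul_mem (inv_mem hx') (Subgroup.mem_zpowers g)
  have hu : x⁻¹ * x' = y * y'⁻¹ := by
    rw [eq_mul_inv_iff_mul_eq, mul_assoc, hxy', ← hxy, inv_mul_cancel_left]
  have h1 : orderOf (x⁻¹ * x') ∣ p ^ (k + k') := by
    refine orderOf_dvd_of_pow_eq_one ?_
    have e1 : x ^ p ^ (k + k') = 1 := by rw [pow_add, pow_mul, ← hk, pow_orderOf_eq_one, one_pow]
    have e2 : x' ^ p ^ (k + k') = 1 := by
      rw [pow_add, Nat.mul_comm, pow_mul, ← hk', pow_orderOf_eq_one, one_pow]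
    rw [(hcomm (inv_mem hx) hx').mul_pow, inv_pow, e1, e2, inv_one, one_mul]
  have h2 : orderOf (x⁻¹ * x') ∣ orderOf y * orderOf y' := by
    refine orderOf_dvd_of_pow_eq_one ?_
    rw [hu, (hcomm hyg (inv_mem hyg')).mul_pow, inv_pow, pow_mul, pow_orderOf_eq_one, one_pow,
      Nat.mul_comm, pow_mul, pow_orderOf_eq_one, one_pow, inv_one, one_mul]
  have := eq_one_of_orderOf_dvd_coprime h1 h2 (Nat.Coprime.pow_left _
    ((Nat.Prime.coprime_iff_not_dvd hp.out).2 fun hd => (hp.out.dvd_mul.1 hd).elim hy hy'))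
  exact inv_mul_eq_one.1 this

omit [Finite G] hp in
theorem isPPart_mul {x s : G} (hc : Commute x s) (hx : ∃ k, orderOf x = p ^ k)
    (hs : IsPRegular p s) : IsPPart p (x * s) x := ⟨s, rfl, hc, hx, hs⟩

omit [Finite G] hp in
theorem IsPPart.conj {g x : G} (h : IsPPart p g x) (c : G) :
    IsPPart p (c * g * c⁻¹) (c * x * c⁻¹) := by
  obtain ⟨y, rfl, hc, ⟨k, hk⟩, hy⟩ := h
  refine ⟨c * y * c⁻¹, by group, ?_, ⟨k, ?_⟩, ?_⟩
  · show c * x * c⁻¹ * (c * y * c⁻¹) = c * y * c⁻¹ * (c * x * c⁻¹)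
    calc c * x * c⁻¹ * (c * y * c⁻¹) = c * (x * y) * c⁻¹ := by group
      _ = c * (y * x) * c⁻¹ := by rw [hc.eq]
      _ = _ := by group
  · rw [← hk]; exact MulEquiv.orderOf_eq (MulAut.conj c) x
  · rwa [show orderOf (c * y * c⁻¹) = orderOf y from MulEquiv.orderOf_eq (MulAut.conj c) y]

end Cfsg.Agent.Blocks
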