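import Cfsg.Agent.Lib.Blocks.FirstMain
import Cfsg.Agent.Lib.Blocks.NagaoTrace
import Cfsg.Agent.Lib.Blocks.PPart
import Cfsg.Agent.Lib.CharInt.Basic

/-!
# Brauer's second main theorem and block orthogonality
-/

set_option linter.style.haveILetI false
set_option linter.unusedSectionVars false

namespace Cfsg.Agent.Blocks

open Cfsg MonoidAlgebra
open scoped ComplexConjugate

universe u

variable {G : Type u} [Group G] [Finite G]

theorem memLocalRing_irr {M : Ideal AlgInt} [M.IsPrime] (χ : IrrCharacter G) (g : G) :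
    MemLocalRing M (χ.1 g) :=
  memLocalRing_of_isIntegral (CharInt.isIntegral_char (Char.irr_isCharacter χ) g)

section Incl

variable {R : Type*} [CommRing R]

/-- Extension of coefficients by zero from a subgroup. -/
noncomputable def inclA (H : Subgroup G) : MonoidAlgebra ℂ H →+* MonoidAlgebra ℂ G :=
  MonoidAlgebra.mapDomainRingHom ℂ H.subtype

variable {H : Subgroup G}

theorem inclA_single (k : H) (r : ℂ) :
    inclA H (MonoidAlgebra.single k r) = MonoidAlgebra.single (k : G) r :=
  MonoidAlgebra.mapDomain_single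

theorem coeff_inclA (z : MonoidAlgebra ℂ H) (k : H) : (inclA H z).coeff k = z.coeff k :=
  Finsupp.mapDomain_apply (f := ⇑H.subtype) H.subtype_injective z.coeff k

theorem coeff_inclA_of_notMem (z : MonoidAlgebra ℂ H) {g : G} (hg : g ∉ H) :
    (inclA H z).coeff g = 0 :=
  Finsupp.mapDomain_of_notMem_range (f := ⇑H.subtype) z.coeff g
    (fun ⟨k, hk⟩ => hg (hk ▸ k.2))

theorem scoeff_inclA {M : Ideal AlgInt} [M.IsPrime] {z : MonoidAlgebra ℂ H} (hz : SCoeff M z) :
    SCoeff M (inclA H z) := fun g => by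
  by_cases hg : g ∈ H
  · simpa [← coeff_inclA z ⟨g, hg⟩] using hz ⟨g, hg⟩
  · rw [coeff_inclA_of_notMem z hg]
    exact memLocalRing_zero

theorem chiL_inclA (χ : G → ℂ) (z : MonoidAlgebra ℂ H) :
    chiL χ (inclA H z) = chiL (fun k : H => χ k) z := by
  haveI := Fintype.ofFinite H
  conv_lhs => rw [eq_sum_single z, map_sum, chiL_sum]
  rw [chiL_eq_sum]
  exact Finset.sum_congr rfl fun k _ => by rw [inclA_single, chiL_single]

theorem chiL_mul_single [Fintype G] (χ : G → ℂ) (z : MonoidAlgebra ℂ G) (a : G) :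
    chiL χ (z * MonoidAlgebra.single a 1) = ∑ k : G, z.coeff k * χ (k * a) := by
  rw [chiL_eq_sum]
  refine (Fintype.sum_equiv (Equiv.mulRight a) _ _ fun k => ?_).symm
  simp [coeff_mul_single']

theorem chiL_inclA_mul_single [Fintype H] (χ : G → ℂ) (z : MonoidAlgebra ℂ H) (h : H) :
    chiL χ (inclA H z * MonoidAlgebra.single (h : G) 1) =
      ∑ k : H, z.coeff k * χ ((k : G) * h) := by
  rw [← inclA_single h 1, ← map_mul, chiL_inclA, chiL_mul_single]
  rfl

/-- An element with coefficients invariant under conjugation by `a` commutes with `a`. -/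
theorem commute_single_of_invariant {z : MonoidAlgebra R G} {a : G}
    (h : ∀ x, z.coeff (a * x * a⁻¹) = z.coeff x) : Commute z (MonoidAlgebra.single a 1) :=
  alg_ext fun g => by
    rw [coeff_mul_single', coeff_single_mul', mul_one, one_mul, ← h (a⁻¹ * g)]
    group

/-- An element supported off `H` times one supported on `H` is supported off `H`. -/
theorem coeff_mul_inclA_eq_zero {v : MonoidAlgebra ℂ G} (hv : ∀ g ∈ H, v.coeff g = 0)
    (z : MonoidAlgebra ℂ H) {g : G} (hg : g ∈ H) : (v * inclA H z).coeff g = 0 := by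
  haveI := Fintype.ofFinite G
  rw [coeff_mul_eq_sum]
  refine Finset.sum_eq_zero fun x _ => ?_
  by_cases hx : x ∈ H
  · rw [hv x hx, zero_mul]
  · rw [coeff_inclA_of_notMem z (g := x⁻¹ * g), mul_zero]
    intro hmem
    exact hx (by simpa using H.mul_mem hg (H.inv_mem hmem))

end Incl

section Main

variable {M : Ideal AlgInt} [M.IsMaximal] {p : ℕ} [hp : Fact p.Prime] (hpM : (p : AlgInt) ∈ M)
include hpM

/-- **Brauer's second main theorem**, idempotent form. -/
theorem second_main {H : Subgroup G} {b : Set (IrrCharacter H)} {B : Set (IrrCharacter G)}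
    (hind : IsInducedBlock M H b B) {h : H} {z : G} (hz : IsPPart p (h : G) z)
    (hC : Subgroup.centralizer ({z} : Set G) ≤ H) {χ : IrrCharacter G} (hχ : χ ∉ B) :
    chiL χ.1 (inclA H (blockIdem b) * MonoidAlgebra.single (h : G) 1) = 0 := by
  classical
  haveI := Fintype.ofFinite G
  haveI := Fintype.ofFinite H
  obtain ⟨χ₀, hχ₀⟩ := block_nonempty hind.2.1
  have heB : SCoeff M (blockIdem B) := scoeff_blockIdem hind.2.1
  have heb : SCoeff M (blockIdem b) := scoeff_blockIdem hind.1
  have heBc := isCentralElt_blockIdem B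
  have hebc := isCentralElt_blockIdem b
  set u := resH H (blockIdem B) with hu
  have huc : IsCentralElt u := isCentralElt_resH heBc
  have huS : SCoeff M u := scoeff_resH heB
  -- the unit property on `b`
  have hunit : ∀ η ∈ b, ¬ MemLocalIdeal M (omega η.1 (u * blockIdem b)) := by
    intro η hη hmem
    have h1 := IsInducedBlock.omega_sub hind hη hχ₀ heBc heB
    rw [omega_blockIdem, if_pos hχ₀] at h1
    rw [omega_mul η huc, omega_blockIdem, if_pos hη, mul_one] at hmem
    exact not_memLocalIdeal_one (by simpa [← hu] using MemLocalIdeal.sub hmem h1)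
  have hzero : ∀ η ∉ b, omega η.1 (u * blockIdem b) = 0 := fun η hη => by
    rw [omega_mul η huc, omega_blockIdem, if_neg hη, mul_zero]
  obtain ⟨w, hw, hwS, huw⟩ := exists_mul_eq_blockIdem (IsCentralElt.mul huc hebc)
    (SCoeff.mul huS heb) hunit hzero
  set E := inclA H (blockIdem b) with hE
  set W := inclA H w with hW
  set v := blockIdem B - inclA H u with hv
  have hUEW : inclA H u * (E * W) = E := by rw [hE, hW, ← map_mul, ← map_mul, ← mul_assoc, huw]
  have hEE : E * E = E := by rw [hE, ← map_mul, blockIdem_mul_self]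
  set q := (1 : MonoidAlgebra ℂ G) - blockIdem B with hq
  have hqc : IsCentralElt q := IsCentralElt.sub isCentralElt_one heBc
  have hqq : q * q = q := by
    rw [hq, mul_sub, mul_one, sub_mul, one_mul, blockIdem_mul_self, sub_self, sub_zero]
  set X := -(v * (E * W)) with hX
  have hqX : q * X = q * E := by
    have h1 : q * (blockIdem B * (E * W)) = 0 := by
      rw [← mul_assoc, hq, sub_mul, one_mul, blockIdem_mul_self, sub_self, zero_mul]
    rw [hX, hv, sub_mul (blockIdem B), hUEW, neg_sub, mul_sub, h1, sub_zero]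
  have hinclc : ∀ (t : MonoidAlgebra ℂ H), IsCentralElt t →
      Commute (inclA H t) (MonoidAlgebra.single (h : G) (1 : ℂ)) := fun t ht => by
    rw [← inclA_single h 1]
    exact (IsCentralElt.commute ht _).map (inclA H)
  have hvH : ∀ g ∈ H, v.coeff g = 0 := fun g hg => by
    rw [hv, MonoidAlgebra.coeff_sub, Finsupp.sub_apply]
    rw [show g = ((⟨g, hg⟩ : H) : G) from rfl, coeff_inclA, hu, coeff_resH, sub_self]
  have hvc : Commute v (MonoidAlgebra.single (h : G) (1 : ℂ)) :=
    (IsCentralElt.commute heBc _).sub_left (hinclc u huc)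
  have hXc : Commute X (MonoidAlgebra.single (h : G) (1 : ℂ)) := by
    rw [hX]
    exact (hvc.mul_left ((hinclc _ hebc).mul_left (hinclc _ hw))).neg_left
  have hidem : q * X * (q * X) = q * X := by
    rw [hqX, mul_assoc, ← mul_assoc E, ← (IsCentralElt.commute hqc E).eq, mul_assoc, hEE,
      ← mul_assoc, hqq]
  have hsupp : ∀ x, X.coeff x ≠ 0 → ¬ Commute z x := by
    intro x hx hcomm
    refine hx ?_
    rw [hX, MonoidAlgebra.coeff_neg, Finsupp.neg_apply, hE, hW, ← map_mul,
      coeff_mul_inclA_eq_zero hvH _ (hC (Subgroup.mem_centralizer_singleton_iff.2 hcomm.eq.symm)),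
      neg_zero]
  have hSX : SCoeff M X :=
    SCoeff.neg (SCoeff.mul (SCoeff.sub heB (scoeff_inclA huS))
      (SCoeff.mul (scoeff_inclA heb) (scoeff_inclA hwS)))
  have key := chiL_mul_single_eq_zero hpM (irr_classFun χ) (memLocalRing_irr χ)
    (IsPPart.mem_zpowers hz) (by obtain ⟨y, -, -, hzp, -⟩ := hz; exact hzp)
    (SCoeff.sub scoeff_one heB) hSX (IsCentralElt.commute hqc _) hXc hidem hsupp
  rw [hqX, hq, sub_mul, one_mul, sub_mul, chiL_sub, mul_assoc,
    chiL_mul_of_central χ heBc, omega_blockIdem, if_neg hχ, zero_mul, sub_zero] at key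
  exact key

end Main

/-- Multiplicativity of the sum over a class function against block idempotents. -/
theorem sum_mul_blockCoeff [Fintype G] {θ : G → ℂ} (hθ : IsClassFunction G θ)
    (A : Set (IrrCharacter G)) (y : G) :
    ∑ c : G, θ c * blockCoeff A (c * y⁻¹) = blockPart A θ y := by
  classical
  obtain rfl : ‹Fintype G› = Fintype.ofFinite G := Subsingleton.elim _ _
  letI := Fintype.ofFinite G
  have h1 : ∀ χ : IrrCharacter G, ∑ c : G, θ c * (χ.1 1 * conj (χ.1 (c * y⁻¹))) =
      (∑ c : G, θ c * conj (χ.1 c)) * χ.1 y := by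
    intro χ
    set z : MonoidAlgebra ℂ G := ofFun fun a => θ a⁻¹ with hz
    have hzc : IsCentralElt z := isCentralElt_ofFun fun g h => by
      rw [show (h * g * h⁻¹)⁻¹ = h * g⁻¹ * h⁻¹ by group, hθ]
    have h2 := chiL_mul_of_central χ hzc (MonoidAlgebra.single y 1)
    rw [omega, chiL_single, one_mul, chiL_mul_single, chiL_eq_sum, div_mul_eq_mul_div,
      eq_div_iff (irr_one_ne_zero χ)] at h2
    simp only [hz, coeff_ofFun] at h2
    rw [← Equiv.sum_comp (Equiv.inv G), ← Equiv.sum_comp (Equiv.inv G) fun a => θ a⁻¹ * χ.1 a] at h2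
    simp only [Equiv.inv_apply, inv_inv] at h2
    simp only [Char.IsCharacter.conj_apply (Char.irr_isCharacter χ), mul_inv_rev, inv_inv]
    rw [← h2, Finset.sum_mul]
    refine Finset.sum_congr rfl fun c _ => ?_
    rw [Char.IsClassFunction.apply_mul_comm (irr_classFun χ) c⁻¹ y]
    ring
  rw [blockPart, finsum_mem_eq_sum_of_inter_support_eq _
    (t := Finset.univ.filter (· ∈ A)) (by ext; simp)]
  simp only [blockCoeff_eq_sum, Finset.mul_sum]
  rw [Finset.sum_comm]
  refine Finset.sum_congr rfl fun χ _ => ?_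
  rw [classInner, mul_assoc, ← h1 χ, Finset.mul_sum]
  exact Finset.sum_congr (by ext; simp) fun c _ => by ring

section Decomp

variable {M : Ideal AlgInt} [M.IsMaximal]

open Classical in
theorem chiL_eq_sum_blocks {H : Subgroup G} (χ : G → ℂ) (g : H) :
    χ g = ∑ b ∈ Finset.univ.image (fun η : IrrCharacter H => blockOf M η.1),
      chiL χ (inclA H (blockIdem b) * MonoidAlgebra.single (g : G) 1) := by
  rw [← chiL_sum, ← Finset.sum_mul, ← map_sum, sum_blockIdem_eq_one, map_one, one_mul,
    chiL_single, one_mul]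

/-- A union of blocks. -/
def IsBlockUnion (M : Ideal AlgInt) (U : Set (IrrCharacter G)) : Prop :=
  ∀ η ∈ U, blockOf M η.1 ⊆ U

theorem IsBlockUnion.compl {U : Set (IrrCharacter G)} (hU : IsBlockUnion M U) :
    IsBlockUnion M Uᶜ := by
  intro η hη ψ hψ hψU
  exact hη (hU ψ hψU (by rw [← blockOf_eq (mem_blockOf.1 hψ)]; exact mem_blockOf_self η))

open Classical in
theorem IsBlockUnion.sum_eq {U : Set (IrrCharacter G)} (hU : IsBlockUnion M U)
    (f : IrrCharacter G → ℂ) :
    ∑ η ∈ Finset.univ.filter (· ∈ U), f η =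
      ∑ b ∈ (Finset.univ.filter (· ∈ U)).image (fun η => blockOf M η.1),
        ∑ η ∈ Finset.univ.filter (· ∈ b), f η := by
  refine (Finset.sum_fiberwise_of_maps_to (g := fun η : IrrCharacter G => blockOf M η.1)
    (t := (Finset.univ.filter (· ∈ U)).image (fun η : IrrCharacter G => blockOf M η.1))
    (fun η hη => Finset.mem_image_of_mem _ hη) f).symm.trans ?_
  refine Finset.sum_congr rfl fun b hb => Finset.sum_congr ?_ fun _ _ => rfl
  obtain ⟨ψ, hψ, rfl⟩ := Finset.mem_image.1 hb
  ext η
  simp only [Finset.mem_filter, Finset.mem_univ, true_and] at hψ ⊢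
  exact ⟨fun h => h.2 ▸ mem_blockOf_self η,
    fun h => ⟨hU ψ hψ h, (block_eq (isPBlock_blockOf ψ) h).symm⟩⟩

open Classical in
theorem IsBlockUnion.blockIdem_eq {U : Set (IrrCharacter G)} (hU : IsBlockUnion M U) :
    blockIdem U = ∑ b ∈ (Finset.univ.filter (· ∈ U)).image (fun η => blockOf M η.1), blockIdem b :=
  alg_ext fun g => by
    simp only [MonoidAlgebra.coeff_sum, Finsupp.coe_finsetSum, Finset.sum_apply, coeff_blockIdem,
      blockCoeff_eq_sum]
    rw [hU.sum_eq, Finset.mul_sum]

variable {p : ℕ} [hp : Fact p.Prime] (hpM : (p : AlgInt) ∈ M)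
include hpM

open Classical in
/-- Weak orthogonality for unions of blocks. -/
theorem IsBlockUnion.weak_orth {U : Set (IrrCharacter G)} (hU : IsBlockUnion M U) {x y : G}
    (hx : IsPRegular p x) (hy : ¬ IsPRegular p y) :
    ∑ η ∈ Finset.univ.filter (· ∈ U), η.1 x * conj (η.1 y) = 0 := by
  rw [hU.sum_eq]
  refine Finset.sum_eq_zero fun b hb => ?_
  obtain ⟨ψ, -, rfl⟩ := Finset.mem_image.1 hb
  convert weak_orthogonality hpM (isPBlock_blockOf ψ) hx hy

variable {x : G} (hx : ∃ k, orderOf x = p ^ k)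
include hx

omit hpM in
theorem isPGroup_zpowers : IsPGroup p (Subgroup.zpowers x) := by
  obtain ⟨k, hk⟩ := hx
  exact IsPGroup.of_card (n := k) (by rw [Nat.card_zpowers, hk])

omit hpM hx in
theorem zpowers_le_centralizer : Subgroup.zpowers x ≤ Subgroup.centralizer ({x} : Set G) :=
  Subgroup.zpowers_le.2 (Subgroup.mem_centralizer_singleton_iff.2 rfl)

omit hpM hx in
theorem centralizer_zpowers_eq :
    Subgroup.centralizer (Subgroup.zpowers x : Set G) = Subgroup.centralizer ({x} : Set G) := by
  refine le_antisymm (Subgroup.centralizer_le (by simp)) fun g hg q hq => ?_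
  obtain ⟨i, rfl⟩ := hq
  have : Commute g x := Subgroup.mem_centralizer_singleton_iff.1 hg
  exact (this.zpow_right i).eq.symm

omit hx in
theorem inducedBlockDefined_centralizer (hx : ∃ k, orderOf x = p ^ k)
    {b : Set (IrrCharacter (Subgroup.centralizer ({x} : Set G)))} (hb : IsPBlock M b) :
    InducedBlockDefined M (Subgroup.centralizer ({x} : Set G)) b :=
  inducedBlockDefined_of_le hpM (isPGroup_zpowers hx) centralizer_zpowers_eq.le
    (centralizer_zpowers_eq.ge.trans (Subgroup.centralizer_le_normalizer _))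
    zpowers_le_centralizer hb

omit hx in
theorem second_main_centralizer (hx : ∃ k, orderOf x = p ^ k)
    {b : Set (IrrCharacter (Subgroup.centralizer ({x} : Set G)))} (hb : IsPBlock M b)
    {χ : IrrCharacter G} (hnot : ¬ IsInducedBlock M (Subgroup.centralizer ({x} : Set G)) b
      (blockOf M χ.1))
    {h : Subgroup.centralizer ({x} : Set G)} (hh : IsPPart p (h : G) x) :
    chiL χ.1 (inclA _ (blockIdem b) * MonoidAlgebra.single (h : G) 1) = 0 := by
  obtain ⟨B, hB⟩ := inducedBlockDefined_centralizer hpM hx hb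
  refine second_main hpM hB hh le_rfl fun hχ => hnot ?_
  rwa [← block_eq hB.2.1 hχ]

/-- The union of the blocks of `C(x)` inducing `B`. -/
def inducingSet (M : Ideal AlgInt) (H : Subgroup G) (B : Set (IrrCharacter G)) :
    Set (IrrCharacter H) := {η | IsInducedBlock M H (blockOf M η.1) B}

omit hpM hx in
theorem isBlockUnion_inducingSet (H : Subgroup G) (B : Set (IrrCharacter G)) :
    IsBlockUnion M (inducingSet M H B) := fun η hη ψ hψ => by
  show IsInducedBlock M H (blockOf M ψ.1) B
  rw [← blockOf_eq (mem_blockOf.1 hψ)]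
  exact hη

open Classical in
omit hx in
theorem chiL_inducingSet (hx : ∃ k, orderOf x = p ^ k) {B : Set (IrrCharacter G)}
    (hB : IsPBlock M B) (χ : IrrCharacter G) {g : Subgroup.centralizer ({x} : Set G)}
    (hg : IsPPart p (g : G) x) :
    chiL χ.1 (inclA _ (blockIdem (inducingSet M (Subgroup.centralizer ({x} : Set G)) B)) *
      MonoidAlgebra.single (g : G) 1) = if χ ∈ B then χ.1 g else 0 := by
  have hU := isBlockUnion_inducingSet (M := M) (Subgroup.centralizer ({x} : Set G)) B
  by_cases hχ : χ ∈ B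
  · rw [if_pos hχ, chiL_eq_sum_blocks (M := M) χ.1 g, hU.blockIdem_eq, map_sum, Finset.sum_mul,
      chiL_sum]
    refine Finset.sum_subset (Finset.image_subset_image (Finset.subset_univ _)) fun b hb hnb => ?_
    obtain ⟨ψ, -, rfl⟩ := Finset.mem_image.1 hb
    refine second_main_centralizer hpM hx (isPBlock_blockOf ψ) ?_ hg
    rw [← block_eq hB hχ]
    exact fun h => hnb (Finset.mem_image.2 ⟨ψ, Finset.mem_filter.2 ⟨Finset.mem_univ _, h⟩, rfl⟩)
  · rw [if_neg hχ, hU.blockIdem_eq, map_sum, Finset.sum_mul, chiL_sum]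
    refine Finset.sum_eq_zero fun b hb => ?_
    obtain ⟨ψ, hψ, rfl⟩ := Finset.mem_image.1 hb
    exact second_main hpM (Finset.mem_filter.1 hψ).2 hg le_rfl hχ

open Classical in
omit hx in
/-- Block orthogonality, local form: the sum over `B` of `χ g conj χ h` for `g` with `p`-part `x`. -/
theorem sum_block_mul_conj [Fintype (Subgroup.centralizer ({x} : Set G))]
    (hx : ∃ k, orderOf x = p ^ k) {B : Set (IrrCharacter G)} (hB : IsPBlock M B)
    {s : Subgroup.centralizer ({x} : Set G)} (hs : IsPRegular p s) (h : G) :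
    ∑ χ ∈ Finset.univ.filter (· ∈ B), χ.1 (x * s) * conj (χ.1 h) =
      (Nat.card (Subgroup.centralizer ({h} : Set G)) : ℂ) *
        (Nat.card (Subgroup.centralizer ({x} : Set G)) : ℂ)⁻¹ *
        ∑ c ∈ Finset.univ.filter (fun c : Subgroup.centralizer ({x} : Set G) => IsConj (c : G) h),
          ∑ η ∈ Finset.univ.filter (· ∈ inducingSet M (Subgroup.centralizer ({x} : Set G)) B),
            η.1 s * conj (η.1 ((⟨x, Subgroup.mem_centralizer_singleton_iff.2 rfl⟩ :
              Subgroup.centralizer ({x} : Set G))⁻¹ * c)) := by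
  haveI := Fintype.ofFinite G
  let x' : Subgroup.centralizer ({x} : Set G) := ⟨x, Subgroup.mem_centralizer_singleton_iff.2 rfl⟩
  let U := inducingSet M (Subgroup.centralizer ({x} : Set G)) B
  have hxs : IsPPart p ((x' * s : Subgroup.centralizer ({x} : Set G)) : G) x := isPPart_mul
    (Subgroup.mem_centralizer_singleton_iff.1 s.2).symm hx
    (by
      show ¬ p ∣ orderOf (s : G)
      rw [Subgroup.orderOf_coe]
      exact hs)
  have step1 : ∑ χ ∈ Finset.univ.filter (· ∈ B), χ.1 (x * s) * conj (χ.1 h) =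
      ∑ χ : IrrCharacter G, chiL χ.1 (inclA _ (blockIdem U) *
        MonoidAlgebra.single ((x' * s : Subgroup.centralizer ({x} : Set G)) : G) 1) * conj (χ.1 h) := by
    rw [Finset.sum_filter]
    refine Finset.sum_congr rfl fun χ _ => ?_
    rw [chiL_inducingSet hpM hx hB χ hxs, ite_mul, zero_mul]
    rfl
  rw [step1]
  simp only [chiL_inclA_mul_single, Finset.sum_mul, mul_assoc, coeff_blockIdem]
  rw [Finset.sum_comm]
  simp only [← Finset.mul_sum, Char.sum_irr_mul_conj]
  let θ : Subgroup.centralizer ({x} : Set G) → ℂ := fun c => if IsConj (c : G) h then 1 else 0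
  have hθ : IsClassFunction (Subgroup.centralizer ({x} : Set G)) θ := fun c a => if_congr
    ⟨fun hc => (isConj_iff.2 ⟨(a : G), by simp⟩ : IsConj (c : G) _).trans hc,
      fun hc => (isConj_iff.2 ⟨(a : G), by simp⟩ : IsConj (c : G) _).symm.trans hc⟩ rfl rfl
  trans (Nat.card (Subgroup.centralizer ({h} : Set G)) : ℂ) *
    ∑ c : Subgroup.centralizer ({x} : Set G), θ c * blockCoeff U (c * (x' * s)⁻¹)
  · rw [Finset.mul_sum]
    refine Fintype.sum_equiv (Equiv.mulRight (x' * s)) _ _ fun k => ?_
    simp only [Equiv.coe_mulRight, mul_inv_cancel_right, Subgroup.coe_mul, θ, mul_ite, ite_mul,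
      mul_one, one_mul, mul_zero, zero_mul]
    exact if_congr Iff.rfl (mul_comm _ _) rfl
  · rw [sum_mul_blockCoeff hθ, blockPart, finsum_mem_eq_sum_of_inter_support_eq _
      (t := Finset.univ.filter (· ∈ U)) (by ext; simp), Finset.sum_comm]
    simp only [classInner, Finset.mul_sum, Finset.sum_mul]
    refine Finset.sum_congr rfl fun η _ => ?_
    rw [Finset.sum_filter]
    refine Finset.sum_congr (by ext; simp) fun c _ => ?_
    have hcent : IsCentralElt (MonoidAlgebra.single x' (1 : ℂ)) := fun a b => by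
      have hb : x' * b = b * x' := Subtype.ext
        (Subgroup.mem_centralizer_singleton_iff.1 b.2).symm
      simp only [MonoidAlgebra.coeff_single, Finsupp.single_apply]
      refine if_congr ⟨fun e => ?_, fun e => ?_⟩ rfl rfl
      · rw [e] at hb
        calc x' = b * a * b⁻¹ := e
          _ = a := by
            refine mul_left_cancel (a := b) ?_
            calc b * (b * a * b⁻¹) = b * a * b⁻¹ * b := hb.symm
              _ = b * a := inv_mul_cancel_right _ _
      · rw [← e, ← hb, mul_inv_cancel_right]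
    have key : η.1 (x' * s) * η.1 c⁻¹ = η.1 s * η.1 (x' * c⁻¹) := by
      have e1 := chiL_mul_of_central η hcent (MonoidAlgebra.single s 1)
      have e2 := chiL_mul_of_central η hcent (MonoidAlgebra.single c⁻¹ 1)
      simp only [MonoidAlgebra.single_mul_single, chiL_single, one_mul, omega] at e1 e2
      rw [e1, e2]
      ring
    simp only [θ, Char.IsCharacter.conj_apply (Char.irr_isCharacter η)]
    split_ifs with hc
    · rw [show ((⟨x, _⟩ : Subgroup.centralizer ({x} : Set G))⁻¹ * c)⁻¹ = c⁻¹ * x' by rw [mul_inv_rev, inv_inv],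
        Char.IsClassFunction.apply_mul_comm (irr_classFun η) c⁻¹ x']
      linear_combination (Nat.card (Subgroup.centralizer ({h} : Set G)) : ℂ) *
        (Nat.card (Subgroup.centralizer ({x} : Set G)) : ℂ)⁻¹ * key
    · ring

end Decomp

section Consequences

variable {M : Ideal AlgInt} [M.IsMaximal] {p : ℕ} [hp : Fact p.Prime] (hpM : (p : AlgInt) ∈ M)

omit hpM [Finite G] in
theorem exists_regular_factor {g x : G} (hg : IsPPart p g x) :
    ∃ s : Subgroup.centralizer ({x} : Set G), x * (s : G) = g ∧ IsPRegular p s := by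
  obtain ⟨y, hxy, hc, -, hy⟩ := hg
  exact ⟨⟨y, Subgroup.mem_centralizer_singleton_iff.2 hc.eq.symm⟩, hxy,
    by rwa [IsPRegular, ← Subgroup.orderOf_coe]⟩

omit hpM in
/-- An element of `C(x)` whose `x`-translate is `p`-regular has `p`-part `x`. -/
theorem isPPart_of_regular {x : G} (hx : ∃ k, orderOf x = p ^ k)
    (c : Subgroup.centralizer ({x} : Set G))
    (hr : IsPRegular p ((⟨x, Subgroup.mem_centralizer_singleton_iff.2 rfl⟩ :
      Subgroup.centralizer ({x} : Set G))⁻¹ * c)) : IsPPart p (c : G) x := by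
  have h1 : Commute x (x⁻¹ * (c : G)) := by
    have := Subgroup.mem_centralizer_singleton_iff.1 c.2
    show x * (x⁻¹ * c) = x⁻¹ * c * x
    rw [mul_inv_cancel_left, mul_assoc, this, inv_mul_cancel_left]
  refine ⟨x⁻¹ * c, mul_inv_cancel_left _ _, h1, hx, ?_⟩
  rw [IsPRegular, ← Subgroup.orderOf_coe] at hr
  exact hr

omit hpM in
theorem IsPPart.isPElement {g x : G} (h : IsPPart p g x) : ∃ k, orderOf x = p ^ k := by
  obtain ⟨y, -, -, hx, -⟩ := h
  exact hx

include hpM

open Classical in
/-- Block orthogonality. -/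
theorem block_orthogonality {g h x y : G} (hg : IsPPart p g x) (hh : IsPPart p h y)
    (hxy : ¬ IsConj x y) {B : Set (IrrCharacter G)} (hB : IsPBlock M B) :
    ∑ χ ∈ Finset.univ.filter (· ∈ B), χ.1 g * conj (χ.1 h) = 0 := by
  haveI := Fintype.ofFinite (Subgroup.centralizer ({x} : Set G))
  obtain ⟨s, rfl, hs⟩ := exists_regular_factor hg
  rw [sum_block_mul_conj hpM (IsPPart.isPElement hg) hB hs h, Finset.sum_eq_zero, mul_zero]
  intro c hc
  refine IsBlockUnion.weak_orth hpM (isBlockUnion_inducingSet _ _) hs fun hr => hxy ?_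
  obtain ⟨n, hn⟩ := isConj_iff.1 (Finset.mem_filter.1 hc).2
  have h1 := IsPPart.conj (isPPart_of_regular (IsPPart.isPElement hg) c hr) n
  rw [hn] at h1
  exact isConj_iff.2 ⟨n, IsPPart.unique h1 hh⟩

open Classical in
/-- The second main theorem as an orthogonality: sums over `B` on a `p`-section. -/
theorem second_main_orth {x : G} (hx : ∃ k, orderOf x = p ^ k) {B : Set (IrrCharacter G)}
    (hB : IsPBlock M B) {s s' : Subgroup.centralizer ({x} : Set G)} (hs : IsPRegular p s)
    (hs' : IsPRegular p s') :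
    ∑ χ ∈ Finset.univ.filter (· ∈ B), χ.1 (x * s) * conj (χ.1 (x * s')) =
      ∑ η ∈ Finset.univ.filter (· ∈ inducingSet M (Subgroup.centralizer ({x} : Set G)) B),
        η.1 s * conj (η.1 s') := by
  haveI := Fintype.ofFinite (Subgroup.centralizer ({x} : Set G))
  set T := ∑ η ∈ Finset.univ.filter (· ∈ inducingSet M (Subgroup.centralizer ({x} : Set G)) B),
    η.1 s * conj (η.1 s') with hT
  let x' : Subgroup.centralizer ({x} : Set G) := ⟨x, Subgroup.mem_centralizer_singleton_iff.2 rfl⟩
  have hh : IsPPart p (x * (s' : G)) x := isPPart_mul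
    (Subgroup.mem_centralizer_singleton_iff.1 s'.2).symm hx
    (by show ¬ p ∣ orderOf (s' : G); rw [Subgroup.orderOf_coe]; exact hs')
  rw [sum_block_mul_conj hpM hx hB hs (x * (s' : G))]
  rw [← Finset.sum_subset (s₁ := Finset.univ.filter fun c => IsConj (x' * s') c)]
  rotate_left
  · intro c hc
    refine Finset.mem_filter.2 ⟨Finset.mem_univ _, ?_⟩
    obtain ⟨a, ha⟩ := isConj_iff.1 (Finset.mem_filter.1 hc).2
    exact (isConj_iff.2 ⟨(a : G), congrArg Subtype.val ha⟩ : IsConj (x * (s' : G)) (c : G)).symm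
  · intro c hc hnc
    refine IsBlockUnion.weak_orth hpM (isBlockUnion_inducingSet _ _) hs fun hr => hnc ?_
    obtain ⟨n, hn⟩ := isConj_iff.1 (Finset.mem_filter.1 hc).2
    have h1 := IsPPart.conj (isPPart_of_regular hx c hr) n
    rw [hn] at h1
    have h2 : n * x * n⁻¹ = x := IsPPart.unique h1 hh
    have hnC : n ∈ Subgroup.centralizer ({x} : Set G) :=
      Subgroup.mem_centralizer_singleton_iff.2 (mul_inv_eq_iff_eq_mul.1 h2)
    exact Finset.mem_filter.2 ⟨Finset.mem_univ _,
      (isConj_iff.2 ⟨⟨n, hnC⟩, Subtype.ext hn⟩ : IsConj c (x' * s')).symm⟩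
  rw [Finset.sum_congr rfl (g := fun _ => T), Finset.sum_const, nsmul_eq_mul]
  swap
  · intro c hc
    obtain ⟨a, rfl⟩ := isConj_iff.1 (Finset.mem_filter.1 hc).2
    refine Finset.sum_congr rfl fun η _ => ?_
    have hx'a : a * x' = x' * a := Subtype.ext (Subgroup.mem_centralizer_singleton_iff.1 a.2)
    have hcx : x'⁻¹ * a = a * x'⁻¹ := by
      rw [inv_mul_eq_iff_eq_mul, ← mul_assoc, ← hx'a, mul_inv_cancel_right]
    rw [show x'⁻¹ * (a * (x' * s') * a⁻¹) = a * s' * a⁻¹ by
      rw [← mul_assoc, ← mul_assoc, hcx, mul_assoc a, inv_mul_cancel_left]]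
    rw [irr_classFun η]
  have hcard : Nat.card (Subgroup.centralizer ({x * (s' : G)} : Set G)) =
      Nat.card (Subgroup.centralizer ({x' * s'} : Set (Subgroup.centralizer ({x} : Set G)))) := by
    refine (Nat.card_congr (Equiv.ofBijective (fun c => (⟨((c.1 : Subgroup.centralizer ({x} : Set G)) : G),
      Subgroup.mem_centralizer_singleton_iff.2 (congrArg Subtype.val
        (Subgroup.mem_centralizer_singleton_iff.1 c.2))⟩ :
          Subgroup.centralizer ({x * (s' : G)} : Set G))) ⟨?_, ?_⟩)).symm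
    · intro c d e
      exact Subtype.ext (Subtype.ext (congrArg Subtype.val e :))
    · intro g
      have hgx : (g : G) ∈ Subgroup.centralizer ({x} : Set G) := by
        obtain ⟨i, hi⟩ := IsPPart.mem_zpowers hh
        have : Commute (g : G) (x * (s' : G)) := Subgroup.mem_centralizer_singleton_iff.1 g.2
        have h3 := (this.zpow_right i).eq
        rw [show (x * (s' : G)) ^ i = x from hi] at h3
        exact Subgroup.mem_centralizer_singleton_iff.2 h3
      exact ⟨⟨⟨g, hgx⟩, Subgroup.mem_centralizer_singleton_iff.2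
        (Subtype.ext (Subgroup.mem_centralizer_singleton_iff.1 g.2))⟩, rfl⟩
  rw [show (Finset.univ.filter fun c => IsConj (x' * s') c).card =
      (Subgroup.centralizer ({x' * s'} : Set (Subgroup.centralizer ({x} : Set G)))).index by
    rw [← card_isConj_eq_index, Nat.card_eq_fintype_card, Fintype.card_subtype], hcard]
  have hpos : (Nat.card (Subgroup.centralizer ({x} : Set G)) : ℂ) ≠ 0 :=
    Nat.cast_ne_zero.2 Nat.card_pos.ne'
  rw [← Subgroup.card_mul_index (Subgroup.centralizer ({x' * s'} :
    Set (Subgroup.centralizer ({x} : Set G)))), Nat.cast_mul] at hpos ⊢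
  obtain ⟨ha, hb⟩ := mul_ne_zero_iff.1 hpos
  field_simp

/-- A character vanishes at `g` when the `p`-part of `g` is in no defect group of its block. -/
theorem eq_zero_of_not_mem_defectGroup {χ : IrrCharacter G} {g x : G} (hg : IsPPart p g x)
    (hD : ∀ D, IsDefectGroup p M (blockOf M χ.1) D → x ∉ D) : χ.1 g = 0 := by
  classical
  obtain ⟨s, hs, hsr⟩ := exists_regular_factor hg
  have hgC : g ∈ Subgroup.centralizer ({x} : Set G) :=
    hs ▸ Subgroup.mul_mem _ (Subgroup.mem_centralizer_singleton_iff.2 rfl) s.2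
  rw [chiL_eq_sum_blocks (M := M) χ.1 ⟨g, hgC⟩]
  refine Finset.sum_eq_zero fun b hb => ?_
  obtain ⟨ψ, -, rfl⟩ := Finset.mem_image.1 hb
  refine second_main_centralizer hpM (IsPPart.isPElement hg) (isPBlock_blockOf ψ) (fun hind => ?_) hg
  obtain ⟨D, hD', a, ha⟩ := (exists_isInducedBlock_iff hpM
    (isPGroup_zpowers (IsPPart.isPElement hg)) zpowers_le_centralizer centralizer_zpowers_eq.le
    (centralizer_zpowers_eq.ge.trans (Subgroup.centralizer_le_normalizer _))
    (isPBlock_blockOf χ)).1 ⟨_, hind⟩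
  refine hD _ (IsDefectGroup.conj hD' a⁻¹) ?_
  rw [mem_map_conj]
  have h1 := ha (Subgroup.mem_map_of_mem _ (Subgroup.mem_zpowers x))
  simpa using h1

open Classical in
/-- The `B`-part of a function vanishing on a `p`-section vanishes there. -/
theorem blockPart_eq_zero_of_section {θ : G → ℂ} {x : G}
    (hθ : ∀ u z : G, IsPPart p u z → IsConj x z → θ u = 0) {B : Set (IrrCharacter G)}
    (hB : IsPBlock M B) {u z : G} (hu : IsPPart p u z) (hxz : IsConj x z) :
    blockPart B θ u = 0 := by
  letI := Fintype.ofFinite G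
  rw [blockPart, finsum_mem_eq_sum_of_inter_support_eq _
    (t := Finset.univ.filter (· ∈ B)) (by ext; simp)]
  simp only [classInner, Finset.mul_sum, Finset.sum_mul]
  rw [Finset.sum_comm]
  refine Finset.sum_eq_zero fun v _ => ?_
  by_cases hv : θ v = 0
  · simp [hv]
  obtain ⟨w, hw⟩ := exists_isPPart (p := p) v
  have hne : ¬ IsConj z w := fun h => hv (hθ v w hw (hxz.trans h))
  calc ∑ χ ∈ Finset.univ.filter (· ∈ B), (Nat.card G : ℂ)⁻¹ * (θ v * conj (χ.1 v)) * χ.1 u
      = (Nat.card G : ℂ)⁻¹ * θ v *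
          ∑ χ ∈ Finset.univ.filter (· ∈ B), χ.1 u * conj (χ.1 v) := by
        rw [Finset.mul_sum]
        exact Finset.sum_congr rfl fun χ _ => by ring
    _ = 0 := by rw [block_orthogonality hpM hu hw hne hB, mul_zero]

end Consequences

end Cfsg.Agent.Blocks
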