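import Cfsg.Agent.Lib.Blocks.Nilpotent
import Cfsg.Agent.Lib.Blocks.CentralChar
import Cfsg.Agent.Lib.CharInt.Basic

/-!
# The core of the theory of blocks

Osima's theorem, weak block orthogonality, independence of the maximal ideal, regular classes
determine blocks, orthogonality over regular elements.
-/

set_option linter.style.haveILetI false
set_option linter.unusedSectionVars false

namespace Cfsg.Agent.Blocks

open Cfsg MonoidAlgebra
open scoped ComplexConjugate

universe u

variable {G : Type u} [Group G] [Finite G] {M : Ideal AlgInt}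

section Equivalence

theorem SameBlock.symm [M.IsPrime] {χ ψ : G → ℂ} (h : SameBlock M χ ψ) : SameBlock M ψ χ :=
  fun g => by simpa using MemLocalIdeal.neg (h g)

theorem SameBlock.trans [M.IsPrime] {χ ψ φ : G → ℂ} (h₁ : SameBlock M χ ψ)
    (h₂ : SameBlock M ψ φ) : SameBlock M χ φ :=
  fun g => by simpa using MemLocalIdeal.add (h₁ g) (h₂ g)

theorem sameBlock_refl [M.IsPrime] (χ : G → ℂ) : SameBlock M χ χ :=
  fun g => by simpa using memLocalIdeal_zero (M := M)

theorem mem_blockOf {χ : G → ℂ} {ψ : IrrCharacter G} :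
    ψ ∈ blockOf M χ ↔ SameBlock M χ ψ.1 := Iff.rfl

variable [M.IsPrime]

theorem mem_blockOf_self (χ : IrrCharacter G) : χ ∈ blockOf M χ.1 := sameBlock_refl _

theorem isPBlock_blockOf (χ : IrrCharacter G) : IsPBlock M (blockOf M χ.1) := ⟨χ, rfl⟩

theorem blockOf_eq {χ ψ : G → ℂ} (h : SameBlock M χ ψ) : blockOf M χ = blockOf M ψ :=
  Set.ext fun _ => ⟨fun h' => SameBlock.trans (SameBlock.symm h) h', fun h' => SameBlock.trans h h'⟩

theorem block_eq {B : Set (IrrCharacter G)} (hB : IsPBlock M B) {χ : IrrCharacter G}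
    (hχ : χ ∈ B) : B = blockOf M χ.1 := by
  obtain ⟨ψ, rfl⟩ := hB
  exact blockOf_eq hχ

theorem block_nonempty {B : Set (IrrCharacter G)} (hB : IsPBlock M B) : B.Nonempty := by
  obtain ⟨ψ, rfl⟩ := hB
  exact ⟨ψ, mem_blockOf_self ψ⟩

theorem sameBlock_of_mem {B : Set (IrrCharacter G)} (hB : IsPBlock M B) {χ ψ : IrrCharacter G}
    (hχ : χ ∈ B) (hψ : ψ ∈ B) : SameBlock M χ.1 ψ.1 := by
  rw [block_eq hB hχ] at hψ
  exact hψ

theorem not_sameBlock_of_mem {B : Set (IrrCharacter G)} (hB : IsPBlock M B) {χ ψ : IrrCharacter G}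
    (hχ : χ ∈ B) (hψ : ψ ∉ B) : ¬ SameBlock M χ.1 ψ.1 := fun h => hψ (by
  rw [block_eq hB hχ]; exact h)

theorem block_eq_of_mem {B B' : Set (IrrCharacter G)} (hB : IsPBlock M B) (hB' : IsPBlock M B')
    {χ : IrrCharacter G} (h : χ ∈ B) (h' : χ ∈ B') : B = B' := by
  rw [block_eq hB h, block_eq hB' h']

/-- Congruent central characters agree on all central local elements. -/
theorem SameBlock.omega_sub {χ ψ : IrrCharacter G} (h : SameBlock M χ.1 ψ.1)
    {z : MonoidAlgebra ℂ G} (hz : IsCentralElt z) (hS : SCoeff M z) :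
    MemLocalIdeal M (omega χ.1 z - omega ψ.1 z) := by
  haveI := Fintype.ofFinite (ConjClasses G)
  rw [omega_eq_sum_classes χ hz, omega_eq_sum_classes ψ hz, ← Finset.sum_sub_distrib]
  refine MemLocalIdeal.sum _ fun C _ => ?_
  rw [← mul_sub]
  exact MemLocalIdeal.mul_left (hS _) (h _)

/-- Two irreducible characters in different blocks are separated by a central local element. -/
theorem exists_separating {χ ψ : IrrCharacter G} (h : ¬ SameBlock M χ.1 ψ.1) :
    ∃ z : MonoidAlgebra ℂ G, IsCentralElt z ∧ SCoeff M z ∧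
      omega χ.1 z = 1 ∧ omega ψ.1 z = 0 := by
  simp only [SameBlock, not_forall] at h
  obtain ⟨g, hg⟩ := h
  have hd : MemLocalRing M (centralChar χ.1 g - centralChar ψ.1 g) :=
    MemLocalRing.sub (memLocalRing_centralChar χ g) (memLocalRing_centralChar ψ g)
  have hd0 := ne_zero_of_not_memLocalIdeal hg
  refine ⟨(centralChar χ.1 g - centralChar ψ.1 g)⁻¹ •
      (classSum ℂ g - centralChar ψ.1 g • 1),
    IsCentralElt.smul _ (IsCentralElt.sub (isCentralElt_classSum g)
      (IsCentralElt.smul _ isCentralElt_one)),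
    SCoeff.smul (memLocalRing_inv hd hg) (SCoeff.sub (scoeff_classSum g)
      (SCoeff.smul (memLocalRing_centralChar ψ g) scoeff_one)), ?_, ?_⟩
  · rw [omega_smul, Blocks.omega_sub, omega_classSum (irr_classFun χ), omega_smul, omega_one,
      mul_one, inv_mul_cancel₀ hd0]
  · rw [omega_smul, Blocks.omega_sub, omega_classSum (irr_classFun ψ), omega_smul, omega_one,
      mul_one, sub_self, mul_zero]

/-- **Osima**: block idempotents have local integral coefficients. -/
theorem scoeff_blockIdem {B : Set (IrrCharacter G)} (hB : IsPBlock M B) :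
    SCoeff M (blockIdem B) := by
  classical
  obtain ⟨χ₀, rfl⟩ := hB
  have key : ∀ s : Finset (IrrCharacter G), (∀ ψ ∈ s, ψ ∉ blockOf M χ₀.1) →
      ∃ u : MonoidAlgebra ℂ G, IsCentralElt u ∧ SCoeff M u ∧ omega χ₀.1 u = 1 ∧
        ∀ ψ ∈ s, omega ψ.1 u = 0 := by
    intro s
    induction s using Finset.induction with
    | empty => exact fun _ => ⟨1, isCentralElt_one, scoeff_one, omega_one χ₀, by simp⟩
    | insert χ s hχ ih =>
      intro hs
      obtain ⟨u, hu, huS, hu1, hu0⟩ := ih fun ψ hψ => hs ψ (Finset.mem_insert_of_mem hψ)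
      obtain ⟨z, hz, hzS, hz1, hz0⟩ := exists_separating (M := M) (χ := χ₀) (ψ := χ)
        (hs χ (Finset.mem_insert_self _ _))
      refine ⟨u * z, IsCentralElt.mul hu hz, SCoeff.mul huS hzS,
        by rw [omega_mul χ₀ hu, hu1, hz1, mul_one], fun ψ hψ => ?_⟩
      rw [omega_mul ψ hu]
      rcases Finset.mem_insert.1 hψ with rfl | hψ'
      · rw [hz0, mul_zero]
      · rw [hu0 ψ hψ', zero_mul]
  obtain ⟨u, hu, huS, hu1, hu0⟩ :=
    key (Finset.univ.filter (· ∉ blockOf M χ₀.1)) (fun ψ hψ => (Finset.mem_filter.1 hψ).2)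
  obtain ⟨w, hw, hwS, he⟩ := exists_mul_eq_blockIdem (A := blockOf M χ₀.1) hu huS
    (fun ψ hψ hI => not_memLocalIdeal_one (M := M) <| by
      have := MemLocalIdeal.add (SameBlock.omega_sub (χ := χ₀) (ψ := ψ) hψ hu huS) hI
      rwa [sub_add_cancel, hu1] at this)
    (fun ψ hψ => hu0 ψ (by simp [hψ]))
  rw [← he]
  exact SCoeff.mul huS hwS

theorem memLocalRing_blockCoeff {B : Set (IrrCharacter G)} (hB : IsPBlock M B) (g : G) :
    MemLocalRing M (blockCoeff B g) := by
  simpa [coeff_blockIdem] using scoeff_blockIdem hB g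

/-- A set with local integral idempotent is a union of blocks. -/
theorem blockOf_subset_of_scoeff {A : Set (IrrCharacter G)} (hA : SCoeff M (blockIdem A))
    {χ : IrrCharacter G} (hχ : χ ∈ A) : blockOf M χ.1 ⊆ A := by
  intro ψ hψ
  by_contra hn
  have h := SameBlock.omega_sub (χ := χ) (ψ := ψ) hψ (isCentralElt_blockIdem A) hA
  rw [omega_blockIdem, omega_blockIdem, if_pos hχ, if_neg hn, sub_zero] at h
  exact not_memLocalIdeal_one h

end Equivalence

section Prime

variable [M.IsMaximal] {p : ℕ} [hp : Fact p.Prime] (hpM : (p : AlgInt) ∈ M)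

theorem exists_large_pow_eq {x : G} (hx : IsPRegular p x) :
    ∀ n₀, ∃ n, n₀ ≤ n ∧ x ^ p ^ n = x := by
  intro n₀
  have h := Nat.ModEq.pow_totient ((Nat.Prime.coprime_iff_not_dvd hp.out).2 hx)
  refine ⟨(Nat.totient (orderOf x)) * (n₀ + 1), ?_, ?_⟩
  · calc n₀ ≤ 1 * (n₀ + 1) := by omega
      _ ≤ _ := Nat.mul_le_mul_right _ (Nat.totient_pos.2 (orderOf_pos x))
  · have h2 : p ^ ((Nat.totient (orderOf x)) * (n₀ + 1)) ≡ 1 [MOD orderOf x] := by
      simpa [pow_mul] using h.pow (n₀ + 1)
    conv_rhs => rw [← pow_one x]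
    exact pow_eq_pow_iff_modEq.2 h2

include hpM

/-- Sum of `blockCoeff` against a conjugacy class translate. -/
theorem chiL_classSum_mul_single (χ : IrrCharacter G) (y x : G) :
    chiL χ.1 (classSum ℂ y * MonoidAlgebra.single x 1) =
      centralChar χ.1 y * χ.1 x := by
  rw [chiL_mul_of_central χ (isCentralElt_classSum y), omega_classSum (irr_classFun χ), chiL_single,
    one_mul]

open Classical in
theorem sum_class_blockCoeff [Fintype G] (A : Set (IrrCharacter G)) (x y : G) :
    ∑ h : G, (if IsConj y h then blockCoeff A (h * x⁻¹) else 0) =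
      (Nat.card G : ℂ)⁻¹ * ((Subgroup.centralizer ({y} : Set G)).index : ℂ) *
        ∑ χ ∈ Finset.univ.filter (· ∈ A), χ.1 x * conj (χ.1 y) := by
  have h1 : ∀ χ : IrrCharacter G, ∑ h : G, (if IsConj y h then χ.1 1 * conj (χ.1 (h * x⁻¹)) else 0) =
      ((Subgroup.centralizer ({y} : Set G)).index : ℂ) * (χ.1 x * conj (χ.1 y)) := by
    intro χ
    have h2 := chiL_classSum_mul_single hpM χ y x⁻¹
    rw [chiL_eq_sum] at h2
    simp only [coeff_mul_single', mul_one, inv_inv, coeff_classSum, ite_mul, one_mul, zero_mul] at h2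
    rw [← Equiv.sum_comp (Equiv.mulRight x⁻¹)] at h2
    simp only [Equiv.coe_mulRight, inv_mul_cancel_right] at h2
    have h3 := congrArg (starRingEnd ℂ) h2
    rw [map_sum] at h3
    have hd : conj (χ.1 1) = χ.1 1 := by rw [Char.apply_one_eq_degree, map_natCast]
    calc ∑ h : G, (if IsConj y h then χ.1 1 * conj (χ.1 (h * x⁻¹)) else 0)
        = χ.1 1 * ∑ h : G, conj (if IsConj y h then χ.1 (h * x⁻¹) else 0) := by
          rw [Finset.mul_sum]
          exact Finset.sum_congr rfl fun h _ => by split_ifs <;> simp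
      _ = _ := by
        rw [h3, centralChar, map_mul, map_div₀, map_mul, map_natCast, hd,
          Char.IsCharacter.conj_apply (Char.irr_isCharacter χ) x⁻¹, inv_inv]
        field_simp [irr_one_ne_zero χ]
  simp only [blockCoeff_eq_sum, mul_assoc]
  calc ∑ h : G, (if IsConj y h then (Nat.card G : ℂ)⁻¹ *
        ∑ χ ∈ Finset.univ.filter (· ∈ A), χ.1 1 * conj (χ.1 (h * x⁻¹)) else 0)
      = (Nat.card G : ℂ)⁻¹ * ∑ χ ∈ Finset.univ.filter (· ∈ A), ∑ h : G,
          (if IsConj y h then χ.1 1 * conj (χ.1 (h * x⁻¹)) else 0) := by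
        rw [Finset.sum_comm, Finset.mul_sum]
        exact Finset.sum_congr rfl fun h _ => by split_ifs <;> simp
    _ = _ := by rw [Finset.sum_congr rfl fun χ _ => h1 χ, ← Finset.mul_sum]

omit [M.IsMaximal] hpM in
theorem not_isPRegular_iff {g : G} : ¬ IsPRegular p g ↔ p ∣ orderOf g := not_not

/-- **Weak block orthogonality**. -/
theorem weak_orthogonality {B : Set (IrrCharacter G)} (hB : IsPBlock M B) {x y : G}
    (hx : IsPRegular p x) (hy : ¬ IsPRegular p y) [DecidablePred (· ∈ B)] :
    ∑ χ ∈ Finset.univ.filter (· ∈ B), χ.1 x * conj (χ.1 y) = 0 := by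
  classical
  haveI := Fintype.ofFinite G
  have hcomm : Commute (blockIdem B) (MonoidAlgebra.single x (1 : ℂ)) :=
    IsCentralElt.commute (isCentralElt_blockIdem B) _
  have h0 := sum_mul_eq_zero_of_pow_eq (p := p) hpM
    (a := blockIdem B * MonoidAlgebra.single x 1)
    (SCoeff.mul (scoeff_blockIdem hB) (scoeff_single x memLocalRing_one))
    (fun n₀ => by
      obtain ⟨n, hn, hnx⟩ := exists_large_pow_eq (p := p) hx n₀
      refine ⟨n, hn, ?_⟩
      rw [hcomm.mul_pow, blockIdem_pow B (Nat.one_le_pow _ _ hp.out.pos), MonoidAlgebra.single_pow,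
        one_pow, hnx])
    (φ := fun h => if IsConj y h then 1 else 0)
    (fun g h => by convert Char.isClassFunction_indicator y g h)
    (fun g => by split_ifs <;> [exact memLocalRing_one; exact memLocalRing_zero])
    (fun g hg => if_neg fun hc => hy (by
      obtain ⟨c, rfl⟩ := isConj_iff.1 hc
      rwa [IsPRegular, show c * y * c⁻¹ = MulAut.conj c y from rfl, MulEquiv.orderOf_eq] at hg))
  simp only [coeff_mul_single', coeff_blockIdem, mul_one, mul_ite, mul_zero] at h0
  rw [show ∑ h : G, (if IsConj y h then blockCoeff B (h * x⁻¹) else 0) = _ from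
    sum_class_blockCoeff hpM B x y] at h0
  have hG : (Nat.card G : ℂ) ≠ 0 := Nat.cast_ne_zero.2 Nat.card_pos.ne'
  have hi : (((Subgroup.centralizer ({y} : Set G)).index : ℕ) : ℂ) ≠ 0 :=
    Nat.cast_ne_zero.2 Subgroup.index_ne_zero_of_finite
  convert (mul_eq_zero.1 h0).resolve_left (mul_ne_zero (inv_ne_zero hG) hi)

/-- Block idempotents are supported on `p`-regular elements. -/
theorem blockCoeff_eq_zero {B : Set (IrrCharacter G)} (hB : IsPBlock M B) {g : G}
    (hg : ¬ IsPRegular p g) : blockCoeff B g = 0 := by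
  classical
  rw [blockCoeff_eq_sum, weak_orthogonality hpM hB (x := 1) ?_ hg, mul_zero]
  simp [IsPRegular, hp.out.ne_one]

/-- A set of characters with weak orthogonality has local integral idempotent at every
maximal ideal over `p`. -/
theorem scoeff_of_weak_orthogonality (A : Set (IrrCharacter G)) [DecidablePred (· ∈ A)]
    (h : ∀ x y : G, IsPRegular p x → ¬ IsPRegular p y →
      ∑ χ ∈ Finset.univ.filter (· ∈ A), χ.1 x * conj (χ.1 y) = 0) :
    SCoeff M (blockIdem A) := by
  classical
  haveI := Fintype.ofFinite G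
  intro g
  rw [coeff_blockIdem, blockCoeff_eq_sum]
  by_cases hg : IsPRegular p g
  swap
  · rw [h 1 g (by simp [IsPRegular, hp.out.ne_one]) hg, mul_zero]
    exact memLocalRing_zero
  let P : Sylow p G := default
  haveI := Fintype.ofFinite (P : Subgroup G)
  have hgi : IsPRegular p g⁻¹ := by rwa [IsPRegular, orderOf_inv]
  have hint : ∀ χ : IrrCharacter G, ∃ m : ℕ,
      ∑ u : (P : Subgroup G), conj (χ.1 u) = (Nat.card (P : Subgroup G) : ℂ) * m := by
    intro χ
    obtain ⟨m, hm⟩ := Char.IsCharacter.exists_nat_classInner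
      (Char.IsCharacter.restrict (Char.irr_isCharacter χ) (P : Subgroup G)) Char.isCharacter_one
    refine ⟨m, ?_⟩
    have hm' := congrArg (starRingEnd ℂ) hm
    simp only [classInner, map_one, mul_one, map_mul, map_inv₀, map_natCast, map_sum] at hm'
    rw [← hm', ← mul_assoc, mul_inv_cancel₀ Char.card_ne_zero, one_mul]
  choose m hm using hint
  have h1 : ∑ χ ∈ Finset.univ.filter (· ∈ A), χ.1 1 * conj (χ.1 g) =
      (Nat.card (P : Subgroup G) : ℂ) *
        ∑ χ ∈ Finset.univ.filter (· ∈ A), χ.1 g⁻¹ * (m χ : ℂ) := by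
    rw [Finset.mul_sum]
    calc ∑ χ ∈ Finset.univ.filter (· ∈ A), χ.1 1 * conj (χ.1 g)
        = ∑ u : (P : Subgroup G),
            ∑ χ ∈ Finset.univ.filter (· ∈ A), χ.1 g⁻¹ * conj (χ.1 u) := by
          rw [Finset.sum_eq_single (1 : (P : Subgroup G))]
          · refine Finset.sum_congr rfl fun χ _ => ?_
            rw [Char.IsCharacter.conj_apply (Char.irr_isCharacter χ) g, Subgroup.coe_one,
              Char.apply_one_eq_degree, map_natCast, mul_comm]
          · intro u _ hu
            refine h _ _ hgi fun hreg => hu ?_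
            obtain ⟨k, hk⟩ := IsPGroup.iff_orderOf.1 P.isPGroup' u
            rcases Nat.eq_zero_or_pos k with rfl | hk'
            · rwa [pow_zero, orderOf_eq_one_iff] at hk
            · exact absurd (by rw [Subgroup.orderOf_coe, hk]; exact dvd_pow_self p hk'.ne') hreg
          · exact fun hn => absurd (Finset.mem_univ _) hn
      _ = _ := by
        rw [Finset.sum_comm]
        exact Finset.sum_congr rfl fun χ _ => by rw [← Finset.mul_sum, hm χ]; ring
  rw [h1, ← mul_assoc, inv_mul_eq_div]
  refine MemLocalRing.mul ?_ (MemLocalRing.sum _ fun χ _ => MemLocalRing.mul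
    (memLocalRing_of_isIntegral ?_) (memLocalRing_natCast _))
  · refine memLocalRing_natCast_div hpM Nat.card_pos.ne' Nat.card_pos.ne' ?_
    rw [Sylow.card_eq_multiplicity, hp.out.factorization_pow, Finsupp.single_eq_same]
  · exact CharInt.isIntegral_char (Char.irr_isCharacter χ) _

/-- The partition into blocks does not depend on the maximal ideal over `p`. -/
theorem sameBlock_indep {M' : Ideal AlgInt} [M'.IsMaximal] (hpM' : (p : AlgInt) ∈ M')
    {χ ψ : IrrCharacter G} (h : SameBlock M χ.1 ψ.1) : SameBlock M' χ.1 ψ.1 := by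
  classical
  exact blockOf_subset_of_scoeff (scoeff_of_weak_orthogonality hpM (blockOf M' χ.1)
    fun x y hx hy => weak_orthogonality hpM' (isPBlock_blockOf χ) hx hy) (mem_blockOf_self χ)
    (show ψ ∈ blockOf M χ.1 from h)

/-- Blocks are determined by the `p`-regular classes. -/
theorem sameBlock_of_regular {χ ψ : IrrCharacter G}
    (h : ∀ g, IsPRegular p g → MemLocalIdeal M (centralChar χ.1 g - centralChar ψ.1 g)) :
    SameBlock M χ.1 ψ.1 := by
  classical
  haveI := Fintype.ofFinite (ConjClasses G)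
  by_contra hn
  refine not_memLocalIdeal_one (M := M) ?_
  have hB := isPBlock_blockOf (M := M) χ
  have h1 : omega χ.1 (blockIdem (blockOf M χ.1)) - omega ψ.1 (blockIdem (blockOf M χ.1)) = 1 := by
    rw [omega_blockIdem, omega_blockIdem, if_pos (mem_blockOf_self χ),
      if_neg (show ψ ∉ blockOf M χ.1 from hn), sub_zero]
  rw [← h1, omega_eq_sum_classes χ (isCentralElt_blockIdem _),
    omega_eq_sum_classes ψ (isCentralElt_blockIdem _), ← Finset.sum_sub_distrib]
  refine MemLocalIdeal.sum _ fun C _ => ?_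
  rw [← mul_sub, coeff_blockIdem]
  by_cases hC : IsPRegular p C.out
  · exact MemLocalIdeal.mul_left (memLocalRing_blockCoeff hB _) (h _ hC)
  · rw [blockCoeff_eq_zero hpM hB hC, zero_mul]
    exact memLocalIdeal_zero

/-- Orthogonality over the `p`-regular elements between different blocks. -/
theorem regular_orthogonality [Fintype G] {χ ψ : IrrCharacter G} (h : ¬ SameBlock M χ.1 ψ.1)
    [DecidablePred (IsPRegular p : G → Prop)] :
    ∑ x ∈ Finset.univ.filter (IsPRegular p), χ.1 x * conj (ψ.1 x) = 0 := by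
  classical
  set S := Finset.univ.filter (IsPRegular p : G → Prop) with hS
  set T := Finset.univ.filter (· ∈ blockOf M χ.1) with hT
  have hxi : ∀ x ∈ S, ∑ η ∈ T, conj (η.1 x) * ∑ y ∈ S, η.1 y * conj (ψ.1 y) = 0 := by
    intro x hx
    have hxr : IsPRegular p x := (Finset.mem_filter.1 hx).2
    calc ∑ η ∈ T, conj (η.1 x) * ∑ y ∈ S, η.1 y * conj (ψ.1 y)
        = ∑ η ∈ T, conj (η.1 x) * ∑ y, η.1 y * conj (ψ.1 y) := by
          simp only [Finset.mul_sum]
          rw [Finset.sum_comm, Finset.sum_comm (s := T)]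
          refine Finset.sum_subset (Finset.subset_univ _) fun y _ hy => ?_
          have h2 := congrArg (starRingEnd ℂ) (weak_orthogonality hpM (isPBlock_blockOf χ) hxr
            (y := y) (by simpa [hS] using hy))
          simp only [map_sum, map_mul, Complex.conj_conj, map_zero] at h2
          simp only [← mul_assoc, ← Finset.sum_mul]
          rw [h2, zero_mul]
      _ = 0 := Finset.sum_eq_zero fun η hη => by
        have hne : η ≠ ψ := fun he => h (he ▸ (Finset.mem_filter.1 hη).2)
        have := Char.classInner_irr η ψ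
        rw [classInner, if_neg hne, mul_eq_zero] at this
        rw [this.resolve_left (inv_ne_zero Char.card_ne_zero), mul_zero]
  have hsq : ∑ η ∈ T, Complex.normSq (∑ y ∈ S, η.1 y * conj (ψ.1 y)) = 0 := by
    apply Complex.ofReal_injective
    push_cast
    simp only [← Complex.mul_conj]
    calc ∑ η ∈ T, (∑ y ∈ S, η.1 y * conj (ψ.1 y)) * conj (∑ y ∈ S, η.1 y * conj (ψ.1 y))
        = ∑ x ∈ S, ψ.1 x * ∑ η ∈ T, conj (η.1 x) * ∑ y ∈ S, η.1 y * conj (ψ.1 y) := by
          simp only [map_sum, map_mul, Complex.conj_conj, Finset.mul_sum, Finset.sum_mul]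
          rw [Finset.sum_comm (s := S) (t := T)]
          refine Finset.sum_congr rfl fun η _ => Finset.sum_congr rfl fun x _ => ?_
          exact Finset.sum_congr rfl fun y _ => by ring
      _ = 0 := Finset.sum_eq_zero fun x hx => by rw [hxi x hx, mul_zero]
  have := (Finset.sum_eq_zero_iff_of_nonneg fun η _ => Complex.normSq_nonneg _).1 hsq χ
    (by simp [hT, mem_blockOf_self])
  exact Complex.normSq_eq_zero.1 this

/-- The principal block is the block of the trivial character. -/
theorem isPBlock_principalBlock : IsPBlock M (principalBlock M G) := ⟨Char.trivialChar G, rfl⟩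

end Prime

end Cfsg.Agent.Blocks
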