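import Cfsg.Agent.Lib.Blocks.Defect
import Cfsg.Agent.Lib.BlockCount.Criterion
import Cfsg.Agent.Lib.PCore.HallHigman
import Cfsg.Agent.Lib.Char.KernelSum
import Cfsg.Agent.Lib.Char.Descend

/-!
# Principal blocks of `p`-constrained groups

If `C(O_p(G)) ≤ O_p(G)` then `G` has one `p`-block. In general the principal block of `G` is that
of `G/H`, `H` a normal `p'`-subgroup; hence for `p`-constrained `G` it is `Irr(G/O_{p'}(G))`.
-/

set_option autoImplicit false
set_option linter.style.haveILetI false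

namespace Cfsg.Agent.BlockCount

open Cfsg

universe u

variable {G : Type u} [Group G] [Fintype G] {p : ℕ} [Fact p.Prime] {M : Ideal AlgInt}

theorem mem_principalBlock_of_centralizer_le (hM : IsPModular p M) {Q : Subgroup G} [Q.Normal]
    (hQ : IsPGroup p Q) (hC : Subgroup.centralizer (Q : Set G) ≤ Q) (χ : IrrCharacter G) :
    χ ∈ principalBlock M G := by
  haveI := hM.2.1
  haveI : Fintype Q := Fintype.ofFinite Q
  show χ ∈ blockOf M (fun _ => (1 : ℂ))
  refine Blocks.mem_blockOf.2 ?_
  have key : ∀ (ψ : IrrCharacter G) (g : G), IsPRegular p g → g ≠ 1 →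
      MemLocalIdeal M (centralChar ψ.1 g) := fun ψ g hg hg1 => by
    by_contra hn
    obtain ⟨x, hx, hxQ⟩ := Blocks.exists_conj_mem_centralizer hM.2.2 hQ hn
    obtain ⟨c, rfl⟩ := isConj_iff.1 hx
    have hgQ : g ∈ Q := by
      have := Subgroup.Normal.conj_mem ‹Q.Normal› _ (hC hxQ) c⁻¹
      simpa [mul_assoc] using this
    obtain ⟨k, hk⟩ := (hQ.exists_orderOf_eq_pow ⟨g, hgQ⟩ : ∃ k, orderOf (⟨g, hgQ⟩ : Q) = p ^ k)
    rw [Subgroup.orderOf_mk] at hk
    rcases k with _ | k
    · exact hg1 (orderOf_eq_one_iff.1 (by rw [hk, pow_zero]))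
    · exact hg (by rw [hk, pow_succ]; exact dvd_mul_left p _)
  have h := Blocks.sameBlock_of_regular hM.2.2 (χ := χ) (ψ := Char.trivialChar G) fun g hg => by
    by_cases hg1 : g = 1
    · subst hg1
      have h1 : ∀ ψ : IrrCharacter G, centralChar ψ.1 (1 : G) = 1 := fun ψ => by
        have hc : Subgroup.centralizer ({(1 : G)} : Set G) = ⊤ :=
          (Subgroup.eq_top_iff' _).2 fun y =>
            Subgroup.mem_centralizer_singleton_iff.2 (by rw [one_mul, mul_one])
        rw [centralChar, hc, Subgroup.index_top, Nat.cast_one, one_mul,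
          div_self (Char.IsIrrCharacter.apply_one_ne_zero ψ.2)]
      rw [h1, h1, sub_self]
      exact Blocks.memLocalIdeal_zero
    · exact Blocks.MemLocalIdeal.sub (key χ g hg hg1) (key (Char.trivialChar G) g hg hg1)
  exact Blocks.SameBlock.symm h

theorem apply_eq_one_of_mem_principalBlock (hM : IsPModular p M) (H : Subgroup G) [H.Normal]
    (hHp : ¬ p ∣ Nat.card H) {χ : IrrCharacter G} (hχ : χ ∈ principalBlock M G) :
    Char.TrivOn H χ.1 := by
  classical
  haveI := hM.2.1
  haveI := Fintype.ofFinite H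
  by_contra h
  refine pregSum_restrict_ne_zero H hM hχ ?_
  have hHreg : ∀ x : H, ¬ p ∣ orderOf x := fun x hdvd => hHp (hdvd.trans (orderOf_dvd_natCard x))
  rw [pregSum, Finset.filter_true_of_mem fun x _ => hHreg x]
  simpa using Char.sum_coset_eq_zero_of_not_trivOn H χ h 1

theorem inflate_mem_principalBlock (hM : IsPModular p M) (H : Subgroup G) [H.Normal]
    [Fintype (G ⧸ H)] (hHp : ¬ p ∣ Nat.card H) {ψ : IrrCharacter (G ⧸ H)}
    (hψ : ψ ∈ principalBlock M (G ⧸ H)) : Char.inflate H ψ ∈ principalBlock M G := by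
  classical
  haveI := Fintype.ofFinite H
  have hp : p.Prime := Fact.out
  have hreg : ∀ g : G, p ∣ orderOf (g : G ⧸ H) ↔ p ∣ orderOf g := by
    refine fun g => ⟨fun h => h.trans (orderOf_map_dvd (QuotientGroup.mk' H) g), fun h => ?_⟩
    have h1 : g ^ orderOf (g : G ⧸ H) ∈ H :=
      (QuotientGroup.eq_one_iff _).1 (by rw [QuotientGroup.mk_pow, pow_orderOf_eq_one])
    have h2 : g ^ (orderOf (g : G ⧸ H) * Nat.card H) = 1 := by
      rw [pow_mul]
      exact congrArg Subtype.val (pow_card_eq_one' (x := (⟨_, h1⟩ : H)))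
    exact (hp.dvd_mul.1 (h.trans (orderOf_dvd_of_pow_eq_one h2))).resolve_right hHp
  refine mem_principalBlock_of_pregSum_ne_zero hM ?_
  have : pregSum p (Char.inflate H ψ).1 = (Nat.card H : ℂ) * pregSum p ψ.1 := by
    rw [pregSum, pregSum, Finset.mul_sum,
      ← Finset.sum_fiberwise_of_maps_to (g := fun g : G => (g : G ⧸ H))
        (t := Finset.univ.filter fun q : G ⧸ H => ¬ p ∣ orderOf q)
        (fun g hg => by simpa [hreg] using hg)]
    refine Finset.sum_congr rfl fun q hq => ?_
    simp only [Finset.mem_filter, Finset.mem_univ, true_and] at hq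
    rw [Finset.sum_congr rfl (g := fun _ => ψ.1 q) fun g hg => by
      simp [(Finset.mem_filter.1 hg).2], Finset.sum_const, nsmul_eq_mul]
    congr 2
    obtain ⟨a, rfl⟩ := QuotientGroup.mk_surjective q
    rw [Nat.card_eq_fintype_card, ← Finset.card_univ]
    refine Finset.card_bij' (fun g hg => (⟨a⁻¹ * g, ?_⟩ : H)) (fun h _ => a * h) ?_ ?_ ?_ ?_
    · exact QuotientGroup.eq.1 (Finset.mem_filter.1 hg).2.symm
    · intro g _; exact Finset.mem_univ _
    · intro h _
      have he : ((a * (h : G) : G) : G ⧸ H) = (a : G ⧸ H) := QuotientGroup.eq.2 (by simp)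
      simp only [Finset.mem_filter, Finset.mem_univ, true_and]
      exact ⟨fun hd => hq (by rw [← he]; exact (hreg _).2 hd), he⟩
    · intro g _; simp
    · intro h _; ext; simp
  rw [this]
  exact mul_ne_zero (Nat.cast_ne_zero.2 Nat.card_pos.ne') (pregSum_ne_zero hM hψ)

/-- The principal block of a solvable group. -/
theorem mem_principalBlock_iff_trivOn [Group.IsSolvable G] (hM : IsPModular p M)
    (χ : IrrCharacter G) : χ ∈ principalBlock M G ↔ Char.TrivOn (pPrimeCore p G) χ.1 := by
  haveI := Fintype.ofFinite (G ⧸ pPrimeCore p G)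
  refine ⟨apply_eq_one_of_mem_principalBlock hM _ PCore.not_dvd_card_pPrimeCore, fun h => ?_⟩
  obtain ⟨ψ, hψ⟩ := Char.exists_descend (pPrimeCore p G) χ h
  rw [show χ = Char.inflate (pPrimeCore p G) ψ from (Subtype.ext (funext hψ)).symm]
  refine inflate_mem_principalBlock hM _ PCore.not_dvd_card_pPrimeCore ?_
  haveI : Group.IsSolvable (G ⧸ pPrimeCore p G) :=
    Group.isSolvable_of_surjective (QuotientGroup.mk'_surjective (pPrimeCore p G))
  exact mem_principalBlock_of_centralizer_le hM PCore.isPGroup_pCore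
    (PCore.centralizer_pCore_le_of_isSolvable PCore.pPrimeCore_quotient_self_eq_bot) ψ

end Cfsg.Agent.BlockCount
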