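import Cfsg.Agent.Lib.Blocks.Defect
import Mathlib.GroupTheory.Nilpotent

/-!
# Truncation to local subgroups, induced blocks, Brauer's first main theorem
-/

set_option linter.style.haveILetI false
set_option linter.unusedSectionVars false

namespace Cfsg.Agent.Blocks

open Cfsg MonoidAlgebra
open scoped ComplexConjugate

universe u

variable {G : Type u} [Group G] [Finite G]

/-- Restriction of coefficients to a subgroup. -/
noncomputable def resH {R : Type*} [CommRing R] (H : Subgroup G) (z : MonoidAlgebra R G) :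
    MonoidAlgebra R H := ofFun fun h => z.coeff h

open Classical in
/-- Brauer truncation to `H`: keep the coefficients at elements centralizing `P`. -/
noncomputable def brH {R : Type*} [CommRing R] (P H : Subgroup G) (z : MonoidAlgebra R G) :
    MonoidAlgebra R H :=
  ofFun fun h => if (h : G) ∈ Subgroup.centralizer (P : Set G) then z.coeff h else 0

section Generic

variable {R : Type*} [CommRing R] {P H : Subgroup G}

@[simp] theorem coeff_resH (z : MonoidAlgebra R G) (h : H) :
    (resH H z).coeff h = z.coeff h := by simp [resH]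

open Classical in
theorem coeff_brH (z : MonoidAlgebra R G) (h : H) :
    (brH P H z).coeff h = if (h : G) ∈ Subgroup.centralizer (P : Set G) then z.coeff h else 0 := by
  simp [brH]

theorem isCentralElt_resH {z : MonoidAlgebra R G} (hz : IsCentralElt z) :
    IsCentralElt (resH H z) := fun a h => by simp [hz (a : G) h]

theorem conj_mem_centralizer_iff {x n : G} (hn : n ∈ Subgroup.normalizer (P : Set G)) :
    n * x * n⁻¹ ∈ Subgroup.centralizer (P : Set G) ↔ x ∈ Subgroup.centralizer (P : Set G) := by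
  have key : ∀ m : G, m ∈ Subgroup.normalizer (P : Set G) → ∀ y,
      y ∈ Subgroup.centralizer (P : Set G) → m * y * m⁻¹ ∈ Subgroup.centralizer (P : Set G) := by
    intro m hm y hy q hq
    have h1 : m⁻¹ * q * m ∈ (P : Set G) := by
      have := (Subgroup.mem_normalizer_iff.1 ((Subgroup.normalizer _).inv_mem hm) q).1 hq
      simpa using this
    have h2 := hy _ h1
    calc q * (m * y * m⁻¹) = m * (m⁻¹ * q * m * y) * m⁻¹ := by group
      _ = m * (y * (m⁻¹ * q * m)) * m⁻¹ := by rw [h2]
      _ = m * y * m⁻¹ * q := by group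
  refine ⟨fun h => ?_, key n hn x⟩
  have := key n⁻¹ ((Subgroup.normalizer _).inv_mem hn) _ h
  simpa [mul_assoc] using this

theorem isCentralElt_brH (hHN : H ≤ Subgroup.normalizer (P : Set G)) {z : MonoidAlgebra R G}
    (hz : IsCentralElt z) : IsCentralElt (brH P H z) := fun a h => by
  classical
  simp only [coeff_brH, Subgroup.coe_mul, InvMemClass.coe_inv,
    conj_mem_centralizer_iff (hHN h.2), hz (a : G) h]

theorem resH_one : resH H (1 : MonoidAlgebra R G) = 1 := alg_ext fun h => by
  classical
  simp only [coeff_resH, MonoidAlgebra.one_def, coeff_single, Finsupp.single_apply]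
  by_cases h1 : (1 : H) = h
  · subst h1; simp
  · have : (1 : G) ≠ (h : G) := fun e => h1 (Subtype.ext e)
    simp [h1, this]

theorem brH_one : brH P H (1 : MonoidAlgebra R G) = 1 := alg_ext fun h => by
  classical
  simp only [coeff_brH, MonoidAlgebra.one_def, coeff_single, Finsupp.single_apply]
  by_cases h1 : (1 : H) = h
  · subst h1; simp [Subgroup.one_mem]
  · have : (1 : G) ≠ (h : G) := fun e => h1 (Subtype.ext e)
    simp [h1, this]

theorem resH_sub (z w : MonoidAlgebra R G) : resH H (z - w) = resH H z - resH H w :=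
  alg_ext fun h => by simp

theorem brH_sub (z w : MonoidAlgebra R G) : brH P H (z - w) = brH P H z - brH P H w :=
  alg_ext fun h => by
    classical
    simp only [coeff_brH, MonoidAlgebra.coeff_sub, Finsupp.coe_sub, Pi.sub_apply]
    split_ifs <;> simp

theorem resH_smul (c : R) (z : MonoidAlgebra R G) : resH H (c • z) = c • resH H z :=
  alg_ext fun h => by simp

theorem resH_sum {ι : Type*} (s : Finset ι) (f : ι → MonoidAlgebra R G) :
    resH H (∑ i ∈ s, f i) = ∑ i ∈ s, resH H (f i) := alg_ext fun h => by simp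

theorem brH_smul (c : R) (z : MonoidAlgebra R G) : brH P H (c • z) = c • brH P H z :=
  alg_ext fun h => by
    classical
    simp only [coeff_brH, coeff_smul_apply]
    split_ifs <;> simp

end Generic

variable {M : Ideal AlgInt} {p : ℕ} [hp : Fact p.Prime] {P H : Subgroup G}

theorem scoeff_resH {z : MonoidAlgebra ℂ G} (hz : SCoeff M z) : SCoeff M (resH H z) :=
  fun h => by simpa using hz (h : G)

theorem mcoeff_resH {z : MonoidAlgebra ℂ G} (hz : MCoeff M z) : MCoeff M (resH H z) :=
  fun h => by simpa using hz (h : G)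

theorem scoeff_brH [M.IsPrime] {z : MonoidAlgebra ℂ G} (hz : SCoeff M z) :
    SCoeff M (brH P H z) := fun h => by
  classical
  rw [coeff_brH]
  split_ifs
  exacts [hz _, memLocalRing_zero]

theorem mcoeff_brH [M.IsPrime] {z : MonoidAlgebra ℂ G} (hz : MCoeff M z) :
    MCoeff M (brH P H z) := fun h => by
  classical
  rw [coeff_brH]
  split_ifs
  exacts [hz _, memLocalIdeal_zero]

theorem omega_resH_classSum (ξ : H → ℂ) (g : G) :
    omega ξ (resH H (classSum ℂ g)) = inducedCentralChar H ξ g := by
  classical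
  haveI := Fintype.ofFinite H
  rw [omega, chiL_eq_sum, inducedCentralChar, finsum_mem_eq_sum_of_inter_support_eq _
    (t := Finset.univ.filter fun h : H => IsConj g (h : G)) (by ext; simp), Finset.sum_div,
    Finset.sum_filter]
  refine Finset.sum_congr rfl fun h _ => ?_
  rw [coeff_resH, coeff_classSum]
  by_cases h1 : IsConj g (h : G) <;> simp [h1, -isConj_iff]

theorem omega_brH_classSum (ξ : H → ℂ) (g : G) :
    omega ξ (brH P H (classSum ℂ g)) = brauerCentralChar P H ξ g := by
  classical
  haveI := Fintype.ofFinite H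
  rw [omega, chiL_eq_sum, brauerCentralChar, finsum_mem_eq_sum_of_inter_support_eq _
    (t := Finset.univ.filter fun h : H =>
      IsConj g (h : G) ∧ (h : G) ∈ Subgroup.centralizer (P : Set G)) (by ext; simp),
    Finset.sum_div, Finset.sum_filter]
  refine Finset.sum_congr rfl fun h _ => ?_
  rw [coeff_brH, coeff_classSum]
  by_cases h1 : IsConj g (h : G) <;> by_cases h2 : (h : G) ∈ Subgroup.centralizer (P : Set G) <;>
    simp [h1, h2, -isConj_iff]

section Maximal

variable [M.IsMaximal]

theorem redA_eq_zero_of_mcoeff {K : Type*} [Group K] [Finite K] {z : MonoidAlgebra ℂ K}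
    (hz : MCoeff M z) : redA M z = 0 := (redA_eq_zero_iff (MCoeff.scoeff hz)).2 hz

theorem red_omega_eq (χ : IrrCharacter G) {z w : MonoidAlgebra ℂ G} (hz : IsCentralElt z)
    (hw : IsCentralElt w) (hzS : SCoeff M z) (hwS : SCoeff M w) (h : redA M z = redA M w) :
    red M (omega χ.1 z) = red M (omega χ.1 w) := by
  rw [red_eq_iff (memLocalRing_omega χ hz hzS) (memLocalRing_omega χ hw hwS), ← omega_sub]
  exact memLocalIdeal_omega χ (IsCentralElt.sub hz hw) ((redA_eq_iff hzS hwS).1 h)

variable (hpM : (p : AlgInt) ∈ M)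
include hpM

/-- The truncation is multiplicative modulo `M`. -/
theorem redA_brH_mul (hP : IsPGroup p P) (hCH : Subgroup.centralizer (P : Set G) ≤ H)
    {z w : MonoidAlgebra ℂ G} (hz : IsCentralElt z) (hw : IsCentralElt w) (hzS : SCoeff M z)
    (hwS : SCoeff M w) :
    redA M (brH P H (z * w)) = redA M (brH P H z) * redA M (brH P H w) := by
  classical
  haveI := Fintype.ofFinite G
  haveI := Fintype.ofFinite H
  refine alg_ext fun h => ?_
  rw [coeff_mul_eq_sum, coeff_redA, coeff_brH]
  by_cases hh : (h : G) ∈ Subgroup.centralizer (P : Set G)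
  · rw [if_pos hh, coeff_mul_eq_sum, red_sum _ fun x _ => MemLocalRing.mul (hzS x) (hwS _)]
    letI act : MulAction P G := MulAction.compHom G ((MulAut.conj (G := G)).comp P.subtype)
    have hsmul : ∀ (q : P) (x : G), q • x = (q : G) * x * (q : G)⁻¹ := fun q x => rfl
    rw [sum_eq_sum_fixedPoints hP (nsmul_residue_eq_zero hpM), Finset.sum_filter]
    · have hfix : ∀ x : G, x ∈ MulAction.fixedPoints P G ↔
          x ∈ Subgroup.centralizer (P : Set G) := by
        intro x
        refine ⟨fun hx q hq => ?_, fun hx q => ?_⟩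
        · have := hx ⟨q, hq⟩
          rw [hsmul, mul_inv_eq_iff_eq_mul] at this
          exact this
        · rw [hsmul, mul_inv_eq_iff_eq_mul]
          exact hx q q.2
      symm
      refine Fintype.sum_of_injective (Subtype.val : H → G) Subtype.val_injective _ _
        (fun x hx => if_neg fun hc => hx ⟨⟨x, hCH ((hfix x).1 hc)⟩, rfl⟩) fun y => ?_
      by_cases hy : (y : G) ∈ Subgroup.centralizer (P : Set G)
      · have hyh : ((y⁻¹ * h : H) : G) ∈ Subgroup.centralizer (P : Set G) :=
          Subgroup.mul_mem _ (Subgroup.inv_mem _ hy) hh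
        rw [if_pos ((hfix _).2 hy), coeff_redA, coeff_redA, coeff_brH, coeff_brH, if_pos hy,
          if_pos hyh, red_mul (hzS _) (hwS _)]
        rfl
      · rw [if_neg (fun hc => hy ((hfix _).1 hc)), coeff_redA, coeff_brH, if_neg hy, red_zero,
          zero_mul]
    · intro q x
      rw [hsmul, hz x q]
      congr 2
      have hqh : (q : G) * (h : G) * (q : G)⁻¹ = h := mul_inv_eq_iff_eq_mul.2 (hh q q.2)
      calc w.coeff (((q : G) * x * (q : G)⁻¹)⁻¹ * h)
          = w.coeff ((q : G) * x⁻¹ * (q : G)⁻¹ * ((q : G) * h * (q : G)⁻¹)) := by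
            rw [hqh]; group
        _ = w.coeff (x⁻¹ * h) := by
            rw [← hw (x⁻¹ * (h : G)) (q : G)]; group
  · rw [if_neg hh, red_zero]
    refine (Finset.sum_eq_zero fun y _ => ?_).symm
    rw [coeff_redA, coeff_redA, coeff_brH, coeff_brH]
    by_cases hy : (y : G) ∈ Subgroup.centralizer (P : Set G)
    · by_cases hyh : ((y⁻¹ * h : H) : G) ∈ Subgroup.centralizer (P : Set G)
      · exact absurd (by simpa using Subgroup.mul_mem _ hy hyh) hh
      · rw [if_neg hyh, red_zero, mul_zero]
    · rw [if_neg hy, red_zero, zero_mul]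

theorem red_omega_brH_mul (hP : IsPGroup p P) (hCH : Subgroup.centralizer (P : Set G) ≤ H)
    (hHN : H ≤ Subgroup.normalizer (P : Set G)) (ξ : IrrCharacter H) {z w : MonoidAlgebra ℂ G}
    (hz : IsCentralElt z) (hw : IsCentralElt w) (hzS : SCoeff M z) (hwS : SCoeff M w) :
    red M (omega ξ.1 (brH P H (z * w))) =
      red M (omega ξ.1 (brH P H z)) * red M (omega ξ.1 (brH P H w)) := by
  have h1 := isCentralElt_brH (R := ℂ) hHN hz
  have h2 := isCentralElt_brH (R := ℂ) hHN hw
  rw [← red_mul (memLocalRing_omega ξ h1 (scoeff_brH hzS)) (memLocalRing_omega ξ h2 (scoeff_brH hwS)),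
    ← omega_mul ξ h1]
  refine red_omega_eq ξ (isCentralElt_brH hHN (IsCentralElt.mul hz hw)) (IsCentralElt.mul h1 h2)
    (scoeff_brH (SCoeff.mul hzS hwS)) (SCoeff.mul (scoeff_brH hzS) (scoeff_brH hwS)) ?_
  rw [redA_mul (scoeff_brH hzS) (scoeff_brH hwS)]
  exact redA_brH_mul hpM hP hCH hz hw hzS hwS

/-- A central element vanishing modulo `M` on the centralizer of a normal `p`-subgroup has all
central characters in the local ideal. -/
theorem memLocalIdeal_omega_of_vanish {K : Type u} [Group K] [Finite K] {Q : Subgroup K}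
    [Q.Normal] (hQ : IsPGroup p Q) {z : MonoidAlgebra ℂ K} (hz : IsCentralElt z)
    (hzS : SCoeff M z)
    (h : ∀ x ∈ Subgroup.centralizer (Q : Set K), MemLocalIdeal M (z.coeff x))
    (ξ : IrrCharacter K) : MemLocalIdeal M (omega ξ.1 z) := by
  haveI := charP_residue hpM
  obtain ⟨N, hN⟩ := isNilpotent_of_central Q hQ (isCentralElt_redA (M := M) hz) fun x hx => by
    rw [coeff_redA, red_eq_zero_of_mem (h x hx)]
  rw [← redA_pow hzS, redA_eq_zero_iff (SCoeff.pow hzS N)] at hN
  refine MemLocalIdeal.of_pow (n := N) (memLocalRing_omega ξ hz hzS) ?_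
  rw [← omega_pow ξ hz]
  exact memLocalIdeal_omega ξ (IsCentralElt.pow hz N) hN

omit hpM in
theorem normal_subgroupOf_of_le_normalizer (hHN : H ≤ Subgroup.normalizer (P : Set G)) :
    (P.subgroupOf H).Normal := by
  refine ⟨fun n hn h => ?_⟩
  rw [Subgroup.mem_subgroupOf] at hn ⊢
  simpa using (Subgroup.mem_normalizer_iff.1 (hHN h.2) _).1 hn

/-- For `H` between `P C(P)` and `N(P)`, restriction and truncation give congruent central
characters. -/
theorem memLocalIdeal_omega_resH_sub_brH (hP : IsPGroup p P) (hPH : P ≤ H)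
    (hHN : H ≤ Subgroup.normalizer (P : Set G)) {z : MonoidAlgebra ℂ G} (hz : IsCentralElt z)
    (hzS : SCoeff M z) (ξ : IrrCharacter H) :
    MemLocalIdeal M (omega ξ.1 (resH H z) - omega ξ.1 (brH P H z)) := by
  classical
  haveI := normal_subgroupOf_of_le_normalizer hHN
  rw [← omega_sub]
  refine memLocalIdeal_omega_of_vanish hpM (Q := P.subgroupOf H)
    (hP.of_equiv (Subgroup.subgroupOfEquivOfLe hPH).symm)
    (IsCentralElt.sub (isCentralElt_resH hz) (isCentralElt_brH hHN hz))
    (SCoeff.sub (scoeff_resH hzS) (scoeff_brH hzS)) (fun x hx => ?_) ξ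
  have hxC : (x : G) ∈ Subgroup.centralizer (P : Set G) := fun q hq =>
    congrArg Subtype.val (hx ⟨q, hPH hq⟩ hq)
  simp [coeff_brH, hxC, memLocalIdeal_zero]

omit hpM in
/-- Equality of a multiplicative functional on central local elements with a central character. -/
theorem hom_eq_omega {B : Set (IrrCharacter G)} (hB : IsPBlock M B) {χ : IrrCharacter G}
    (hχ : χ ∈ B) (f : MonoidAlgebra ℂ G → AlgInt ⧸ M)
    (hmul : ∀ z w, IsCentralElt z → IsCentralElt w → SCoeff M z → SCoeff M w →
      f (z * w) = f z * f w)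
    (hsub : ∀ z w, IsCentralElt z → IsCentralElt w → SCoeff M z → SCoeff M w →
      f (z - w) = f z - f w)
    (hsmul : ∀ (c : ℂ) z, MemLocalRing M c → IsCentralElt z → SCoeff M z →
      f (c • z) = red M c * f z)
    (hone : f 1 = 1) (hm : ∀ z, IsCentralElt z → MCoeff M z → f z = 0)
    (heB : f (blockIdem B) ≠ 0) {z : MonoidAlgebra ℂ G} (hz : IsCentralElt z) (hzS : SCoeff M z) :
    f z = red M (omega χ.1 z) := by
  classical
  have he1 : f (blockIdem B) = 1 := by
    have h := hmul _ _ (isCentralElt_blockIdem B) (isCentralElt_blockIdem B) (scoeff_blockIdem hB)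
      (scoeff_blockIdem hB)
    rw [blockIdem_mul_self] at h
    exact mul_right_cancel₀ heB (by rw [one_mul]; exact h.symm)
  set c := omega χ.1 z with hc
  have hcS : MemLocalRing M c := memLocalRing_omega χ hz hzS
  have hnC : IsCentralElt ((z - c • 1) * blockIdem B) :=
    IsCentralElt.mul (IsCentralElt.sub hz (IsCentralElt.smul _ isCentralElt_one))
      (isCentralElt_blockIdem B)
  have hnS : SCoeff M ((z - c • 1) * blockIdem B) :=
    SCoeff.mul (SCoeff.sub hzS (SCoeff.smul hcS scoeff_one)) (scoeff_blockIdem hB)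
  have hpow : ∀ k, f (((z - c • 1) * blockIdem B) ^ k) = f ((z - c • 1) * blockIdem B) ^ k := by
    intro k
    induction k with
    | zero => rw [pow_zero, pow_zero, hone]
    | succ k ih =>
      rw [pow_succ, pow_succ, hmul _ _ (IsCentralElt.pow hnC k) hnC (SCoeff.pow hnS k) hnS, ih]
  have h0 := hm _ (IsCentralElt.pow hnC _) (mcoeff_pow_of_omega hnC hnS fun ψ => by
    rw [omega_mul ψ (IsCentralElt.sub hz (IsCentralElt.smul _ isCentralElt_one)), omega_blockIdem,
      omega_sub, omega_smul, omega_one, mul_one]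
    by_cases hψ : ψ ∈ B
    · rw [if_pos hψ, mul_one]
      exact SameBlock.omega_sub (sameBlock_of_mem hB hψ hχ) hz hzS
    · rw [if_neg hψ, mul_zero]
      exact memLocalIdeal_zero)
  rw [hpow] at h0
  have h1 := eq_zero_of_pow_eq_zero h0
  rw [hmul _ _ (IsCentralElt.sub hz (IsCentralElt.smul _ isCentralElt_one))
    (isCentralElt_blockIdem B) (SCoeff.sub hzS (SCoeff.smul hcS scoeff_one)) (scoeff_blockIdem hB),
    he1, mul_one, hsub _ _ hz (IsCentralElt.smul _ isCentralElt_one) hzS
      (SCoeff.smul hcS scoeff_one), hsmul c _ hcS isCentralElt_one scoeff_one, hone, mul_one,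
    sub_eq_zero] at h1
  exact h1

omit hpM in
theorem sum_blockIdem_eq_one [DecidableEq (Set (IrrCharacter G))] :
    ∑ B ∈ Finset.univ.image (fun χ : IrrCharacter G => blockOf M χ.1), blockIdem B = 1 := by
  classical
  refine central_ext (IsCentralElt.sum _ fun B _ => isCentralElt_blockIdem B) isCentralElt_one
    fun χ => ?_
  rw [omega_sum, omega_one, Finset.sum_eq_single (blockOf M χ.1)]
  · rw [omega_blockIdem, if_pos (mem_blockOf_self χ)]
  · intro B hB hne
    rw [omega_blockIdem, if_neg]
    intro hχ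
    obtain ⟨ψ, -, rfl⟩ := Finset.mem_image.1 hB
    exact hne (block_eq (isPBlock_blockOf ψ) hχ)
  · exact fun h => absurd (Finset.mem_image.2 ⟨χ, Finset.mem_univ _, rfl⟩) h

variable (hP : IsPGroup p P) (hCH : Subgroup.centralizer (P : Set G) ≤ H)
  (hHN : H ≤ Subgroup.normalizer (P : Set G))
include hP hCH hHN

/-- If the truncated idempotent of `B` is `≢ 0` at `ξ`, then `ξ` composed with truncation is the
central character of `B`. -/
theorem omega_brH_eq (ξ : IrrCharacter H) {B : Set (IrrCharacter G)} (hB : IsPBlock M B)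
    (hξ : ¬ MemLocalIdeal M (omega ξ.1 (brH P H (blockIdem B)))) {χ : IrrCharacter G} (hχ : χ ∈ B)
    {z : MonoidAlgebra ℂ G} (hz : IsCentralElt z) (hzS : SCoeff M z) :
    MemLocalIdeal M (omega ξ.1 (brH P H z) - omega χ.1 z) := by
  have hS : ∀ {z}, IsCentralElt z → SCoeff M z → MemLocalRing M (omega ξ.1 (brH P H z)) :=
    fun hz hzS => memLocalRing_omega ξ (isCentralElt_brH hHN hz) (scoeff_brH hzS)
  have key := hom_eq_omega hB hχ (fun z => red M (omega ξ.1 (brH P H z)))
    (fun z w hz hw hzS hwS => red_omega_brH_mul hpM hP hCH hHN ξ hz hw hzS hwS)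
    (fun z w hz hw hzS hwS => by
      simp only [brH_sub, omega_sub, red_sub (hS hz hzS) (hS hw hwS)])
    (fun c z hc hz hzS => by simp only [brH_smul, omega_smul, red_mul hc (hS hz hzS)])
    (by simp only [brH_one, omega_one, red_one])
    (fun z hz hzM => red_eq_zero_of_mem
      (memLocalIdeal_omega ξ (isCentralElt_brH hHN hz) (mcoeff_brH hzM)))
    (fun h0 => hξ ((red_eq_zero_iff (hS (isCentralElt_blockIdem B) (scoeff_blockIdem hB))).1 h0))
    hz hzS
  exact (red_eq_iff (hS hz hzS) (memLocalRing_omega χ hz hzS)).1 key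

theorem exists_block_omega_brH (ξ : IrrCharacter H) :
    ∃ B, IsPBlock M B ∧ ¬ MemLocalIdeal M (omega ξ.1 (brH P H (blockIdem B))) := by
  classical
  by_contra hno
  refine not_memLocalIdeal_one (M := M) ?_
  have h1 : omega ξ.1 (brH P H (1 : MonoidAlgebra ℂ G)) = 1 := by rw [brH_one, omega_one]
  rw [← h1, ← sum_blockIdem_eq_one (M := M) (G := G)]
  have hsum : ∀ s : Finset (Set (IrrCharacter G)), omega ξ.1 (brH P H (∑ B ∈ s, blockIdem B)) =
      ∑ B ∈ s, omega ξ.1 (brH P H (blockIdem B)) := by
    intro s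
    rw [← omega_sum]
    congr 1
    exact alg_ext fun h => by
      simp only [coeff_brH, MonoidAlgebra.coeff_sum, Finsupp.coe_finsetSum, Finset.sum_apply]
      split_ifs <;> simp
  rw [hsum]
  refine MemLocalIdeal.sum _ fun B hB => ?_
  obtain ⟨ψ, -, rfl⟩ := Finset.mem_image.1 hB
  by_contra hI
  exact hno ⟨_, isPBlock_blockOf ψ, hI⟩

theorem isInducedBlock_iff (hPH : P ≤ H) {b : Set (IrrCharacter H)} (hb : IsPBlock M b)
    {B : Set (IrrCharacter G)} (hB : IsPBlock M B) :
    IsInducedBlock M H b B ↔ ∀ ξ ∈ b, ∀ χ ∈ B, ∀ g : G,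
      MemLocalIdeal M (brauerCentralChar P H ξ.1 g - centralChar χ.1 g) := by
  have key : ∀ (ξ : IrrCharacter H) (g : G),
      MemLocalIdeal M (inducedCentralChar H ξ.1 g - brauerCentralChar P H ξ.1 g) := fun ξ g => by
    rw [← omega_resH_classSum, ← omega_brH_classSum]
    exact memLocalIdeal_omega_resH_sub_brH hpM hP hPH hHN (isCentralElt_classSum g)
      (scoeff_classSum g) ξ
  refine ⟨fun h ξ hξ χ hχ g => ?_, fun h => ⟨hb, hB, fun ξ hξ χ hχ g => ?_⟩⟩
  · simpa using MemLocalIdeal.sub (h.2.2 ξ hξ χ hχ g) (key ξ g)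
  · simpa using MemLocalIdeal.add (key ξ g) (h ξ hξ χ hχ g)

/-- A block detected on the truncated idempotent induces. -/
theorem isInducedBlock_of_omega (hPH : P ≤ H) {b : Set (IrrCharacter H)} (hb : IsPBlock M b)
    {ξ : IrrCharacter H} (hξb : ξ ∈ b) {B : Set (IrrCharacter G)} (hB : IsPBlock M B)
    (hξ : ¬ MemLocalIdeal M (omega ξ.1 (brH P H (blockIdem B)))) : IsInducedBlock M H b B := by
  rw [isInducedBlock_iff hpM hP hCH hHN hPH hb hB]
  intro ξ' hξ' χ hχ g
  rw [← omega_brH_classSum, ← omega_classSum (irr_classFun χ)]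
  have h1 := SameBlock.omega_sub (M := M) (sameBlock_of_mem hb hξ' hξb)
    (isCentralElt_brH (R := ℂ) hHN (isCentralElt_classSum g)) (scoeff_brH (scoeff_classSum g))
  simpa using MemLocalIdeal.add h1
    (omega_brH_eq hpM hP hCH hHN ξ hB hξ hχ (isCentralElt_classSum g) (scoeff_classSum g))

theorem inducedBlockDefined_of_le (hPH : P ≤ H) {b : Set (IrrCharacter H)} (hb : IsPBlock M b) :
    InducedBlockDefined M H b := by
  obtain ⟨ξ, hξ⟩ := block_nonempty hb
  obtain ⟨B, hB, hne⟩ := exists_block_omega_brH hpM hP hCH hHN ξ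
  exact ⟨B, isInducedBlock_of_omega hpM hP hCH hHN hPH hb hξ hB hne⟩

/-- `B` is induced from `H` when some class with unit idempotent coefficient centralizes `P`. -/
theorem exists_inducing_block (hPH : P ≤ H) {B : Set (IrrCharacter G)} (hB : IsPBlock M B)
    {g : G} (hg : g ∈ Subgroup.centralizer (P : Set G))
    (hgB : ¬ MemLocalIdeal M (blockCoeff B g)) :
    ∃ b : Set (IrrCharacter H), IsInducedBlock M H b B := by
  classical
  set e := brH P H (blockIdem B) with he
  have heC : IsCentralElt e := isCentralElt_brH hHN (isCentralElt_blockIdem B)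
  have heS : SCoeff M e := scoeff_brH (scoeff_blockIdem hB)
  by_contra hno
  have hall : ∀ ξ : IrrCharacter H, MemLocalIdeal M (omega ξ.1 e) := fun ξ => by
    by_contra h
    exact hno ⟨_, isInducedBlock_of_omega hpM hP hCH hHN hPH (isPBlock_blockOf ξ)
      (mem_blockOf_self ξ) hB h⟩
  have hN := mcoeff_pow_of_omega heC heS hall
  have hidem : redA M e * redA M e = redA M e := by
    rw [he, ← redA_brH_mul hpM hP hCH (isCentralElt_blockIdem B) (isCentralElt_blockIdem B)
      (scoeff_blockIdem hB) (scoeff_blockIdem hB), blockIdem_mul_self]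
  have hpow : ∀ k, 1 ≤ k → redA M e ^ k = redA M e := fun k hk => by
    induction k, hk using Nat.le_induction with
    | base => rw [pow_one]
    | succ k _ ih => rw [pow_succ, ih, hidem]
  rw [← redA_eq_zero_iff (SCoeff.pow heS _), redA_pow heS,
    hpow _ (Fintype.card_pos_iff.2 ⟨Char.trivialChar H⟩)] at hN
  have := (redA_eq_zero_iff heS).1 hN ⟨g, hCH hg⟩
  rw [he, coeff_brH, if_pos hg, coeff_blockIdem] at this
  exact hgB this

end Maximal

end Cfsg.Agent.Blocks
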