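import Cfsg.Agent.Lib.Blocks.Defect
import Cfsg.Agent.Lib.Char.KernelSum
import Cfsg.Agent.Lib.Char.Descend

/-!
# Blocks whose defect group is a central `p`-subgroup

For a central `p`-subgroup `Z`, a block `B` has defect group `Z` exactly when it contains a
character trivial on `Z` which has defect zero as a character of `G ⧸ Z`.
-/

set_option autoImplicit false
set_option linter.unusedSectionVars false
set_option linter.style.haveILetI false

namespace Cfsg.Agent.Blocks

open Cfsg
open scoped ComplexConjugate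

universe u

variable {G : Type u} [Group G] [Finite G] {M : Ideal AlgInt} [M.IsMaximal]
variable {p : ℕ} [hp : Fact p.Prime] {B : Set (IrrCharacter G)} (Z : Subgroup G)

open scoped Classical in
/-- On a regular element the coset sum of the idempotent keeps the characters trivial on `Z`. -/
theorem blockCoeff_eq_sum_trivOn [Fintype G] [DecidablePred (· ∈ B)] (hpM : (p : AlgInt) ∈ M)
    (hB : IsPBlock M B) (hZ : Z ≤ Subgroup.center G) (hZp : IsPGroup p Z) {g : G}
    (hg : IsPRegular p g) :
    blockCoeff B g = ∑ χ ∈ (Finset.univ.filter (· ∈ B)).filter (fun χ => Char.TrivOn Z χ.1),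
      ((Char.degree χ * Nat.card Z : ℕ) : ℂ) / (Nat.card G : ℕ) * conj (χ.1 g) := by
  haveI := Fintype.ofFinite Z
  haveI : Z.Normal := ⟨fun n hn x => by
    rwa [Subgroup.mem_center_iff.1 (hZ hn) x, mul_inv_cancel_right]⟩
  have h1 : blockCoeff B g = ∑ u : Z, blockCoeff B (g * u) := by
    rw [Finset.sum_eq_single (1 : Z)]
    · simp
    · intro u _ hu
      refine blockCoeff_eq_zero hpM hB fun hr => hu (Subtype.ext ?_)
      obtain ⟨k, hk⟩ := IsPGroup.iff_orderOf.1 hZp u
      exact (isPRegular_mul_iff (Subgroup.mem_center_iff.1 (hZ u.2) g) hg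
        ⟨k, by rw [Subgroup.orderOf_coe, hk]⟩).1 hr
    · exact fun h => absurd (Finset.mem_univ _) h
  rw [h1]
  simp only [blockCoeff_eq_sum]
  rw [← Finset.mul_sum, Finset.sum_comm, Finset.mul_sum, Finset.sum_filter (s := Finset.univ.filter (· ∈ B))]
  refine Finset.sum_congr rfl fun χ _ => ?_
  rw [← Finset.mul_sum, ← map_sum]
  split_ifs with h
  · rw [Finset.sum_congr rfl (g := fun _ => χ.1 g) fun u _ => Char.apply_mul_of_trivOn h g u.2,
      Finset.sum_const, Finset.card_univ, nsmul_eq_mul, map_mul, map_natCast,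
      ← Nat.card_eq_fintype_card (α := Z), Nat.cast_mul, ← Char.apply_one_eq_degree]
    ring
  · rw [Char.sum_coset_eq_zero_of_not_trivOn Z χ h g, map_zero, mul_zero, mul_zero]

/-- A regular lift of a regular element of the quotient by a central `p`-subgroup. -/
theorem exists_regular_lift [Z.Normal] {x : G ⧸ Z} (hx : IsPRegular p x) :
    ∃ g : G, (g : G ⧸ Z) = x ∧ IsPRegular p g := by
  obtain ⟨g₀, rfl⟩ := QuotientGroup.mk_surjective x
  set q := p ^ (Nat.card G).factorization p
  have hcop : q.Coprime (orderOf (g₀ : G ⧸ Z)) :=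
    Nat.Coprime.pow_left _ ((Nat.Prime.coprime_iff_not_dvd hp.out).2 hx)
  obtain ⟨l, hl⟩ := exists_pow_eq_self_of_coprime hcop
  refine ⟨(g₀ ^ q) ^ l, by rw [QuotientGroup.mk_pow, QuotientGroup.mk_pow]; exact hl, fun hd => ?_⟩
  exact isPRegular_pow_of_le g₀ le_rfl (hd.trans (orderOf_pow_dvd l))

/-- Central characters at a regular element descend to the quotient by a central `p`-subgroup. -/
theorem centralChar_descend [Z.Normal] (hZ : Z ≤ Subgroup.center G) (hZp : IsPGroup p Z)
    {χ : IrrCharacter G} {χ' : IrrCharacter (G ⧸ Z)} (h : ∀ g : G, χ'.1 (g : G ⧸ Z) = χ.1 g)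
    {g : G} (hg : IsPRegular p g) : centralChar χ'.1 (g : G ⧸ Z) = centralChar χ.1 g := by
  have hC : Subgroup.centralizer ({g} : Set G) =
      (Subgroup.centralizer ({(g : G ⧸ Z)} : Set (G ⧸ Z))).comap (QuotientGroup.mk' Z) := by
    ext a
    rw [Subgroup.mem_comap, Subgroup.mem_centralizer_singleton_iff,
      Subgroup.mem_centralizer_singleton_iff]
    refine ⟨fun e => ?_, fun e => ?_⟩
    · rw [QuotientGroup.mk'_apply, ← QuotientGroup.mk_mul, e, QuotientGroup.mk_mul]
    · have hu : g⁻¹ * (a * g * a⁻¹) ∈ Z := by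
        rw [← QuotientGroup.eq, QuotientGroup.mk_mul, QuotientGroup.mk_mul, QuotientGroup.mk_inv]
        rw [QuotientGroup.mk'_apply] at e
        rw [e, mul_inv_cancel_right]
      obtain ⟨k, hk⟩ := IsPGroup.iff_orderOf.1 hZp ⟨_, hu⟩
      have hr : IsPRegular p (g * (g⁻¹ * (a * g * a⁻¹))) := by
        rw [mul_inv_cancel_left, IsPRegular, show a * g * a⁻¹ = MulAut.conj a g from rfl,
          MulEquiv.orderOf_eq]
        exact hg
      have h1 := (isPRegular_mul_iff (Subgroup.mem_center_iff.1 (hZ hu) g) hg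
        ⟨k, by rw [← hk, Subgroup.orderOf_mk]⟩).1 hr
      exact mul_inv_eq_iff_eq_mul.1 (inv_mul_eq_one.1 h1).symm
  rw [centralChar, centralChar, hC,
    Subgroup.index_comap_of_surjective _ (QuotientGroup.mk'_surjective Z), h g,
    ← h 1, QuotientGroup.mk_one]

/-- A character trivial on `Z` of defect zero modulo `Z` is the only one of its block. -/
theorem eq_of_trivOn_of_degree (hpM : (p : AlgInt) ∈ M) (hB : IsPBlock M B)
    (hZ : Z ≤ Subgroup.center G) (hZp : IsPGroup p Z) {χ ψ : IrrCharacter G} (hχB : χ ∈ B)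
    (hψB : ψ ∈ B) (hχ : Char.TrivOn Z χ.1) (hψ : Char.TrivOn Z ψ.1)
    (hdeg : (Char.degree χ).factorization p + (Nat.card Z).factorization p =
      (Nat.card G).factorization p) : ψ = χ := by
  haveI : Z.Normal := ⟨fun n hn x => by
    rwa [Subgroup.mem_center_iff.1 (hZ hn) x, mul_inv_cancel_right]⟩
  obtain ⟨χ', hχ'⟩ := Char.exists_descend Z χ hχ
  obtain ⟨ψ', hψ'⟩ := Char.exists_descend Z ψ hψ
  have hd : Char.degree χ' = Char.degree χ := by
    apply Nat.cast_injective (R := ℂ)
    rw [← Char.apply_one_eq_degree, ← Char.apply_one_eq_degree, ← hχ' 1, QuotientGroup.mk_one]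
  have h0 : blockOf M χ'.1 = {χ'} := by
    refine (blockOf_eq_singleton_iff hpM χ').2 ?_
    have h1 := Z.card_eq_card_quotient_mul_card_subgroup
    rw [h1, Nat.factorization_mul Nat.card_pos.ne' Nat.card_pos.ne', Finsupp.add_apply,
      add_left_inj] at hdeg
    rw [hd, hdeg]
  have hsame : SameBlock M χ'.1 ψ'.1 := by
    refine sameBlock_of_regular hpM fun x hx => ?_
    obtain ⟨g, rfl, hg⟩ := exists_regular_lift Z hx
    rw [centralChar_descend Z hZ hZp hχ' hg, centralChar_descend Z hZ hZp hψ' hg]
    exact sameBlock_of_mem hB hχB hψB g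
  have he : ψ' = χ' := by
    have : ψ' ∈ blockOf M χ'.1 := hsame
    rwa [h0, Set.mem_singleton_iff] at this
  refine Subtype.ext (funext fun g => ?_)
  rw [← hψ', ← hχ', he]

theorem isDefectGroup_central_iff (hpM : (p : AlgInt) ∈ M) (hB : IsPBlock M B)
    (hZ : Z ≤ Subgroup.center G) (hZp : IsPGroup p Z) :
    IsDefectGroup p M B Z ↔ ∃ χ ∈ B, Char.TrivOn Z χ.1 ∧
      (Char.degree χ).factorization p + (Nat.card Z).factorization p =
        (Nat.card G).factorization p := by
  classical
  haveI := Fintype.ofFinite G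
  haveI hZn : Z.Normal := ⟨fun n hn x => by
    rwa [Subgroup.mem_center_iff.1 (hZ hn) x, mul_inv_cancel_right]⟩
  constructor
  · intro hD
    obtain ⟨g, hg, hgZ⟩ := isDefectGroup_iff.1 hD
    have hz : (Nat.card Z).factorization p =
        (Nat.card (Subgroup.centralizer ({g} : Set G))).factorization p := by
      rw [hgZ.2, hp.out.factorization_pow, Finsupp.single_eq_same]
    have hidx := factorization_index (p := p) (Subgroup.centralizer ({g} : Set G))
    by_contra hno
    refine hg.2.1 ?_
    rw [blockCoeff_eq_sum_trivOn Z hpM hB hZ hZp (IsDefectClass.isPRegular hpM hB hg)]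
    refine MemLocalIdeal.sum _ fun χ hχ => ?_
    simp only [Finset.mem_filter, Finset.mem_univ, true_and] at hχ
    refine MemLocalIdeal.mul_right ((memLocalIdeal_natCast_div_iff hpM
      (mul_ne_zero (Char.degree_pos χ).ne' Nat.card_pos.ne') Nat.card_pos.ne').2 ?_)
      (memLocalRing_of_isIntegral (IsIntegral.map (starRingEnd ℂ).toIntAlgHom
        (CharInt.isIntegral_char (Char.irr_isCharacter χ) g)))
    have h1 := factorization_index_le_degree hpM χ (hg.2.2 χ hχ.1)
    have h2 : (Char.degree χ).factorization p + (Nat.card Z).factorization p ≠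
        (Nat.card G).factorization p := fun h => hno ⟨χ, hχ.1, hχ.2, h⟩
    rw [Nat.factorization_mul (Char.degree_pos χ).ne' Nat.card_pos.ne', Finsupp.add_apply]
    omega
  · rintro ⟨χ, hχB, hχZ, hdeg⟩
    obtain ⟨g, hg⟩ := exists_defectClass hB
    obtain ⟨D, hD⟩ := exists_sylIn (p := p) (Subgroup.centralizer ({g} : Set G))
    have hDdef : IsDefectGroup p M B D := isDefectGroup_iff.2 ⟨g, hg, hD⟩
    have hle := normal_le_defectGroup hpM hB hZp hDdef
    have hc := blockCoeff_eq_sum_trivOn Z hpM hB hZ hZp (IsDefectClass.isPRegular hpM hB hg)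
    rw [Finset.sum_eq_single_of_mem χ (by simp [hχB, hχZ])
      (fun ψ hψ hne => absurd (eq_of_trivOn_of_degree Z hpM hB hZ hZp hχB
        (Finset.mem_filter.1 (Finset.mem_filter.1 hψ).1).2 hχZ (Finset.mem_filter.1 hψ).2 hdeg) hne)] at hc
    have hval : ¬ MemLocalIdeal M (χ.1 g⁻¹) := by
      rw [CharInt.char_inv (Char.irr_isCharacter χ) g]
      intro hI
      refine hg.2.1 (hc ▸ MemLocalIdeal.mul_left (memLocalRing_natCast_div hpM
        (mul_ne_zero (Char.degree_pos χ).ne' Nat.card_pos.ne') Nat.card_pos.ne' ?_) hI)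
      rw [Nat.factorization_mul (Char.degree_pos χ).ne' Nat.card_pos.ne', Finsupp.add_apply, hdeg]
    have hidx' : (Subgroup.centralizer ({g⁻¹} : Set G)).index =
        (Subgroup.centralizer ({g} : Set G)).index := by
      congr 1
      ext a
      simp only [Subgroup.mem_centralizer_singleton_iff]
      exact ⟨fun h => by simpa using ((show Commute a g⁻¹ from h).inv_right).eq,
        fun h => ((show Commute a g from h).inv_right).eq⟩
    have hratio : MemLocalRing M (((Subgroup.centralizer ({g⁻¹} : Set G)).index : ℕ) / (Char.degree χ : ℕ) : ℂ) := by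
      have h := MemLocalRing.mul (memLocalRing_centralChar χ (g⁻¹) (M := M))
        (memLocalRing_inv (memLocalRing_of_isIntegral (M := M)
          (CharInt.isIntegral_char (Char.irr_isCharacter χ) g⁻¹)) hval)
      have hne := ne_zero_of_not_memLocalIdeal hval
      convert h using 1
      rw [centralChar, ← Char.apply_one_eq_degree]
      field_simp
    have hv := (memLocalRing_natCast_div_iff hpM Subgroup.index_ne_zero_of_finite
      (Char.degree_pos χ).ne').1 hratio
    rw [hidx'] at hv
    have hidx := factorization_index (p := p) (Subgroup.centralizer ({g} : Set G))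
    have hcard : Nat.card D ≤ Nat.card Z := by
      obtain ⟨n, hn⟩ := IsPGroup.iff_card.1 hZp
      rw [hn, hp.out.factorization_pow, Finsupp.single_eq_same] at hdeg
      rw [hn, hD.2]
      exact Nat.pow_le_pow_right hp.out.pos (by omega)
    exact (Subgroup.eq_of_le_of_card_ge hle hcard).symm ▸ hDdef

end Cfsg.Agent.Blocks
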