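import Cfsg.Prelude.Def_Blocks
import Mathlib.GroupTheory.Sylow
import Mathlib.GroupTheory.PGroup

/-!
# Sylow subgroups of subgroups, as subgroups of the whole group
-/

set_option linter.unusedSectionVars false

namespace Cfsg.Agent.Blocks

variable {G : Type*} [Group G] [Finite G] {p : ℕ} [hp : Fact p.Prime]

/-- `D` is a Sylow `p`-subgroup of the subgroup `H`, phrased inside the whole group. -/
def SylIn (p : ℕ) (H D : Subgroup G) : Prop :=
  D ≤ H ∧ Nat.card D = p ^ (Nat.card H).factorization p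

theorem sylIn_map (H : Subgroup G) (P : Sylow p H) :
    SylIn p H ((P : Subgroup H).map H.subtype) :=
  ⟨Subgroup.map_subtype_le _, by
    rw [Subgroup.card_map_of_injective H.subtype_injective]
    exact P.card_eq_multiplicity⟩

theorem sylIn_iff {H D : Subgroup G} :
    SylIn p H D ↔ ∃ P : Sylow p H, D = (P : Subgroup H).map H.subtype := by
  refine ⟨fun ⟨hle, hc⟩ => ?_, fun ⟨P, hP⟩ => hP ▸ sylIn_map H P⟩
  refine ⟨Sylow.ofCard (D.subgroupOf H)
    (by rw [← hc]; exact Nat.card_congr (Subgroup.subgroupOfEquivOfLe hle).toEquiv), ?_⟩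
  show D = (D.subgroupOf H).map H.subtype
  rw [Subgroup.map_subgroupOf_eq_of_le hle]

theorem SylIn.isPGroup {H D : Subgroup G} (h : SylIn p H D) : IsPGroup p D := IsPGroup.of_card h.2

theorem exists_sylIn (H : Subgroup G) : ∃ D, SylIn p H D := ⟨_, sylIn_map H default⟩

theorem SylIn.exists_conj_le {H D Q : Subgroup G} (h : SylIn p H D) (hQ : IsPGroup p Q)
    (hQH : Q ≤ H) : ∃ x ∈ H, Q.map (MulAut.conj x).toMonoidHom ≤ D := by
  obtain ⟨P, rfl⟩ := sylIn_iff.1 h
  have hQ' : IsPGroup p (Q.subgroupOf H) :=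
    hQ.of_equiv (Subgroup.subgroupOfEquivOfLe hQH).symm
  obtain ⟨P', hP'⟩ := hQ'.exists_le_sylow
  obtain ⟨x, hx⟩ := MulAction.exists_smul_eq H P' P
  refine ⟨(x : G), x.2, ?_⟩
  rintro _ ⟨q, hq, rfl⟩
  refine ⟨x * ⟨q, hQH hq⟩ * x⁻¹, ?_, rfl⟩
  rw [← hx, Sylow.coe_subgroup_smul]
  exact ⟨⟨q, hQH hq⟩, hP' hq, rfl⟩

omit [Finite G] hp in
theorem card_map_conj (D : Subgroup G) (x : G) :
    Nat.card (D.map (MulAut.conj x).toMonoidHom) = Nat.card D :=
  Subgroup.card_map_of_injective (MulAut.conj x).injective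

omit hp in
theorem SylIn.map_conj {H D : Subgroup G} (h : SylIn p H D) (x : G) :
    SylIn p (H.map (MulAut.conj x).toMonoidHom) (D.map (MulAut.conj x).toMonoidHom) :=
  ⟨Subgroup.map_mono h.1, by rw [card_map_conj, card_map_conj, h.2]⟩

omit [Finite G] hp in
theorem map_conj_map_conj (D : Subgroup G) (x y : G) :
    (D.map (MulAut.conj x).toMonoidHom).map (MulAut.conj y).toMonoidHom =
      D.map (MulAut.conj (y * x)).toMonoidHom := by
  rw [Subgroup.map_map]
  congr 1
  ext g
  simp [MulAut.conj_apply, mul_assoc]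

omit [Finite G] hp in
theorem map_conj_one (D : Subgroup G) : D.map (MulAut.conj (1 : G)).toMonoidHom = D := by
  rw [map_one]; exact Subgroup.map_id D

omit [Finite G] hp in
theorem mem_map_conj {D : Subgroup G} {x g : G} :
    g ∈ D.map (MulAut.conj x).toMonoidHom ↔ x⁻¹ * g * x ∈ D := by
  constructor
  · rintro ⟨d, hd, rfl⟩
    simpa [MulAut.conj_apply, mul_assoc] using hd
  · intro h
    exact ⟨_, h, by simp [MulAut.conj_apply, mul_assoc]⟩

omit [Finite G] hp in
theorem map_conj_centralizer (g x : G) :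
    (Subgroup.centralizer ({g} : Set G)).map (MulAut.conj x).toMonoidHom =
      Subgroup.centralizer ({x * g * x⁻¹} : Set G) := by
  ext y
  rw [mem_map_conj, Subgroup.mem_centralizer_singleton_iff, Subgroup.mem_centralizer_singleton_iff]
  exact ⟨fun h => by simpa [mul_assoc] using congrArg (fun t => x * t * x⁻¹) h,
    fun h => by simpa [mul_assoc] using congrArg (fun t => x⁻¹ * t * x) h⟩

omit [Finite G] hp in
theorem le_centralizer_singleton {Q : Subgroup G} {g : G} :
    Q ≤ Subgroup.centralizer ({g} : Set G) ↔ g ∈ Subgroup.centralizer (Q : Set G) := by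
  constructor
  · intro h q hq
    exact Subgroup.mem_centralizer_singleton_iff.1 (h hq)
  · intro h q hq
    exact Subgroup.mem_centralizer_singleton_iff.2 (h q hq)

theorem SylIn.exists_map_conj_eq {H D D' : Subgroup G} (h : SylIn p H D) (h' : SylIn p H D') :
    ∃ x ∈ H, D'.map (MulAut.conj x).toMonoidHom = D := by
  obtain ⟨x, hx, hle⟩ := SylIn.exists_conj_le h (SylIn.isPGroup h') h'.1
  exact ⟨x, hx, Subgroup.eq_of_le_of_card_ge hle (by rw [card_map_conj, h.2, h'.2])⟩

theorem factorization_index (H : Subgroup G) :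
    H.index.factorization p + (Nat.card H).factorization p = (Nat.card G).factorization p := by
  rw [← Subgroup.card_mul_index H, Nat.factorization_mul Nat.card_pos.ne'
    Subgroup.index_ne_zero_of_finite, Finsupp.add_apply, add_comm]

end Cfsg.Agent.Blocks
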