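import Cfsg.Agent.Lib.Blocks.Core
import Cfsg.Agent.Lib.Blocks.Sylow

/-!
# Defect classes and defect groups
-/

set_option linter.style.haveILetI false
set_option linter.unusedSectionVars false

namespace Cfsg.Agent.Blocks

open Cfsg MonoidAlgebra
open scoped ComplexConjugate

universe u

variable {G : Type u} [Group G] [Finite G] {M : Ideal AlgInt} [M.IsMaximal]
variable {p : ℕ} [hp : Fact p.Prime] {B : Set (IrrCharacter G)}

theorem charDegree_eq (χ : IrrCharacter G) : charDegree χ.1 = Char.degree χ := by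
  rw [charDegree, Char.apply_one_eq_degree, Complex.natCast_re, Nat.floor_natCast]

theorem isDefectGroup_iff {D : Subgroup G} :
    IsDefectGroup p M B D ↔
      ∃ g, IsDefectClass M B g ∧ SylIn p (Subgroup.centralizer ({g} : Set G)) D :=
  exists_congr fun _ => and_congr_right' sylIn_iff.symm

theorem index_centralizer_conj (g x : G) :
    (Subgroup.centralizer ({x * g * x⁻¹} : Set G)).index =
      (Subgroup.centralizer ({g} : Set G)).index := by
  rw [← map_conj_centralizer, Subgroup.index_map_of_bijective (MulAut.conj x).bijective]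

theorem centralChar_conj (χ : IrrCharacter G) (g x : G) :
    centralChar χ.1 (x * g * x⁻¹) = centralChar χ.1 g := by
  rw [centralChar, centralChar, index_centralizer_conj, irr_classFun χ g x]

theorem centralChar_of_isConj (χ : IrrCharacter G) {g g' : G} (h : IsConj g g') :
    centralChar χ.1 g' = centralChar χ.1 g := by
  obtain ⟨x, rfl⟩ := isConj_iff.1 h
  exact centralChar_conj χ g x

theorem memLocalIdeal_centralChar_iff (hB : IsPBlock M B) {χ ψ : IrrCharacter G} (hχ : χ ∈ B)
    (hψ : ψ ∈ B) (g : G) :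
    MemLocalIdeal M (centralChar χ.1 g) ↔ MemLocalIdeal M (centralChar ψ.1 g) :=
  memLocalIdeal_iff_of_sub (sameBlock_of_mem hB hχ hψ g)

theorem isDefectClass_iff (hB : IsPBlock M B) {χ : IrrCharacter G} (hχ : χ ∈ B) {g : G} :
    IsDefectClass M B g ↔
      ¬ MemLocalIdeal M (blockCoeff B g) ∧ ¬ MemLocalIdeal M (centralChar χ.1 g) :=
  ⟨fun h => ⟨h.2.1, h.2.2 χ hχ⟩, fun h => ⟨memLocalRing_blockCoeff hB g, h.1,
    fun _ hψ hI => h.2 ((memLocalIdeal_centralChar_iff hB hχ hψ g).2 hI)⟩⟩

theorem IsDefectClass.conj {g : G} (h : IsDefectClass M B g) (x : G) :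
    IsDefectClass M B (x * g * x⁻¹) := by
  have hc : blockCoeff B (x * g * x⁻¹) = blockCoeff B g := by
    simpa [coeff_blockIdem] using isCentralElt_blockIdem B g x
  exact ⟨hc ▸ h.1, hc ▸ h.2.1, fun χ hχ => by rw [centralChar_conj]; exact h.2.2 χ hχ⟩

theorem IsDefectGroup.conj {D : Subgroup G} (h : IsDefectGroup p M B D) (x : G) :
    IsDefectGroup p M B (D.map (MulAut.conj x).toMonoidHom) := by
  obtain ⟨g, hg, hD⟩ := isDefectGroup_iff.1 h
  refine isDefectGroup_iff.2 ⟨_, IsDefectClass.conj hg x, ?_⟩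
  rw [← map_conj_centralizer]
  exact SylIn.map_conj hD x

theorem IsDefectGroup.isPGroup {D : Subgroup G} (h : IsDefectGroup p M B D) : IsPGroup p D := by
  obtain ⟨g, -, hD⟩ := isDefectGroup_iff.1 h
  exact SylIn.isPGroup hD

/-- **Existence of defect classes.** -/
theorem exists_defectClass (hB : IsPBlock M B) : ∃ g, IsDefectClass M B g := by
  classical
  haveI := Fintype.ofFinite (ConjClasses G)
  obtain ⟨χ, hχ⟩ := block_nonempty hB
  by_contra hno
  refine not_memLocalIdeal_one (M := M) ?_
  have h1 : omega χ.1 (blockIdem B) = 1 := by rw [omega_blockIdem, if_pos hχ]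
  rw [← h1, omega_eq_sum_classes χ (isCentralElt_blockIdem B)]
  refine MemLocalIdeal.sum _ fun C _ => ?_
  rw [coeff_blockIdem]
  by_cases hc : MemLocalIdeal M (blockCoeff B C.out)
  · exact MemLocalIdeal.mul_right hc (memLocalRing_centralChar χ _)
  · refine MemLocalIdeal.mul_left (memLocalRing_blockCoeff hB _) ?_
    by_contra hI
    exact hno ⟨_, (isDefectClass_iff hB hχ).2 ⟨hc, hI⟩⟩

theorem exists_defectGroup (hB : IsPBlock M B) : ∃ D, IsDefectGroup p M B D := by
  obtain ⟨g, hg⟩ := exists_defectClass hB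
  obtain ⟨D, hD⟩ := exists_sylIn (p := p) (Subgroup.centralizer ({g} : Set G))
  exact ⟨D, isDefectGroup_iff.2 ⟨g, hg, hD⟩⟩

section Prime

variable (hpM : (p : AlgInt) ∈ M)
include hpM

theorem IsDefectClass.isPRegular (hB : IsPBlock M B) {g : G} (h : IsDefectClass M B g) :
    IsPRegular p g := by
  by_contra hg
  exact h.2.1 (by rw [blockCoeff_eq_zero hpM hB hg]; exact memLocalIdeal_zero)

theorem nsmul_residue_eq_zero (a : AlgInt ⧸ M) : p • a = 0 := by
  haveI := charP_residue hpM
  simp

/-- Coefficients of multiples of a class sum at elements centralised by a `p`-subgroup that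
centralises no conjugate of the class. -/
theorem memLocalIdeal_coeff_classSum_mul {g h : G} {z : MonoidAlgebra ℂ G} (hz : IsCentralElt z)
    (hS : SCoeff M z) {Q : Subgroup G} (hQ : IsPGroup p Q)
    (hQh : Q ≤ Subgroup.centralizer ({h} : Set G))
    (hno : ∀ x, IsConj g x → ¬ Q ≤ Subgroup.centralizer ({x} : Set G)) :
    MemLocalIdeal M ((classSum ℂ g * z).coeff h) := by
  classical
  haveI := Fintype.ofFinite G
  rw [← red_eq_zero_iff (SCoeff.mul (scoeff_classSum g) hS h), coeff_mul_eq_sum,
    red_sum _ fun x _ => MemLocalRing.mul (scoeff_classSum g x) (hS _)]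
  letI act : MulAction Q G := MulAction.compHom G ((MulAut.conj (G := G)).comp Q.subtype)
  have hsmul : ∀ (q : Q) (x : G), q • x = (q : G) * x * (q : G)⁻¹ := fun q x => rfl
  rw [sum_eq_sum_fixedPoints hQ (nsmul_residue_eq_zero hpM)]
  · refine Finset.sum_eq_zero fun x hx => ?_
    have hne : ¬ IsConj g x := fun hc => hno x hc fun q hq => by
      have := (Finset.mem_filter.1 hx).2 ⟨q, hq⟩
      rw [hsmul, mul_inv_eq_iff_eq_mul] at this
      exact Subgroup.mem_centralizer_singleton_iff.2 this
    rw [coeff_classSum, if_neg hne, zero_mul, red_zero]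
  · intro q x
    have hh : (q : G) * h * (q : G)⁻¹ = h :=
      mul_inv_eq_iff_eq_mul.2 (Subgroup.mem_centralizer_singleton_iff.1 (hQh q.2))
    rw [hsmul, isCentralElt_classSum g x q]
    congr 2
    conv_lhs => rw [show ((q : G) * x * (q : G)⁻¹)⁻¹ * h =
      (q : G) * x⁻¹ * (q : G)⁻¹ * ((q : G) * h * (q : G)⁻¹) by rw [hh]; group]
    rw [show (q : G) * x⁻¹ * (q : G)⁻¹ * ((q : G) * h * (q : G)⁻¹) =
      (q : G) * (x⁻¹ * h) * (q : G)⁻¹ by group, hz]

/-- A class with unit central character on `B` generates the idempotent of `B`. -/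
theorem exists_classSum_mul_eq_blockIdem (hB : IsPBlock M B) {χ : IrrCharacter G} (hχ : χ ∈ B)
    {g : G} (hg : ¬ MemLocalIdeal M (centralChar χ.1 g)) :
    ∃ z : MonoidAlgebra ℂ G, IsCentralElt z ∧ SCoeff M z ∧ classSum ℂ g * z = blockIdem B := by
  classical
  obtain ⟨w, hw, hwS, he⟩ := exists_mul_eq_blockIdem (M := M) (A := B)
    (u := blockIdem B * classSum ℂ g)
    (IsCentralElt.mul (isCentralElt_blockIdem B) (isCentralElt_classSum g))
    (SCoeff.mul (scoeff_blockIdem hB) (scoeff_classSum g))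
    (fun ψ hψ => by
      rw [omega_mul ψ (isCentralElt_blockIdem B), omega_blockIdem, if_pos hψ, one_mul,
        omega_classSum (irr_classFun ψ), memLocalIdeal_centralChar_iff hB hψ hχ]
      exact hg)
    (fun ψ hψ => by
      rw [omega_mul ψ (isCentralElt_blockIdem B), omega_blockIdem, if_neg hψ, zero_mul])
  refine ⟨blockIdem B * w, IsCentralElt.mul (isCentralElt_blockIdem B) hw,
    SCoeff.mul (scoeff_blockIdem hB) hwS, ?_⟩
  rw [← mul_assoc, (IsCentralElt.commute (isCentralElt_classSum g) (blockIdem B)).eq]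
  exact he

/-- **Min–max**, the raw form. -/
theorem exists_isConj_le_centralizer (hB : IsPBlock M B) {χ : IrrCharacter G} (hχ : χ ∈ B)
    {g h : G} (hg : ¬ MemLocalIdeal M (centralChar χ.1 g))
    (hh : ¬ MemLocalIdeal M (blockCoeff B h)) {Q : Subgroup G} (hQ : IsPGroup p Q)
    (hQh : Q ≤ Subgroup.centralizer ({h} : Set G)) :
    ∃ x, IsConj g x ∧ Q ≤ Subgroup.centralizer ({x} : Set G) := by
  by_contra hno
  obtain ⟨z, hz, hzS, he⟩ := exists_classSum_mul_eq_blockIdem hpM hB hχ hg
  refine hh ?_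
  rw [← coeff_blockIdem, ← he]
  exact memLocalIdeal_coeff_classSum_mul hpM hz hzS hQ hQh fun x hx hle => hno ⟨x, hx, hle⟩

/-- **Min–max**: a conjugate of the Sylow subgroup at a class with unit idempotent coefficient
lies in the Sylow subgroup at a class with unit central character. -/
theorem minmax (hB : IsPBlock M B) {χ : IrrCharacter G} (hχ : χ ∈ B) {g h : G}
    (hg : ¬ MemLocalIdeal M (centralChar χ.1 g)) (hh : ¬ MemLocalIdeal M (blockCoeff B h))
    {D Q : Subgroup G} (hD : SylIn p (Subgroup.centralizer ({g} : Set G)) D)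
    (hQ : IsPGroup p Q) (hQh : Q ≤ Subgroup.centralizer ({h} : Set G)) :
    ∃ x, Q.map (MulAut.conj x).toMonoidHom ≤ D := by
  obtain ⟨y, hy, hle⟩ := exists_isConj_le_centralizer hpM hB hχ hg hh hQ hQh
  obtain ⟨c, rfl⟩ := isConj_iff.1 hy
  have hle' : Q.map (MulAut.conj c⁻¹).toMonoidHom ≤ Subgroup.centralizer ({g} : Set G) := by
    have h2 := Subgroup.map_mono (f := (MulAut.conj c⁻¹).toMonoidHom) hle
    rwa [map_conj_centralizer, show c⁻¹ * (c * g * c⁻¹) * c⁻¹⁻¹ = g by group] at h2
  obtain ⟨x, -, hx⟩ := SylIn.exists_conj_le hD (hQ.map _) hle'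
  exact ⟨x * c⁻¹, by rwa [← map_conj_map_conj]⟩

/-- Any two defect groups are conjugate. -/
theorem defectGroup_conj (hB : IsPBlock M B) {D D' : Subgroup G} (hD : IsDefectGroup p M B D)
    (hD' : IsDefectGroup p M B D') : ∃ x, D'.map (MulAut.conj x).toMonoidHom = D := by
  obtain ⟨g, hg, hgD⟩ := isDefectGroup_iff.1 hD
  obtain ⟨h, hh, hhD⟩ := isDefectGroup_iff.1 hD'
  obtain ⟨χ, hχ⟩ := block_nonempty hB
  obtain ⟨x, hx⟩ := minmax hpM hB hχ (hg.2.2 χ hχ) hh.2.1 hgD (SylIn.isPGroup hhD) hhD.1
  obtain ⟨y, hy⟩ := minmax hpM hB hχ (hh.2.2 χ hχ) hg.2.1 hhD (SylIn.isPGroup hgD) hgD.1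
  refine ⟨x, Subgroup.eq_of_le_of_card_ge hx ?_⟩
  have := Subgroup.card_le_of_le hy
  rwa [card_map_conj] at this ⊢

/-- A normal `p`-subgroup centralises some conjugate of a class with unit central character. -/
theorem exists_conj_mem_centralizer {Q : Subgroup G} [Q.Normal] (hQ : IsPGroup p Q)
    {χ : IrrCharacter G} {g : G} (hg : ¬ MemLocalIdeal M (centralChar χ.1 g)) :
    ∃ x, IsConj g x ∧ x ∈ Subgroup.centralizer (Q : Set G) := by
  classical
  by_contra hno
  haveI := charP_residue hpM
  obtain ⟨N, hN⟩ := isNilpotent_of_central Q hQ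
    (isCentralElt_classSum (R := AlgInt ⧸ M) g) fun x hx => by
      rw [coeff_classSum, if_neg]
      exact fun hc => hno ⟨x, hc, hx⟩
  rw [← redA_classSum, ← redA_pow (scoeff_classSum g),
    redA_eq_zero_iff (SCoeff.pow (scoeff_classSum g) N)] at hN
  refine hg (MemLocalIdeal.of_pow (n := N) (memLocalRing_centralChar χ g) ?_)
  rw [← omega_classSum (irr_classFun χ) g, ← omega_pow χ (isCentralElt_classSum g)]
  exact memLocalIdeal_omega χ (IsCentralElt.pow (isCentralElt_classSum g) N) hN

/-- A normal `p`-subgroup lies in every defect group. -/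
theorem normal_le_defectGroup (hB : IsPBlock M B) {Q : Subgroup G} [hQn : Q.Normal]
    (hQ : IsPGroup p Q) {D : Subgroup G} (hD : IsDefectGroup p M B D) : Q ≤ D := by
  obtain ⟨g, hg, hgD⟩ := isDefectGroup_iff.1 hD
  obtain ⟨χ, hχ⟩ := block_nonempty hB
  obtain ⟨x, hx, hxQ⟩ := exists_conj_mem_centralizer hpM hQ (hg.2.2 χ hχ)
  obtain ⟨c, rfl⟩ := isConj_iff.1 hx
  have hnorm : ∀ y : G, Q.map (MulAut.conj y).toMonoidHom = Q := fun y => by
    ext q
    rw [mem_map_conj]
    exact ⟨fun h => by simpa [mul_assoc] using hQn.conj_mem _ h y,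
      fun h => by simpa using hQn.conj_mem q h y⁻¹⟩
  have h1 := Subgroup.map_mono (f := (MulAut.conj c⁻¹).toMonoidHom)
    (le_centralizer_singleton.2 hxQ)
  rw [hnorm, map_conj_centralizer, show c⁻¹ * (c * g * c⁻¹) * c⁻¹⁻¹ = g by group] at h1
  obtain ⟨y, -, hy⟩ := SylIn.exists_conj_le hgD hQ h1
  rwa [hnorm] at hy

omit hpM in
theorem isPRegular_mul_iff {g u : G} (hcomm : Commute g u) (hg : IsPRegular p g)
    (hu : ∃ k, orderOf u = p ^ k) : IsPRegular p (g * u) ↔ u = 1 := by
  refine ⟨fun h => ?_, fun h => by rwa [h, mul_one]⟩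
  obtain ⟨k, hk⟩ := hu
  rcases Nat.eq_zero_or_pos k with rfl | hk'
  · rwa [pow_zero, orderOf_eq_one_iff] at hk
  · refine absurd ?_ h
    rw [hcomm.orderOf_mul_eq_mul_orderOf_of_coprime, hk]
    · exact dvd_mul_of_dvd_right (dvd_pow_self p hk'.ne') _
    · rw [hk]
      exact Nat.Coprime.pow_right _ ((Nat.Prime.coprime_iff_not_dvd hp.out).2 hg).symm

omit hpM in
/-- The average of a character over a coset of a centralised subgroup is an algebraic integer. -/
theorem isIntegral_avg {χ : G → ℂ} (hχ : IsCharacter G χ) {g : G} (D : Subgroup G) [Fintype D]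
    (hg : g ∈ Subgroup.centralizer (D : Set G)) :
    IsIntegral ℤ ((Nat.card D : ℂ)⁻¹ * ∑ u : D, χ (g * u)) := by
  obtain ⟨n, ρ, rfl⟩ := hχ
  set P : Module.End ℂ (Fin n → ℂ) := (Nat.card D : ℂ)⁻¹ • ∑ u : D, ρ u with hP
  have hρP : ∀ v : D, ρ v * P = P := fun v => by
    rw [hP, mul_smul_comm, Finset.mul_sum]
    congr 1
    exact Fintype.sum_equiv (Equiv.mulLeft v) _ _ fun u => by simp [map_mul]
  have hPP : P * P = P := by
    conv_lhs => arg 1; rw [hP]
    rw [smul_mul_assoc, Finset.sum_mul]
    simp only [hρP, Finset.sum_const, Finset.card_univ, ← Nat.card_eq_fintype_card]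
    rw [← Nat.cast_smul_eq_nsmul ℂ, smul_smul,
      inv_mul_cancel₀ (Nat.cast_ne_zero.2 Nat.card_pos.ne'), one_smul]
  have hcomm : Commute (ρ g) P := by
    refine Commute.smul_right (Commute.sum_right _ _ _ fun u _ => ?_) _
    show ρ g * ρ u = ρ u * ρ g
    rw [← map_mul, ← map_mul, hg u u.2]
  set T : Module.End ℂ (Fin n → ℂ) := ρ g * P + (1 - P) with hT
  have hTpow : ∀ j, 1 ≤ j → T ^ j = ρ g ^ j * P + (1 - P) := by
    intro j hj
    induction j, hj using Nat.le_induction with
    | base => rw [pow_one, pow_one]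
    | succ j _ ih =>
      have hA1 : (1 - P) * (1 - P) = 1 - P := by rw [mul_sub, mul_one, sub_mul, one_mul, hPP]; abel
      have hA2 : P * (1 - P) = 0 := by rw [mul_sub, mul_one, hPP, sub_self]
      have hA3 : (1 - P) * P = 0 := by rw [sub_mul, one_mul, hPP, sub_self]
      rw [pow_succ, ih, hT, add_mul, mul_add, mul_add, hA1]
      rw [show ρ g ^ j * P * (ρ g * P) = ρ g ^ (j + 1) * P by
        rw [hcomm.eq, ← mul_assoc, mul_assoc (ρ g ^ j) P P, hPP, mul_assoc, ← hcomm.eq,
          ← mul_assoc, ← pow_succ]]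
      rw [show ρ g ^ j * P * (1 - P) = 0 by rw [mul_assoc, hA2, mul_zero],
        show (1 - P) * (ρ g * P) = 0 by rw [hcomm.eq, ← mul_assoc, hA3, zero_mul]]
      abel
  have h1 : T ^ orderOf g = 1 := by
    rw [hTpow _ (orderOf_pos g), ← map_pow, pow_orderOf_eq_one, map_one, one_mul, add_sub_cancel]
  obtain ⟨b, μ, hμ, hb⟩ := CharInt.exists_eigenbasis (orderOf_pos g).ne' h1
  have hintT : IsIntegral ℤ (LinearMap.trace ℂ _ T) := by
    rw [CharInt.trace_of_eigenbasis b hb]
    exact CharInt.isIntegral_sum_of_pow_eq_one μ (orderOf_pos g).ne' hμ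
  obtain ⟨m, hm⟩ := Char.IsCharacter.exists_nat_classInner (G := D)
    (Char.IsCharacter.restrict ⟨n, ρ, rfl⟩ D) Char.isCharacter_one
  have htrP : LinearMap.trace ℂ _ P = (m : ℂ) := by
    rw [← hm, hP, map_smul, map_sum]
    simp [classInner, Representation.character]
  have hgoal : (Nat.card D : ℂ)⁻¹ * ∑ u : D, ρ.character (g * u) =
      LinearMap.trace ℂ _ T - ((n : ℂ) - (m : ℂ)) := by
    rw [hT, map_add, map_sub, htrP, LinearMap.trace_one, Module.finrank_fin_fun, hP,
      mul_smul_comm, map_smul, Finset.mul_sum (a := ρ g), map_sum]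
    simp [Representation.character, Finset.mul_sum]
  rw [hgoal]
  exact hintT.sub (((isIntegral_algebraMap (R := ℤ) (x := (n : ℤ))).sub
    (isIntegral_algebraMap (R := ℤ) (x := (m : ℤ)))) |> fun h => by simpa using h)

theorem factorization_index_le_degree (χ : IrrCharacter G) {g : G}
    (hg : ¬ MemLocalIdeal M (centralChar χ.1 g)) :
    (Subgroup.centralizer ({g} : Set G)).index.factorization p ≤
      (Char.degree χ).factorization p := by
  refine (memLocalRing_natCast_div_iff hpM (Char.degree_pos χ).ne'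
    Subgroup.index_ne_zero_of_finite).1 ?_
  have h := MemLocalRing.mul
    (memLocalRing_of_isIntegral (M := M) (CharInt.isIntegral_char (Char.irr_isCharacter χ) g))
    (memLocalRing_inv (memLocalRing_centralChar χ g) hg)
  have hne := ne_zero_of_not_memLocalIdeal hg
  rw [centralChar, div_ne_zero_iff, mul_ne_zero_iff] at hne
  convert h using 1
  rw [centralChar, ← Char.apply_one_eq_degree]
  field_simp [hne.1.1, hne.1.2, hne.2]

theorem exists_degree_le_index (hB : IsPBlock M B) {g : G} (hg : IsDefectClass M B g) :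
    ∃ χ ∈ B, (Char.degree χ).factorization p ≤
      (Subgroup.centralizer ({g} : Set G)).index.factorization p := by
  classical
  by_contra hno
  obtain ⟨D, hD⟩ := exists_sylIn (p := p) (Subgroup.centralizer ({g} : Set G))
  haveI := Fintype.ofFinite D
  have hgC : g ∈ Subgroup.centralizer (D : Set G) := le_centralizer_singleton.1 hD.1
  have hsum : ∑ χ ∈ Finset.univ.filter (· ∈ B), χ.1 1 * conj (χ.1 g) =
      ∑ χ ∈ Finset.univ.filter (· ∈ B), χ.1 1 * conj (∑ u : D, χ.1 (g * u)) := by
    simp only [map_sum, Finset.mul_sum]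
    rw [Finset.sum_comm (s := Finset.univ.filter (· ∈ B)) (t := (Finset.univ : Finset D)),
      Finset.sum_eq_single (1 : D)]
    · simp
    · intro u _ hu
      refine weak_orthogonality hpM hB (x := 1) (by simp [IsPRegular, hp.out.ne_one]) fun hr => hu ?_
      obtain ⟨k, hk⟩ := IsPGroup.iff_orderOf.1 (SylIn.isPGroup hD) u
      exact Subtype.ext ((isPRegular_mul_iff (hgC u u.2).symm
        (IsDefectClass.isPRegular hpM hB hg) ⟨k, by rw [Subgroup.orderOf_coe, hk]⟩).1 hr)
    · exact fun h => absurd (Finset.mem_univ _) h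
  refine hg.2.1 ?_
  rw [blockCoeff_eq_sum, hsum, Finset.mul_sum]
  refine MemLocalIdeal.sum _ fun χ hχ => ?_
  have hint := IsIntegral.map (starRingEnd ℂ).toIntAlgHom
    (isIntegral_avg (Char.irr_isCharacter χ) D hgC)
  have heq : (Nat.card G : ℂ)⁻¹ * (χ.1 1 * conj (∑ u : D, χ.1 (g * u))) =
      ((Char.degree χ * Nat.card D : ℕ) : ℂ) / (Nat.card G : ℕ) *
        conj ((Nat.card D : ℂ)⁻¹ * ∑ u : D, χ.1 (g * u)) := by
    rw [map_mul, map_inv₀, map_natCast, Nat.cast_mul, ← Char.apply_one_eq_degree]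
    field_simp
  rw [heq]
  refine MemLocalIdeal.mul_right ((memLocalIdeal_natCast_div_iff hpM
    (mul_ne_zero (Char.degree_pos χ).ne' Nat.card_pos.ne') Nat.card_pos.ne').2 ?_)
    (memLocalRing_of_isIntegral hint)
  have h1 := factorization_index (p := p) (Subgroup.centralizer ({g} : Set G))
  have h2 : (Nat.card D).factorization p =
      (Nat.card (Subgroup.centralizer ({g} : Set G))).factorization p := by
    rw [hD.2, hp.out.factorization_pow, Finsupp.single_eq_same]
  rw [Nat.factorization_mul (Char.degree_pos χ).ne' Nat.card_pos.ne', Finsupp.add_apply]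
  have h3 : (Subgroup.centralizer ({g} : Set G)).index.factorization p <
      (Char.degree χ).factorization p :=
    not_le.1 fun h => hno ⟨χ, (Finset.mem_filter.1 hχ).2, h⟩
  omega

/-- The least `p`-exponent of a degree in a block is that of a defect class. -/
theorem sInf_degree_eq (hB : IsPBlock M B) {g : G} (hg : IsDefectClass M B g) :
    sInf ((fun χ : IrrCharacter G => (charDegree χ.1).factorization p) '' B) =
      (Subgroup.centralizer ({g} : Set G)).index.factorization p := by
  refine le_antisymm ?_ (le_csInf ((block_nonempty hB).image _) ?_)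
  · obtain ⟨χ, hχ, hle⟩ := exists_degree_le_index hpM hB hg
    refine le_trans (Nat.sInf_le (Set.mem_image_of_mem _ hχ)) ?_
    show (charDegree χ.1).factorization p ≤ _
    rw [charDegree_eq]
    exact hle
  · rintro _ ⟨χ, hχ, rfl⟩
    simp only [charDegree_eq]
    exact factorization_index_le_degree hpM χ (hg.2.2 χ hχ)

theorem blockDefect_eq (hB : IsPBlock M B) {g : G} (hg : IsDefectClass M B g) :
    blockDefect p B = (Nat.card (Subgroup.centralizer ({g} : Set G))).factorization p := by
  rw [blockDefect, sInf_degree_eq hpM hB hg,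
    ← factorization_index (p := p) (Subgroup.centralizer ({g} : Set G)), Nat.add_sub_cancel_left]

/-- The order of a defect group. -/
theorem card_defectGroup (hB : IsPBlock M B) {D : Subgroup G} (hD : IsDefectGroup p M B D) :
    Nat.card D = p ^ blockDefect p B := by
  obtain ⟨g, hg, hgD⟩ := isDefectGroup_iff.1 hD
  rw [blockDefect_eq hpM hB hg, hgD.2]

theorem blockHeight_eq_zero_iff (hB : IsPBlock M B) {g : G} (hg : IsDefectClass M B g)
    {χ : IrrCharacter G} (hχ : χ ∈ B) : blockHeight p B χ.1 = 0 ↔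
      (Char.degree χ).factorization p =
        (Subgroup.centralizer ({g} : Set G)).index.factorization p := by
  have h1 := factorization_index_le_degree hpM χ (hg.2.2 χ hχ)
  rw [blockHeight, sInf_degree_eq hpM hB hg, charDegree_eq]
  omega

theorem exists_height_zero (hB : IsPBlock M B) : ∃ χ ∈ B, blockHeight p B χ.1 = 0 := by
  obtain ⟨g, hg⟩ := exists_defectClass hB
  obtain ⟨χ, hχ, hle⟩ := exists_degree_le_index hpM hB hg
  exact ⟨χ, hχ, (blockHeight_eq_zero_iff hpM hB hg hχ).2
    (le_antisymm hle (factorization_index_le_degree hpM χ (hg.2.2 χ hχ)))⟩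

/-- Defect zero. -/
theorem blockOf_eq_singleton_iff (χ : IrrCharacter G) :
    blockOf M χ.1 = {χ} ↔
      (Char.degree χ).factorization p = (Nat.card G).factorization p := by
  classical
  haveI := Fintype.ofFinite G
  constructor
  · intro h
    let P : Sylow p G := default
    haveI := Fintype.ofFinite (P : Subgroup G)
    have hsing : ∀ u : G, ¬ IsPRegular p u → χ.1 u = 0 := fun u hu => by
      have := blockCoeff_eq_zero hpM (isPBlock_blockOf χ) hu
      rw [blockCoeff_eq_sum, h] at this
      simpa [Finset.filter_eq', Nat.card_pos.ne', irr_one_ne_zero χ] using this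
    have hint := isIntegral_avg (Char.irr_isCharacter χ) (g := 1) (P : Subgroup G)
      (Subgroup.one_mem _)
    rw [Finset.sum_eq_single (1 : (P : Subgroup G))] at hint
    rotate_left
    · intro u _ hu
      refine hsing _ fun hr => hu ?_
      obtain ⟨k, hk⟩ := IsPGroup.iff_orderOf.1 P.isPGroup' u
      exact Subtype.ext ((isPRegular_mul_iff (Commute.one_left _)
        (by simp [IsPRegular, hp.out.ne_one]) ⟨k, by rw [Subgroup.orderOf_coe, hk]⟩).1 hr)
    · exact fun h => absurd (Finset.mem_univ _) h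
    rw [Subgroup.coe_one, mul_one, inv_mul_eq_div, Char.apply_one_eq_degree] at hint
    have h1 := (memLocalRing_natCast_div_iff hpM (Char.degree_pos χ).ne' Nat.card_pos.ne').1
      (memLocalRing_of_isIntegral (M := M) hint)
    rw [Sylow.card_eq_multiplicity, hp.out.factorization_pow, Finsupp.single_eq_same] at h1
    have hle : (Char.degree χ).factorization p ≤ (Nat.card G).factorization p := by
      obtain ⟨g, hg⟩ := exists_defectClass (isPBlock_blockOf (M := M) χ)
      obtain ⟨ψ, hψ, hle⟩ := exists_degree_le_index hpM (isPBlock_blockOf χ) hg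
      rw [h, Set.mem_singleton_iff] at hψ
      subst hψ
      have h2 := factorization_index (p := p) (Subgroup.centralizer ({g} : Set G))
      omega
    exact le_antisymm hle h1
  · intro h
    refine Set.Subset.antisymm (blockOf_subset_of_scoeff (A := {χ}) (fun g => ?_) rfl)
      (Set.singleton_subset_iff.2 (mem_blockOf_self χ))
    have hsum : blockCoeff ({χ} : Set (IrrCharacter G)) g =
        (Char.degree χ : ℂ) / (Nat.card G : ℕ) * conj (χ.1 g) := by
      rw [blockCoeff_eq_sum, ← Char.apply_one_eq_degree]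
      simp [Finset.filter_eq', div_eq_inv_mul, mul_assoc]
    rw [coeff_blockIdem, hsum]
    exact MemLocalRing.mul (memLocalRing_natCast_div hpM (Char.degree_pos χ).ne' Nat.card_pos.ne'
      h.ge) (memLocalRing_of_isIntegral
        (IsIntegral.map (starRingEnd ℂ).toIntAlgHom
          (CharInt.isIntegral_char (Char.irr_isCharacter χ) g)))

end Prime

end Cfsg.Agent.Blocks
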