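import Cfsg.Agent.Lib.Blocks.HeightZeroSubsection
import Cfsg.Agent.Lib.Blocks.SecondMain
import Cfsg.Agent.Lib.BrauerPairs.Rank
import Cfsg.Agent.Lib.CharInt.GaloisAverage

/-!
# Brauer's contributions of a subsection

For a `p`-element `x` and a block `b` of `C(x)` inducing `B`, the contributions
`m(χ, ψ) = Σ_{η, η' ∈ b} a(χ, η) conj a(ψ, η') ⟨η°, η'⟩` satisfy `Σ_ψ |m(χ, ψ)|² = m(χ, χ)` and
`Σ_χ m(χ, χ) = l(b)`; for height zero characters `p^d m(χ, ψ)` is a nonzero cyclotomic integer, so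
`k₀(B)² ≤ p^(2d) l(b)`.
-/

namespace Cfsg.Agent.Blocks

open scoped ComplexConjugate Classical
open BrauerPairs (regDot regDot_comm regDot_eq_zero sum_regDot_mul)

set_option linter.style.haveILetI false
set_option linter.unusedSectionVars false

universe u

/-- If nonzero integral combinations of roots of unity have squared absolute values summing to the
natural number `n`, there are at most `n` of them. -/
theorem card_le_of_sum_norm_sq {N : ℕ} [NeZero N] {ι P : Type u} [Fintype ι] [Fintype P]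
    (μ : ι → ℂ) (hμ : ∀ i, μ i ^ N = 1) (C : P → ι → ℤ) (n : ℕ)
    (hsum : ∑ q, (∑ i, (C q i : ℂ) * μ i) * conj (∑ i, (C q i : ℂ) * μ i) = n)
    (hne : ∀ q, ∑ i, (C q i : ℂ) * μ i ≠ 0) : Fintype.card P ≤ n := by
  obtain ⟨m, k, hm, hk, hmain⟩ := CharInt.exists_twists.{u} N
  have hconst : ∀ j, ∑ q, ‖∑ i, (C q i : ℂ) * μ i ^ k j‖ ^ 2 = (n : ℝ) := by
    intro j
    obtain ⟨e, he, hj⟩ : ∃ e, k j * e ≡ 1 [MOD N] ∧ e.Coprime N := by
      refine ⟨k j ^ (Nat.totient N - 1), ?_, Nat.Coprime.pow_left _ (hk j)⟩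
      rw [← pow_succ', Nat.sub_add_cancel (Nat.totient_pos.2 (NeZero.pos N))]
      exact Nat.ModEq.pow_totient (hk j)
    let w : Option (P × ι × ι) → ℤ := fun
      | none => -(n : ℤ)
      | some t => C t.1 t.2.1 * C t.1 t.2.2
    let ν : Option (P × ι × ι) → ℂ := fun
      | none => 1
      | some t => μ t.2.1 * conj (μ t.2.2)
    have hν : ∀ t, ν t ^ N = 1 := by
      rintro (_ | t)
      · exact one_pow N
      · simp only [ν, mul_pow, ← map_pow, hμ, map_one, mul_one]
    have hexp : ∀ l : ℕ, ∑ t, (w t : ℂ) * ν t ^ l =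
        ∑ q, (∑ i, (C q i : ℂ) * μ i ^ l) * conj (∑ i, (C q i : ℂ) * μ i ^ l) - n := by
      intro l
      rw [Fintype.sum_option, Fintype.sum_prod_type]
      simp only [w, ν, Int.cast_neg, Int.cast_natCast, one_pow, mul_one, Fintype.sum_prod_type,
        map_sum, map_mul, map_intCast, map_pow, Finset.mul_sum, Finset.sum_mul, Int.cast_mul,
        mul_pow]
      rw [neg_add_eq_sub]
      congr 1
      refine Finset.sum_congr rfl fun q _ => ?_
      rw [Finset.sum_comm]
      exact Finset.sum_congr rfl fun i _ => Finset.sum_congr rfl fun i' _ => by ring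
    have h0 : ∑ t, (w t : ℂ) * ν t = 0 := by
      have h1 := hexp 1
      simp only [pow_one] at h1
      rw [h1, hsum, sub_self]
    have hback : ∑ t, (w t : ℂ) * (ν t ^ k j) ^ e = 0 := by
      rw [← h0]
      refine Finset.sum_congr rfl fun t _ => ?_
      rw [← pow_mul, pow_eq_pow_mod _ (hν t), show k j * e % N = 1 % N from he,
        ← pow_eq_pow_mod _ (hν t), pow_one]
    have hz := CharInt.sum_eq_zero_of_twist_eq_zero w (fun t => ν t ^ k j)
      (fun t => by rw [← pow_mul, mul_comm, pow_mul, hν, one_pow]) hj hback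
    rw [hexp, sub_eq_zero] at hz
    refine Complex.ofReal_injective ?_
    push_cast
    rw [← hz]
    exact Finset.sum_congr rfl fun q _ => (Complex.mul_conj' _).symm
  have h1 : (Fintype.card P : ℝ) * m ≤ (m : ℝ) * n := by
    calc (Fintype.card P : ℝ) * m = ∑ _q : P, (m : ℝ) := by
          rw [Finset.sum_const, nsmul_eq_mul, Finset.card_univ]
      _ ≤ ∑ q : P, ∑ j, ‖∑ i, (C q i : ℂ) * μ i ^ k j‖ ^ 2 :=
          Finset.sum_le_sum fun q _ => hmain ι (C q) μ hμ (hne q)
      _ = ∑ j : Fin m, ∑ q : P, ‖∑ i, (C q i : ℂ) * μ i ^ k j‖ ^ 2 := Finset.sum_comm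
      _ = (m : ℝ) * n := by simp [hconst]
  rw [mul_comm] at h1
  exact_mod_cast le_of_mul_le_mul_left h1 (by exact_mod_cast hm)

section Local

variable {G : Type u} [Group G] [Fintype G] {M : Ideal AlgInt} [M.IsMaximal] {p : ℕ}
  [hp : Fact p.Prime]

omit hp in
theorem conj_regDot (f f' : G → ℂ) : conj (regDot p f f') = regDot p f' f := by
  rw [regDot, Char.conj_classInner, BrauerPairs.classInner_regFun_right]

theorem conj_regDot_irr (η ν : IrrCharacter G) :
    conj (regDot p η.1 ν.1) = regDot p η.1 ν.1 := by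
  rw [conj_regDot, regDot_comm hp.out]

variable {b : Set (IrrCharacter G)}

theorem sum_regDot_mul_filter (hpM : (p : AlgInt) ∈ M) (hb : IsPBlock M b) {χ : IrrCharacter G}
    (hχ : χ ∈ b) (η : G → ℂ) :
    ∑ ν ∈ Finset.univ.filter (· ∈ b), regDot p χ.1 ν.1 * regDot p ν.1 η = regDot p χ.1 η := by
  rw [Finset.sum_subtype (p := (· ∈ b)) (Finset.univ.filter (· ∈ b)) (by simp)
    (fun ν : IrrCharacter G => regDot p χ.1 ν.1 * regDot p ν.1 η)]
  exact sum_regDot_mul hpM hp.out hb hχ η

theorem sum_classInner_mul_conj_eq {ι : Type*} (s : Finset ι) (f : ι → G → ℂ) (φ φ' : G → ℂ) :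
    ∑ i ∈ s, classInner (f i) φ * conj (classInner (f i) φ') =
      (Nat.card G : ℂ)⁻¹ * (Nat.card G : ℂ)⁻¹ *
        ∑ a, ∑ a', (∑ i ∈ s, f i a * conj (f i a')) * (conj (φ a) * φ' a') := by
  calc _ = ∑ i ∈ s, (Nat.card G : ℂ)⁻¹ * (Nat.card G : ℂ)⁻¹ *
        ∑ a, ∑ a', f i a * conj (φ a) * (conj (f i a') * φ' a') := by
        refine Finset.sum_congr rfl fun i _ => ?_
        rw [← Finset.sum_mul_sum]
        simp only [classInner, map_mul, map_inv₀, map_natCast, map_sum, Complex.conj_conj]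
        ring
    _ = _ := by
        rw [← Finset.mul_sum, Finset.sum_comm]
        congr 1
        refine Finset.sum_congr rfl fun a _ => ?_
        rw [Finset.sum_comm]
        refine Finset.sum_congr rfl fun a' _ => ?_
        rw [Finset.sum_mul]
        exact Finset.sum_congr rfl fun i _ => by ring

/-- Equal kernels give equal sums of products of inner products. -/
theorem sum_classInner_mul_conj {ι κ : Type*} (s : Finset ι) (t : Finset κ) (f : ι → G → ℂ)
    (g : κ → G → ℂ)
    (h : ∀ a a', ∑ i ∈ s, f i a * conj (f i a') = ∑ j ∈ t, g j a * conj (g j a'))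
    (φ φ' : G → ℂ) :
    ∑ i ∈ s, classInner (f i) φ * conj (classInner (f i) φ') =
      ∑ j ∈ t, classInner (g j) φ * conj (classInner (g j) φ') := by
  rw [sum_classInner_mul_conj_eq, sum_classInner_mul_conj_eq]
  simp only [h]

/-- In a block, the matrix `p^d ⟨η°, η'⟩` has rank one modulo `p`. -/
theorem intCoeff_rank_one (hpM : (p : AlgInt) ∈ M) (hb : IsPBlock M b)
    {c : IrrCharacter G → IrrCharacter G → ℤ}
    (hc : ∀ η ∈ b, ∀ ν, ((p ^ blockDefect p b : ℕ) : ℂ) * regDot p η.1 ν.1 = c η ν)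
    {η₀ η η' : IrrCharacter G} (h₀ : η₀ ∈ b) (hh₀ : blockHeight p b η₀.1 = 0) (hη : η ∈ b)
    (hη' : η' ∈ b) :
    (p : ℤ) ∣ c η' η * c η₀ η₀ - c η' η₀ * c η η₀ := by
  set a := (Nat.card G).factorization p
  set d := blockDefect p b
  set e := a - d with he
  have hda : d ≤ a := Nat.sub_le _ _
  have hmin : (Char.degree η₀).factorization p = e := by
    have h1 := Char.factorization_degree_of_height_zero h₀ hh₀
    have h2 : (Char.degree η₀).factorization p ≤ a :=
      (Nat.factorization_le_iff_dvd (Char.degree_pos η₀).ne' Nat.card_pos.ne').2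
        (Char.degree_dvd_natCard η₀) p
    rw [he, show d = a - (Char.degree η₀).factorization p from by rw [h1]; rfl]
    omega
  have hdiv : ∀ ξ ∈ b, ∃ u : ℕ, Char.degree ξ = p ^ e * u := fun ξ hξ => by
    refine (hp.out.pow_dvd_iff_le_factorization (Char.degree_pos ξ).ne').2 ?_
    rw [← hmin, Char.factorization_degree_of_height_zero h₀ hh₀]
    exact Char.sInf_le_factorization_degree hξ
  obtain ⟨u₀, hu₀⟩ := hdiv η₀ h₀
  obtain ⟨u, hu⟩ := hdiv η hη
  have hu₀p : ¬ p ∣ u₀ := fun h => by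
    have : p ^ (e + 1) ∣ Char.degree η₀ := by
      rw [hu₀, pow_succ]; exact mul_dvd_mul_left _ h
    have := (hp.out.pow_dvd_iff_le_factorization (Char.degree_pos η₀).ne').1 this
    omega
  have hpe : ((p ^ e : ℕ) : ℂ) ≠ 0 := Nat.cast_ne_zero.2 (pow_ne_zero _ hp.out.ne_zero)
  have hpM' : ∀ n : ℤ, MemLocalIdeal M (n : ℂ) → (p : ℤ) ∣ n := fun n hn => by
    have := (Char.memLocalIdeal_intCast_div_iff (M := M) hpM n one_ne_zero).1 (by simpa using hn)
    simpa using this
  have key : ∀ ξ ∈ b, (p : ℤ) ∣ (u₀ : ℤ) * c ξ η - (u : ℤ) * c ξ η₀ := by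
    intro ξ hξ
    refine hpM' _ ?_
    have hsame : SameBlock M η.1 η₀.1 := by
      rw [← mem_blockOf, ← block_eq hb hη]
      exact h₀
    have h1 := Char.memLocalIdeal_regInner_div_sub hpM hp.out ξ hsame
    have hreg : ∀ ν : IrrCharacter G, Char.regInner p ξ.1 ν.1 = ((p ^ e : ℕ) : ℂ) * c ξ ν := by
      intro ν
      rw [Char.regInner, Char.classInner_smul_left, ← regDot, ← hc ξ hξ ν, ← mul_assoc,
        ← Nat.cast_mul, ← pow_add, he, Nat.sub_add_cancel hda]
    rw [hreg, hreg, Char.apply_one_eq_degree, Char.apply_one_eq_degree, hu, hu₀,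
      Nat.cast_mul, Nat.cast_mul, mul_div_mul_left _ _ hpe, mul_div_mul_left _ _ hpe] at h1
    have hu0 : (u : ℂ) ≠ 0 := Nat.cast_ne_zero.2 fun h => by
      simpa [hu, h] using (Char.degree_pos η).ne'
    have hu00 : (u₀ : ℂ) ≠ 0 := Nat.cast_ne_zero.2 fun h => hu₀p (h ▸ dvd_zero p)
    have h2 := MemLocalIdeal.mul_left (memLocalRing_natCast (M := M) (u * u₀)) h1
    push_cast at h2 ⊢
    convert h2 using 1
    field_simp
  have h1 := key η' hη'
  have h2 := key η₀ h₀
  have hsymm : c η₀ η = c η η₀ := by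
    have := hc η₀ h₀ η
    rw [regDot_comm hp.out, hc η hη η₀] at this
    exact_mod_cast this.symm
  rw [hsymm] at h2
  have h3 : (p : ℤ) ∣ (u₀ : ℤ) * (c η' η * c η₀ η₀ - c η' η₀ * c η η₀) := by
    have : (u₀ : ℤ) * (c η' η * c η₀ η₀ - c η' η₀ * c η η₀) =
        c η₀ η₀ * ((u₀ : ℤ) * c η' η - u * c η' η₀) -
          c η' η₀ * ((u₀ : ℤ) * c η η₀ - u * c η₀ η₀) := by ring
    rw [this]
    exact dvd_sub (Dvd.dvd.mul_left h1 _) (Dvd.dvd.mul_left h2 _)
  exact ((Nat.prime_iff_prime_int.1 hp.out).dvd_mul.1 h3).resolve_left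
    fun h => hu₀p (by exact_mod_cast h)

end Local

section Subsection

variable {G : Type u} [Group G] [Fintype G] {M : Ideal AlgInt} [M.IsMaximal] {p : ℕ}
  [hp : Fact p.Prime] {x : G}

/-- The translate of `χ` by `x`, on `C(x)`. -/
def secFun (x : G) (χ : G → ℂ) : Subgroup.centralizer ({x} : Set G) → ℂ :=
  fun c => χ (x * (c : G))

/-- The central element `x` of `C(x)`. -/
def secElt (x : G) : Subgroup.centralizer ({x} : Set G) :=
  ⟨x, Subgroup.mem_centralizer_singleton_iff.2 rfl⟩

/-- The scalar by which `x` acts in `η`. -/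
noncomputable def secScalar (η : IrrCharacter (Subgroup.centralizer ({x} : Set G))) : ℂ :=
  omega η.1 (MonoidAlgebra.single (secElt x) 1)

omit [Fintype G] in
theorem isClassFunction_secFun (χ : G → ℂ) (hχ : IsClassFunction G χ) :
    IsClassFunction (Subgroup.centralizer ({x} : Set G)) (secFun x χ) := fun c a => by
  have hc : x * (a : G) = (a : G) * x := (Subgroup.mem_centralizer_singleton_iff.1 a.2).symm
  show χ (x * ((a : G) * c * (a : G)⁻¹)) = χ (x * c)
  rw [← hχ (x * c) a, ← mul_assoc, ← mul_assoc, hc]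
  group

omit [Fintype G] in
theorem isCentralElt_secElt (z : Subgroup.centralizer ({x} : Set G))
    (hz : ∀ a, Commute z a) : IsCentralElt (MonoidAlgebra.single z (1 : ℂ)) := by
  intro g h
  simp only [MonoidAlgebra.coeff_single, Finsupp.single_apply]
  refine if_congr ⟨fun e => ?_, fun e => ?_⟩ rfl rfl
  · rw [show g = h⁻¹ * (h * g * h⁻¹) * h by group, ← e, mul_assoc, (hz h).eq, inv_mul_cancel_left]
  · rw [← e, ← (hz h).eq, mul_inv_cancel_right]

omit [Fintype G] in
theorem commute_secElt (a : Subgroup.centralizer ({x} : Set G)) : Commute (secElt x) a :=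
  Subtype.ext (Subgroup.mem_centralizer_singleton_iff.1 a.2).symm

variable [Fintype (Subgroup.centralizer ({x} : Set G))]

theorem secScalar_pow {k : ℕ} (hx : orderOf x = p ^ k)
    (η : IrrCharacter (Subgroup.centralizer ({x} : Set G))) :
    secScalar η ^ (p ^ k) = 1 := by
  rw [secScalar, ← omega_pow η (isCentralElt_secElt _ commute_secElt), MonoidAlgebra.single_pow,
    one_pow, show secElt x ^ p ^ k = 1 from Subtype.ext (by
      show x ^ p ^ k = 1
      rw [← hx, pow_orderOf_eq_one]), ← MonoidAlgebra.one_def, omega_one]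

theorem red_secScalar (hpM : (p : AlgInt) ∈ M) {k : ℕ} (hx : orderOf x = p ^ k)
    (η : IrrCharacter (Subgroup.centralizer ({x} : Set G))) :
    MemLocalRing M (secScalar η) ∧ red M (secScalar η) = 1 := by
  haveI := charP_residue hpM
  have hint : IsIntegral ℤ (secScalar η) :=
    IsIntegral.of_pow (n := p ^ k) (pow_pos hp.out.pos k) (by rw [secScalar_pow hx]; exact isIntegral_one)
  have hr : MemLocalRing M (secScalar η) := memLocalRing_of_isIntegral hint
  refine ⟨hr, sub_eq_zero.1 (eq_zero_of_pow_eq_zero (n := p ^ k) ?_)⟩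
  rw [sub_pow_char_pow, ← red_pow hr, secScalar_pow hx, red_one, one_pow, sub_self]

/-- The coefficient of `η` in the translate of `χ`. -/
theorem classInner_secFun (χ : G → ℂ) (η : IrrCharacter (Subgroup.centralizer ({x} : Set G))) :
    classInner (secFun x χ) η.1 =
      secScalar η * classInner (fun c : Subgroup.centralizer ({x} : Set G) => χ c) η.1 := by
  have hη := Char.irr_isCharacter η
  have h1 : ∀ c, η.1 ((secElt x)⁻¹ * c) = omega η.1 (MonoidAlgebra.single (secElt x)⁻¹ 1) * η.1 c :=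
    fun c => by
      have := chiL_mul_of_central η
        (isCentralElt_secElt (secElt x)⁻¹ fun a => (commute_secElt a).inv_left)
        (MonoidAlgebra.single c 1)
      simpa [MonoidAlgebra.single_mul_single, chiL_single] using this
  have h2 : conj (omega η.1 (MonoidAlgebra.single (secElt x)⁻¹ 1)) = secScalar η := by
    rw [secScalar, omega, omega, chiL_single, chiL_single, one_mul, one_mul, map_div₀,
      Char.IsCharacter.conj_apply hη, inv_inv, Char.IsCharacter.conj_apply hη, inv_one]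
  simp only [classInner]
  rw [mul_left_comm (secScalar η)]
  congr 1
  rw [Finset.mul_sum]
  refine Fintype.sum_equiv (Equiv.mulLeft (secElt x)) _ _ fun c => ?_
  simp only [Equiv.coe_mulLeft]
  have := h1 (secElt x * c)
  rw [inv_mul_cancel_left] at this
  rw [this, map_mul, h2]
  show χ (x * (c : G)) * _ = _
  simp only [Subgroup.coe_mul]
  show _ = secScalar η * (χ (x * (c : G)) * _)
  ring

variable {B : Set (IrrCharacter G)} {b : Set (IrrCharacter (Subgroup.centralizer ({x} : Set G)))}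

theorem regDot_secFun (hpM : (p : AlgInt) ∈ M) (hb : IsPBlock M b) (χ : IrrCharacter G)
    {ν : IrrCharacter (Subgroup.centralizer ({x} : Set G))} (hν : ν ∈ b) :
    regDot p (secFun x χ.1) ν.1 = ∑ η ∈ Finset.univ.filter (· ∈ b),
      classInner (secFun x χ.1) η.1 * regDot p η.1 ν.1 := by
  conv_lhs => rw [regDot, Char.eq_sum_classInner_smul (isClassFunction_secFun χ.1 (irr_classFun χ)),
    BrauerPairs.regFun_sum, Char.classInner_sum_left]
  simp only [Char.classInner_smul_left]
  refine (Finset.sum_filter_of_ne fun η _ hne => ?_).symm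
  by_contra hη
  refine hne ?_
  show _ * regDot p η.1 ν.1 = 0
  rw [regDot_comm hp.out, regDot_eq_zero hpM hp.out hb hν hη, mul_zero]

/-- The second main theorem in the form `Σ_ψ D(ψ, η) conj D(ψ, η') = ⟨η°, η'⟩`. -/
theorem sum_regDot_secFun (hpM : (p : AlgInt) ∈ M) {k : ℕ} (hx : orderOf x = p ^ k)
    (hb : IsInducedBlock M (Subgroup.centralizer ({x} : Set G)) b B)
    {η η' : IrrCharacter (Subgroup.centralizer ({x} : Set G))} (hη : η ∈ b) (_hη' : η' ∈ b) :
    ∑ ψ ∈ Finset.univ.filter (· ∈ B),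
      regDot p (secFun x ψ.1) η.1 * conj (regDot p (secFun x ψ.1) η'.1) = regDot p η.1 η'.1 := by
  have hker : ∀ a a', ∑ ψ ∈ Finset.univ.filter (· ∈ B),
      Char.regFun p (secFun x ψ.1) a * conj (Char.regFun p (secFun x ψ.1) a') =
      ∑ ν ∈ Finset.univ.filter (· ∈ inducingSet M (Subgroup.centralizer ({x} : Set G)) B),
        Char.regFun p ν.1 a * conj (Char.regFun p ν.1 a') := by
    intro a a'
    by_cases ha : p ∣ orderOf a
    · simp [Char.regFun, ha]
    by_cases ha' : p ∣ orderOf a'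
    · simp [Char.regFun, ha']
    simp only [Char.regFun, if_neg ha, if_neg ha', secFun]
    exact second_main_orth hpM ⟨k, hx⟩ hb.2.1 ha ha'
  have h : ∑ ψ ∈ Finset.univ.filter (· ∈ B),
      regDot p (secFun x ψ.1) η.1 * conj (regDot p (secFun x ψ.1) η'.1) =
      ∑ ν ∈ Finset.univ.filter (· ∈ inducingSet M (Subgroup.centralizer ({x} : Set G)) B),
        regDot p ν.1 η.1 * conj (regDot p ν.1 η'.1) :=
    sum_classInner_mul_conj _ _ (fun ψ : IrrCharacter G => Char.regFun p (secFun x ψ.1))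
      (fun ν : IrrCharacter (Subgroup.centralizer ({x} : Set G)) => Char.regFun p ν.1) hker _ _
  rw [h]
  simp only [conj_regDot_irr]
  rw [← sum_regDot_mul_filter hpM hb.1 hη η'.1]
  refine (Finset.sum_congr rfl fun ν _ => ?_).trans
    (Finset.sum_subset (fun ν hν => ?_) fun ν _ hν => ?_).symm
  · rw [regDot_comm hp.out ν η]
  · refine Finset.mem_filter.2 ⟨Finset.mem_univ _, ?_⟩
    show IsInducedBlock M _ (blockOf M ν.1) B
    rwa [← block_eq hb.1 (Finset.mem_filter.1 hν).2]
  · rw [regDot_eq_zero hpM hp.out hb.1 hη fun h => hν (Finset.mem_filter.2 ⟨Finset.mem_univ _, h⟩),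
      zero_mul]

/-- The contribution of the subsection `(x, b)` to `χ`, `ψ`. -/
noncomputable def contribution (p : ℕ) (b : Set (IrrCharacter (Subgroup.centralizer ({x} : Set G))))
    (χ ψ : G → ℂ) : ℂ :=
  ∑ η ∈ Finset.univ.filter (· ∈ b),
    classInner (secFun x χ) η.1 * conj (regDot p (secFun x ψ) η.1)

theorem sum_contribution_mul_conj (hpM : (p : AlgInt) ∈ M) {k : ℕ} (hx : orderOf x = p ^ k)
    (hb : IsInducedBlock M (Subgroup.centralizer ({x} : Set G)) b B) (χ : IrrCharacter G) :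
    ∑ ψ ∈ Finset.univ.filter (· ∈ B), contribution p b χ.1 ψ.1 * conj (contribution p b χ.1 ψ.1) =
      contribution p b χ.1 χ.1 := by
  unfold contribution
  rw [Finset.sum_congr rfl fun ψ _ => Finset.sum_mul _ _ _, Finset.sum_comm]
  refine Finset.sum_congr rfl fun η hη => ?_
  rw [regDot_secFun hpM hb.1 χ (Finset.mem_filter.1 hη).2, map_sum, Finset.mul_sum]
  simp only [map_sum, map_mul, Complex.conj_conj, Finset.mul_sum]
  rw [Finset.sum_comm]
  refine Finset.sum_congr rfl fun η' hη' => ?_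
  rw [conj_regDot_irr,
    ← sum_regDot_secFun hpM hx hb (Finset.mem_filter.1 hη').2 (Finset.mem_filter.1 hη).2,
    Finset.mul_sum, Finset.mul_sum]
  exact Finset.sum_congr rfl fun ψ _ => by ring

theorem sum_contribution_self (hpM : (p : AlgInt) ∈ M) {k : ℕ} (hx : orderOf x = p ^ k)
    (hb : IsInducedBlock M (Subgroup.centralizer ({x} : Set G)) b B) :
    ∑ χ ∈ Finset.univ.filter (· ∈ B), contribution p b χ.1 χ.1 = blockRank p b := by
  have h : ∀ χ : IrrCharacter G, contribution p b χ.1 χ.1 =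
      ∑ ν ∈ Finset.univ.filter (· ∈ b),
        regDot p (secFun x χ.1) ν.1 * conj (regDot p (secFun x χ.1) ν.1) := by
    intro χ
    have e : ∀ ν ∈ Finset.univ.filter (· ∈ b),
        regDot p (secFun x χ.1) ν.1 * conj (regDot p (secFun x χ.1) ν.1) =
          ∑ η ∈ Finset.univ.filter (· ∈ b),
            classInner (secFun x χ.1) η.1 *
              (regDot p η.1 ν.1 * conj (regDot p (secFun x χ.1) ν.1)) := by
      intro ν hν
      conv_lhs => arg 1; rw [regDot_secFun hpM hb.1 χ (Finset.mem_filter.1 hν).2]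
      rw [Finset.sum_mul]
      exact Finset.sum_congr rfl fun η _ => by ring
    rw [Finset.sum_congr rfl e, Finset.sum_comm]
    refine Finset.sum_congr rfl fun η hη => ?_
    rw [← Finset.mul_sum]
    congr 1
    symm
    trans ∑ ν ∈ Finset.univ.filter (· ∈ b), ∑ η' ∈ Finset.univ.filter (· ∈ b),
      regDot p η.1 ν.1 * regDot p ν.1 η'.1 * conj (classInner (secFun x χ.1) η'.1)
    · refine Finset.sum_congr rfl fun ν hν => ?_
      rw [regDot_secFun hpM hb.1 χ (Finset.mem_filter.1 hν).2, map_sum, Finset.mul_sum]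
      refine Finset.sum_congr rfl fun η' _ => ?_
      rw [map_mul, conj_regDot_irr, regDot_comm hp.out η' ν]
      ring
    · rw [Finset.sum_comm, regDot_secFun hpM hb.1 χ (Finset.mem_filter.1 hη).2, map_sum]
      refine Finset.sum_congr rfl fun η' _ => ?_
      rw [← Finset.sum_mul, sum_regDot_mul_filter hpM hb.1 (Finset.mem_filter.1 hη).2, map_mul,
        conj_regDot_irr, regDot_comm hp.out η' η]
      ring
  simp only [h]
  rw [Finset.sum_comm, BrauerPairs.blockRank_eq_sum hpM hp.out hb.1,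
    ← Finset.sum_subtype (Finset.univ.filter (· ∈ b)) (by simp)
      (fun ν : IrrCharacter (Subgroup.centralizer ({x} : Set G)) =>
        classInner (Char.regFun p ν.1) ν.1)]
  exact Finset.sum_congr rfl fun ν hν =>
    sum_regDot_secFun hpM hx hb (Finset.mem_filter.1 hν).2 (Finset.mem_filter.1 hν).2

theorem conj_contribution (hpM : (p : AlgInt) ∈ M) (hb : IsPBlock M b) (χ ψ : IrrCharacter G) :
    conj (contribution p b χ.1 ψ.1) = contribution p b ψ.1 χ.1 := by
  have e : ∀ (χ ψ : IrrCharacter G), contribution p b χ.1 ψ.1 =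
      ∑ η ∈ Finset.univ.filter (· ∈ b), ∑ η' ∈ Finset.univ.filter (· ∈ b),
        classInner (secFun x χ.1) η.1 * conj (classInner (secFun x ψ.1) η'.1) *
          regDot p η'.1 η.1 := by
    intro χ ψ
    refine Finset.sum_congr rfl fun η hη => ?_
    rw [regDot_secFun hpM hb ψ (Finset.mem_filter.1 hη).2, map_sum, Finset.mul_sum]
    exact Finset.sum_congr rfl fun η' _ => by rw [map_mul, conj_regDot_irr]; ring
  rw [e, e, map_sum, Finset.sum_comm (γ := IrrCharacter (Subgroup.centralizer ({x} : Set G)))]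
  refine Finset.sum_congr rfl fun η _ => ?_
  rw [map_sum]
  exact Finset.sum_congr rfl fun η' _ => by
    rw [map_mul, map_mul, Complex.conj_conj, conj_regDot_irr, regDot_comm hp.out η η']
    ring

/-- `p^d m(χ, ψ)` is an integral combination of roots of unity of order dividing that of `x`. -/
theorem exists_roots_combination (hpM : (p : AlgInt) ∈ M) {k : ℕ} (hx : orderOf x = p ^ k)
    (hb : IsPBlock M b) :
    ∃ (μ : IrrCharacter (Subgroup.centralizer ({x} : Set G)) ×
          IrrCharacter (Subgroup.centralizer ({x} : Set G)) → ℂ)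
      (Z : IrrCharacter G × IrrCharacter G → IrrCharacter (Subgroup.centralizer ({x} : Set G)) ×
          IrrCharacter (Subgroup.centralizer ({x} : Set G)) → ℤ),
      (∀ i, μ i ^ (p ^ k) = 1) ∧
      (∀ q, ∑ i, (Z q i : ℂ) * μ i =
        ((p ^ blockDefect p b : ℕ) : ℂ) * contribution p b q.1.1 q.2.1) := by
  choose mlt _ hmlt using fun χ : IrrCharacter G => Char.IsCharacter.exists_decomp
    (Char.IsCharacter.restrict (Char.irr_isCharacter χ) (Subgroup.centralizer ({x} : Set G)))
  have hex : ∀ η : IrrCharacter (Subgroup.centralizer ({x} : Set G)),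
      ∃ c : IrrCharacter (Subgroup.centralizer ({x} : Set G)) → ℤ, η ∈ b →
        ∀ ν, ((p ^ blockDefect p b : ℕ) : ℂ) * regDot p η.1 ν.1 = c ν := fun η => by
    by_cases hη : η ∈ b
    · obtain ⟨c, hc⟩ := BrauerPairs.exists_int_regDot hpM hp.out hb hη
      exact ⟨c, fun _ => hc⟩
    · exact ⟨0, fun h => absurd h hη⟩
  choose c hc using hex
  refine ⟨fun i => secScalar i.1 * conj (secScalar i.2),
    fun q i => if i.1 ∈ b ∧ i.2 ∈ b then (mlt q.1 i.1 : ℤ) * mlt q.2 i.2 * c i.2 i.1 else 0,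
    fun i => ?_, fun q => ?_⟩
  · simp only [mul_pow, ← map_pow, secScalar_pow hx, map_one, mul_one]
  rw [Fintype.sum_prod_type, contribution, Finset.mul_sum, Finset.sum_filter]
  refine Finset.sum_congr rfl fun η _ => ?_
  by_cases hη : η ∈ b
  swap
  · simp [hη]
  rw [if_pos hη, regDot_secFun hpM hb q.2 hη, map_sum, Finset.mul_sum, Finset.mul_sum,
    Finset.sum_filter]
  refine Finset.sum_congr rfl fun η' _ => ?_
  by_cases hη' : η' ∈ b
  swap
  · simp [hη']
  simp only [hη, hη', and_self, if_true]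
  rw [classInner_secFun, classInner_secFun, hmlt, hmlt, map_mul, map_mul, map_natCast,
    conj_regDot_irr]
  simp only [Int.cast_mul, Int.cast_natCast, ← hc η' hη' η]
  ring

/-- For height zero `χ`, `ψ`, `p^d m(χ, ψ)` is a unit modulo `M`. -/
theorem not_memLocalIdeal_contribution (hpM : (p : AlgInt) ∈ M) {k : ℕ} (hx : orderOf x = p ^ k)
    (hb : IsInducedBlock M (Subgroup.centralizer ({x} : Set G)) b B) {χ₁ χ₂ : IrrCharacter G}
    (hχ₁ : χ₁ ∈ B) (hh₁ : blockHeight p B χ₁.1 = 0) (hχ₂ : χ₂ ∈ B)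
    (hh₂ : blockHeight p B χ₂.1 = 0) :
    ¬ MemLocalIdeal M (((p ^ blockDefect p b : ℕ) : ℂ) * contribution p b χ₁.1 χ₂.1) := by
  obtain ⟨η₀, h₀, hh₀, -⟩ := blau hpM hb hχ₁ hh₁
  set d := blockDefect p b
  set T := Finset.univ.filter (· ∈ b)
  choose mlt _ hmlt using fun χ : IrrCharacter G =>
    Char.IsCharacter.exists_decomp (Char.IsCharacter.restrict (Char.irr_isCharacter χ) (Subgroup.centralizer ({x} : Set G)))
  have hcoef : ∀ (χ : IrrCharacter G) η,
      classInner (secFun x χ.1) η.1 = secScalar η * (mlt χ η : ℂ) := fun χ η => by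
    rw [classInner_secFun, ← hmlt χ η]
  have hex : ∀ η : IrrCharacter (Subgroup.centralizer ({x} : Set G)), ∃ c : IrrCharacter (Subgroup.centralizer ({x} : Set G)) → ℤ, η ∈ b →
      ∀ ν, ((p ^ d : ℕ) : ℂ) * regDot p η.1 ν.1 = c ν := fun η => by
    by_cases hη : η ∈ b
    · obtain ⟨c, hc⟩ := BrauerPairs.exists_int_regDot hpM hp.out hb.1 hη
      exact ⟨c, fun _ => hc⟩
    · exact ⟨0, fun h => absurd h hη⟩
  choose c hc using hex
  let μ : {η // η ∈ T} × {η // η ∈ T} → ℂ := fun i => secScalar i.1.1 * conj (secScalar i.2.1)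
  let Z : IrrCharacter G × IrrCharacter G → {η // η ∈ T} × {η // η ∈ T} → ℤ := fun q i =>
    (mlt q.1 i.1.1 : ℤ) * mlt q.2 i.2.1 * c i.2.1 i.1.1
  have hμ : ∀ i, μ i ^ (p ^ k) = 1 := fun i => by
    simp only [μ, mul_pow, ← map_pow, secScalar_pow hx, map_one, mul_one]
  have hz : ∀ q : IrrCharacter G × IrrCharacter G, ∑ i, (Z q i : ℂ) * μ i =
      ((p ^ d : ℕ) : ℂ) * contribution p b q.1.1 q.2.1 := by
    intro q
    rw [Fintype.sum_prod_type, contribution, Finset.mul_sum, ← Finset.sum_coe_sort T]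
    refine Finset.sum_congr rfl fun η _ => ?_
    rw [regDot_secFun hpM hb.1 q.2 (Finset.mem_filter.1 η.2).2, map_sum, Finset.mul_sum,
      Finset.mul_sum, ← Finset.sum_coe_sort T]
    refine Finset.sum_congr rfl fun η' _ => ?_
    rw [hcoef, hcoef, map_mul, map_mul, map_natCast, conj_regDot_irr]
    simp only [Z, μ, Int.cast_mul, Int.cast_natCast, ← hc η'.1 (Finset.mem_filter.1 η'.2).2 η.1]
    ring
  let S : IrrCharacter G → ℤ := fun χ => ∑ η ∈ T, (mlt χ η : ℤ) * c η η₀
  have hS : ∀ χ ∈ B, blockHeight p B χ.1 = 0 → ¬ (p : ℤ) ∣ S χ := by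
    intro χ hχ hh hdvd
    refine (Char.memLocalIdeal_regInner_restrict hpM hp.out hb h₀).2 hχ hh ?_
    have hsum : regDot p (fun h : (Subgroup.centralizer ({x} : Set G)) => χ.1 h) η₀.1 =
        ∑ η ∈ T, (mlt χ η : ℂ) * regDot p η.1 η₀.1 := by
      rw [regDot, Char.eq_sum_classInner_smul (Char.IsCharacter.isClassFunction
        (Char.IsCharacter.restrict (Char.irr_isCharacter χ) (Subgroup.centralizer ({x} : Set G)))), BrauerPairs.regFun_sum,
        Char.classInner_sum_left]
      simp only [Char.classInner_smul_left, hmlt]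
      refine (Finset.sum_filter_of_ne fun η _ hne => ?_).symm
      by_contra hη
      refine hne ?_
      show _ * regDot p η.1 η₀.1 = 0
      rw [regDot_comm hp.out, regDot_eq_zero hpM hp.out hb.1 h₀ hη, mul_zero]
    have hreg : Char.regInner p (fun h : (Subgroup.centralizer ({x} : Set G)) => χ.1 h) η₀.1 =
        (((p : ℤ) ^ ((Nat.card (Subgroup.centralizer ({x} : Set G))).factorization p - d) * S χ : ℤ) : ℂ) := by
      rw [Char.regInner, Char.classInner_smul_left, ← regDot, hsum, Int.cast_mul, Int.cast_pow,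
        Int.cast_natCast, Int.cast_sum, Finset.mul_sum, Finset.mul_sum]
      refine Finset.sum_congr rfl fun η hη => ?_
      rw [Int.cast_mul, Int.cast_natCast, ← hc η (Finset.mem_filter.1 hη).2 η₀]
      push_cast
      conv_lhs => rw [← Nat.sub_add_cancel (show d ≤
        (Nat.card (Subgroup.centralizer ({x} : Set G))).factorization p from Nat.sub_le _ _),
        pow_add]
      ring
    rw [hreg, Char.apply_one_eq_degree,
      Char.memLocalIdeal_intCast_div_iff hpM _ (Char.degree_pos η₀).ne', pow_succ]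
    refine mul_dvd_mul (pow_dvd_pow _ ?_) hdvd
    have h1 := Char.factorization_degree_of_height_zero h₀ hh₀
    have h2 : (Char.degree η₀).factorization p ≤ (Nat.card (Subgroup.centralizer ({x} : Set G))).factorization p :=
      (Nat.factorization_le_iff_dvd (Char.degree_pos η₀).ne' Nat.card_pos.ne').2
        (Char.degree_dvd_natCard η₀) p
    show _ ≤ _ - ((Nat.card (Subgroup.centralizer ({x} : Set G))).factorization p - _)
    rw [← h1]
    omega
  intro hzero
  haveI := charP_residue hpM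
  have hred : red M (∑ i, (Z (χ₁, χ₂) i : ℂ) * μ i) =
      ((∑ i, Z (χ₁, χ₂) i : ℤ) : AlgInt ⧸ M) := by
    have hmr : ∀ i, MemLocalRing M (μ i) := fun i =>
      memLocalRing_of_isIntegral (IsIntegral.of_pow (pow_pos hp.out.pos k)
        (by rw [hμ]; exact isIntegral_one))
    have hμ1 : ∀ i, red M (μ i) = 1 := fun i => by
      refine sub_eq_zero.1 (eq_zero_of_pow_eq_zero (n := p ^ k) ?_)
      rw [sub_pow_char_pow, ← red_pow (hmr i), hμ, red_one, one_pow, sub_self]
    rw [red_sum _ fun i _ => MemLocalRing.mul (memLocalRing_intCast _) (hmr i), Int.cast_sum]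
    refine Finset.sum_congr rfl fun i _ => ?_
    rw [red_mul (memLocalRing_intCast _) (hmr i), red_intCast, hμ1, mul_one]
  rw [hz, red_eq_zero_of_mem hzero] at hred
  have hdvd : (p : ℤ) ∣ ∑ i, Z (χ₁, χ₂) i :=
    (CharP.intCast_eq_zero_iff (AlgInt ⧸ M) p _).1 hred.symm
  have h3 : (p : ℤ) ∣ (∑ i, Z (χ₁, χ₂) i) * c η₀ η₀ - S χ₁ * S χ₂ := by
    rw [Fintype.sum_prod_type, Finset.sum_mul, Finset.sum_mul_sum, ← Finset.sum_coe_sort T,
      ← Finset.sum_sub_distrib]
    refine Finset.dvd_sum fun η _ => ?_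
    rw [Finset.sum_mul, ← Finset.sum_coe_sort T, ← Finset.sum_sub_distrib]
    refine Finset.dvd_sum fun η' _ => ?_
    have := intCoeff_rank_one hpM hb.1 (fun η hη => hc η hη) h₀ hh₀
      (Finset.mem_filter.1 η.2).2 (Finset.mem_filter.1 η'.2).2
    have e : Z (χ₁, χ₂) (η, η') * c η₀ η₀ -
        (mlt χ₁ η : ℤ) * c η η₀ * ((mlt χ₂ η' : ℤ) * c η' η₀) =
        (mlt χ₁ η : ℤ) * mlt χ₂ η' * (c η' η * c η₀ η₀ - c η' η₀ * c η η₀) := by
      simp only [Z]; ring
    rw [e]
    exact Dvd.dvd.mul_left this _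
  have h4 : (p : ℤ) ∣ S χ₁ * S χ₂ := by
    have := dvd_sub (Dvd.dvd.mul_right hdvd (c η₀ η₀)) h3
    rwa [sub_sub_cancel] at this
  rcases (Nat.prime_iff_prime_int.1 hp.out).dvd_mul.1 h4 with h | h
  exacts [hS _ hχ₁ hh₁ h, hS _ hχ₂ hh₂ h]

/-- `k₀(B)² ≤ p^(2d) l(b)` for a subsection `(x, b)` of `B`, `d` the defect of `b`. -/
theorem card_height_zero_sq_le (hpM : (p : AlgInt) ∈ M) {k : ℕ} (hx : orderOf x = p ^ k)
    (hb : IsInducedBlock M (Subgroup.centralizer ({x} : Set G)) b B) :
    Nat.card {χ : IrrCharacter G // χ ∈ B ∧ blockHeight p B χ.1 = 0} ^ 2 ≤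
      p ^ (2 * blockDefect p b) * blockRank p b := by
  obtain ⟨μ, Z, hμ, hz⟩ := exists_roots_combination hpM hx hb.1
  set d := blockDefect p b
  set K := {χ : IrrCharacter G // χ ∈ B ∧ blockHeight p B χ.1 = 0}
  let P := {q : IrrCharacter G × IrrCharacter G //
    q.1 ∈ B ∧ q.2 ∈ B ∧ contribution p b q.1.1 q.2.1 ≠ 0}
  haveI : NeZero (p ^ k) := ⟨pow_ne_zero _ hp.out.ne_zero⟩
  have hP : Fintype.card P ≤ p ^ (2 * d) * blockRank p b := by
    refine card_le_of_sum_norm_sq μ hμ (fun q : P => Z q.1) _ ?_ fun q => ?_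
    · simp only [hz, map_mul, map_natCast]
      rw [Finset.sum_congr rfl (g := fun q : P => ((p ^ (2 * d) : ℕ) : ℂ) *
        (contribution p b q.1.1.1 q.1.2.1 * conj (contribution p b q.1.1.1 q.1.2.1)))
        fun q _ => by push_cast; ring]
      rw [← Finset.mul_sum, Nat.cast_mul]
      congr 1
      rw [← sum_contribution_self hpM hx hb,
        Finset.sum_congr rfl fun χ _ => (sum_contribution_mul_conj hpM hx hb χ).symm,
        ← Finset.sum_product']
      refine (Finset.sum_subtype (Finset.univ.filter fun q : IrrCharacter G × IrrCharacter G =>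
        q.1 ∈ B ∧ q.2 ∈ B ∧ contribution p b q.1.1 q.2.1 ≠ 0) (by simp)
        (fun q : IrrCharacter G × IrrCharacter G =>
          contribution p b q.1.1 q.2.1 * conj (contribution p b q.1.1 q.2.1))).symm.trans ?_
      refine Finset.sum_subset (fun q hq => ?_) fun q hq hq' => ?_
      · simp only [Finset.mem_filter, Finset.mem_product, Finset.mem_univ, true_and] at hq ⊢
        exact ⟨hq.1, hq.2.1⟩
      · simp only [Finset.mem_filter, Finset.mem_product, Finset.mem_univ, true_and] at hq hq'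
        rw [not_and_not_right.1 (not_and.1 hq' hq.1) hq.2, zero_mul]
    · rw [hz]
      exact mul_ne_zero (Nat.cast_ne_zero.2 (pow_ne_zero _ hp.out.ne_zero)) q.2.2.2
  refine le_trans ?_ hP
  rw [pow_two, ← Nat.card_prod, Nat.card_eq_fintype_card]
  refine Fintype.card_le_of_injective (fun q => ⟨(q.1.1, q.2.1), q.1.2.1, q.2.2.1, fun h0 =>
    not_memLocalIdeal_contribution hpM hx hb q.1.2.1 q.1.2.2 q.2.2.1 q.2.2.2
      (by rw [h0, mul_zero]; exact memLocalIdeal_zero)⟩) fun q q' h => ?_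
  have h' := congrArg Subtype.val h
  exact Prod.ext (Subtype.ext (congrArg Prod.fst h')) (Subtype.ext (congrArg Prod.snd h'))

end Subsection

end Cfsg.Agent.Blocks
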