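import Cfsg.Agent.Lib.Blocks.Contribution

/-!
# Contributions of a major subsection and heights

`|G| m(χ, ψ) / χ(1)` is the value at `χ` of an integral central element supported on the section of
`x`, so it is constant modulo `M` on the block.  For a major subsection this gives
`v(p^d m(χ, ψ)) = h(χ)` for `ψ` of height zero, and more for `χ = ψ` of positive height.
-/

namespace Cfsg.Agent.Blocks

open scoped ComplexConjugate Classical
open BrauerPairs (regDot regDot_comm)

set_option linter.style.haveILetI false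
set_option linter.unusedSectionVars false

universe u

variable {G : Type u} [Group G] [Fintype G] {M : Ideal AlgInt} [M.IsMaximal] {p : ℕ}
  [hp : Fact p.Prime] {x : G} [Fintype (Subgroup.centralizer ({x} : Set G))]
  {B : Set (IrrCharacter G)} {b : Set (IrrCharacter (Subgroup.centralizer ({x} : Set G)))}

omit hp [Fintype (Subgroup.centralizer ({x} : Set G))] in
/-- Central characters of an integral central element agree modulo `M` on a block. -/
theorem memLocalIdeal_omega_sub_of_mem (hB : IsPBlock M B) {χ χ' : IrrCharacter G} (hχ : χ ∈ B)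
    (hχ' : χ' ∈ B) {z : MonoidAlgebra ℂ G} (hz : IsCentralElt z) (hS : SCoeff M z) :
    MemLocalIdeal M (omega χ.1 z - omega χ'.1 z) := by
  haveI := Fintype.ofFinite (ConjClasses G)
  rw [omega_eq_sum_classes χ hz, omega_eq_sum_classes χ' hz, ← Finset.sum_sub_distrib]
  refine MemLocalIdeal.sum _ fun C _ => ?_
  rw [← mul_sub]
  exact MemLocalIdeal.mul_left (hS _) (sameBlock_of_mem hB hχ hχ' _)

/-- The contribution as a sum over the regular elements of `C(x)`. -/
theorem contribution_eq_sum (hpM : (p : AlgInt) ∈ M) (hb : IsPBlock M b) (χ ψ : IrrCharacter G) :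
    contribution p b χ.1 ψ.1 = (Nat.card (Subgroup.centralizer ({x} : Set G)) : ℂ)⁻¹ *
      ∑ s : Subgroup.centralizer ({x} : Set G),
        Char.regFun p (secFun x χ.1) s * conj (blockPart b (secFun x ψ.1) s) := by
  rw [← conj_contribution hpM hb ψ χ, contribution, map_sum]
  simp only [Char.blockPart_apply, map_sum, map_mul, Complex.conj_conj, regDot, classInner,
    Finset.mul_sum]
  rw [Finset.sum_comm]
  exact Finset.sum_congr rfl fun s _ => Finset.sum_congr rfl fun η _ => by ring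

/-- `|G| m(χ, ψ) / χ(1)` is given by an integral central element. -/
theorem exists_contribution_elt (hpM : (p : AlgInt) ∈ M) {k : ℕ} (hx : orderOf x = p ^ k)
    (hb : IsPBlock M b) (ψ : IrrCharacter G) :
    ∃ Z : MonoidAlgebra ℂ G, IsCentralElt Z ∧ SCoeff M Z ∧ ∀ χ : IrrCharacter G,
      omega χ.1 Z = (Nat.card G : ℂ) * contribution p b χ.1 ψ.1 / χ.1 1 := by
  set v := blockPart b (secFun x ψ.1) with hv
  have hvc : ∀ s c, v (c * s * c⁻¹) = v s := fun s c => by
    simp only [hv, Char.blockPart_apply]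
    exact Finset.sum_congr rfl fun η _ => by rw [irr_classFun η]
  have hvS : ∀ s, MemLocalRing M (v s) := fun s => by
    obtain ⟨m, -, hm⟩ := Char.IsCharacter.exists_decomp
      (Char.IsCharacter.restrict (Char.irr_isCharacter ψ) (Subgroup.centralizer ({x} : Set G)))
    simp only [hv, Char.blockPart_apply, classInner_secFun, hm]
    exact MemLocalRing.sum _ fun η _ => MemLocalRing.mul
      (MemLocalRing.mul (red_secScalar hpM hx η).1 (memLocalRing_natCast _))
      (memLocalRing_of_isIntegral (CharInt.isIntegral_char (Char.irr_isCharacter η) _))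
  let F : G → ℂ := fun g => if h : ∃ a, IsPPart p (a⁻¹ * g * a) x then
    conj (v (exists_regular_factor h.choose_spec).choose) else 0
  have hF : ∀ g a, ∀ s : Subgroup.centralizer ({x} : Set G), IsPPart p (a⁻¹ * g * a) x →
      x * (s : G) = a⁻¹ * g * a → F g = conj (v s) := by
    intro g a s hg hs
    have h : ∃ a, IsPPart p (a⁻¹ * g * a) x := ⟨a, hg⟩
    simp only [F, dif_pos h]
    obtain ⟨a', ha'⟩ : ∃ a', a' = h.choose := ⟨_, rfl⟩
    obtain ⟨hs', -⟩ := (exists_regular_factor h.choose_spec).choose_spec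
    set s' := (exists_regular_factor h.choose_spec).choose
    set c := a⁻¹ * h.choose with hc
    have hcx : c * x * c⁻¹ = x := by
      have h1 := IsPPart.conj h.choose_spec c
      rw [show c * (h.choose⁻¹ * g * h.choose) * c⁻¹ = a⁻¹ * g * a by rw [hc]; group] at h1
      exact IsPPart.unique h1 hg
    have hcC : c ∈ Subgroup.centralizer ({x} : Set G) :=
      Subgroup.mem_centralizer_singleton_iff.2 (mul_inv_eq_iff_eq_mul.1 hcx)
    congr 1
    rw [← hvc s' ⟨c, hcC⟩]
    congr 1
    refine Subtype.ext (mul_left_cancel (a := x) ?_)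
    calc x * (c * (s' : G) * c⁻¹) = c * x * c⁻¹ * (c * (s' : G) * c⁻¹) := by rw [hcx]
      _ = c * (x * (s' : G)) * c⁻¹ := by group
      _ = x * (s : G) := by rw [hs', hs, hc]; group
  have hFc : ∀ g h : G, F (h * g * h⁻¹) = F g := by
    intro g h
    by_cases hg : ∃ a, IsPPart p (a⁻¹ * g * a) x
    · obtain ⟨a, ha⟩ := hg
      obtain ⟨s, hs, -⟩ := exists_regular_factor ha
      have e : (h * a)⁻¹ * (h * g * h⁻¹) * (h * a) = a⁻¹ * g * a := by group
      rw [hF g a s ha hs, hF _ (h * a) s (e ▸ ha) (by rw [e, hs])]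
    · have hg' : ¬ ∃ a, IsPPart p (a⁻¹ * (h * g * h⁻¹) * a) x := fun ⟨a, ha⟩ => hg ⟨h⁻¹ * a, by
        rwa [show (h⁻¹ * a)⁻¹ * g * (h⁻¹ * a) = a⁻¹ * (h * g * h⁻¹) * a by group]⟩
      simp only [F, dif_neg hg, dif_neg hg']
  refine ⟨ofFun F, isCentralElt_ofFun hFc, scoeff_ofFun fun g => ?_, fun χ => ?_⟩
  · by_cases hg : ∃ a, IsPPart p (a⁻¹ * g * a) x
    · obtain ⟨a, ha⟩ := hg
      obtain ⟨s, hs, -⟩ := exists_regular_factor ha
      rw [hF g a s ha hs]
      obtain ⟨m, -, hm⟩ := Char.IsCharacter.exists_decomp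
        (Char.IsCharacter.restrict (Char.irr_isCharacter ψ) (Subgroup.centralizer ({x} : Set G)))
      simp only [hv, Char.blockPart_apply, classInner_secFun, hm, map_sum, map_mul, map_natCast,
        Char.IsCharacter.conj_apply (Char.irr_isCharacter _)]
      refine MemLocalRing.sum _ fun η _ => MemLocalRing.mul
        (MemLocalRing.mul (memLocalRing_of_isIntegral (IsIntegral.of_pow (pow_pos hp.out.pos k)
          (by rw [← map_pow, secScalar_pow hx, map_one]; exact isIntegral_one)))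
          (memLocalRing_natCast _))
        (memLocalRing_of_isIntegral (CharInt.isIntegral_char (Char.irr_isCharacter η) _))
    · simp only [F, dif_neg hg]
      exact memLocalRing_zero
  set C := Nat.card (Subgroup.centralizer ({x} : Set G)) with hC
  have hC0 : (C : ℂ) ≠ 0 := Nat.cast_ne_zero.2 Nat.card_pos.ne'
  set f : G → ℂ := fun g => F g * χ.1 g with hf
  have hfc : ∀ g a : G, f (a * g * a⁻¹) = f g := fun g a => by
    simp only [hf, hFc, irr_classFun χ g a]
  -- count the conjugating elements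
  have h1 : ∑ a : G, ∑ g : G, (if IsPPart p (a⁻¹ * g * a) x then f g else 0) =
      (C : ℂ) * ∑ g : G, f g := by
    rw [Finset.sum_comm, Finset.mul_sum]
    refine Finset.sum_congr rfl fun g _ => ?_
    rw [← Finset.sum_filter, Finset.sum_const, nsmul_eq_mul]
    by_cases hg : ∃ a, IsPPart p (a⁻¹ * g * a) x
    · obtain ⟨a₀, ha₀⟩ := hg
      congr 2
      rw [hC, Nat.card_eq_fintype_card]
      rw [← Finset.card_univ]
      symm
      refine Finset.card_bij (fun c _ => a₀ * (c : G)) (fun c _ => ?_) (fun c _ c' _ e => ?_)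
        fun a ha => ?_
      · refine Finset.mem_filter.2 ⟨Finset.mem_univ _, ?_⟩
        have hcx : (c : G)⁻¹ * x * (c : G) = x := by
          rw [mul_assoc, ← Subgroup.mem_centralizer_singleton_iff.1 c.2, inv_mul_cancel_left]
        have h2 := IsPPart.conj ha₀ (c : G)⁻¹
        rw [inv_inv, hcx] at h2
        rwa [show (a₀ * (c : G))⁻¹ * g * (a₀ * c) = (c : G)⁻¹ * (a₀⁻¹ * g * a₀) * c by group]
      · exact Subtype.ext (mul_left_cancel e)
      · have ha' := (Finset.mem_filter.1 ha).2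
        have h2 := IsPPart.conj ha₀ (a⁻¹ * a₀)
        rw [show a⁻¹ * a₀ * (a₀⁻¹ * g * a₀) * (a⁻¹ * a₀)⁻¹ = a⁻¹ * g * a by group] at h2
        have hmem : a⁻¹ * a₀ ∈ Subgroup.centralizer ({x} : Set G) :=
          Subgroup.mem_centralizer_singleton_iff.2
            (mul_inv_eq_iff_eq_mul.1 (IsPPart.unique h2 ha'))
        refine ⟨⟨_, inv_mem hmem⟩, Finset.mem_univ _, ?_⟩
        simp only [mul_inv_rev, inv_inv, mul_inv_cancel_left]
    · simp [hf, F, dif_neg hg]
  have h2 : ∀ a : G, ∑ g : G, (if IsPPart p (a⁻¹ * g * a) x then f g else 0) =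
      ∑ g : G, (if IsPPart p g x then f g else 0) := by
    intro a
    refine Fintype.sum_equiv (MulAut.conj a⁻¹).toEquiv _ _ fun g => ?_
    simp only [MulEquiv.toEquiv_eq_coe, MulEquiv.coe_toEquiv, MulAut.conj_apply, inv_inv]
    rw [show f (a⁻¹ * g * a) = f g from by simpa using hfc g a⁻¹]
  have h3 : ∑ g : G, (if IsPPart p g x then f g else 0) =
      ∑ s : Subgroup.centralizer ({x} : Set G), Char.regFun p (secFun x χ.1) s * conj (v s) := by
    rw [← Finset.sum_filter, ← Finset.sum_filter_of_ne (s := (Finset.univ :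
      Finset (Subgroup.centralizer ({x} : Set G)))) (p := fun s => ¬ p ∣ orderOf s)]
    · symm
      refine Finset.sum_bij (fun s _ => x * (s : G)) (fun s hs => ?_) (fun s _ s' _ e => ?_)
        (fun g hg => ?_) fun s hs => ?_
      · exact Finset.mem_filter.2 ⟨Finset.mem_univ _, isPPart_mul
          (Subgroup.mem_centralizer_singleton_iff.1 s.2).symm ⟨k, hx⟩
          (by rw [IsPRegular, Subgroup.orderOf_coe]; exact (Finset.mem_filter.1 hs).2)⟩
      · exact Subtype.ext (mul_left_cancel e)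
      · obtain ⟨s, hs, hr⟩ := exists_regular_factor (Finset.mem_filter.1 hg).2
        exact ⟨s, Finset.mem_filter.2 ⟨Finset.mem_univ _, hr⟩, hs⟩
      · have hr := (Finset.mem_filter.1 hs).2
        have hpp : IsPPart p (x * (s : G)) x := isPPart_mul
          (Subgroup.mem_centralizer_singleton_iff.1 s.2).symm ⟨k, hx⟩
          (by rw [IsPRegular, Subgroup.orderOf_coe]; exact hr)
        simp only [hf]
        rw [hF (x * (s : G)) 1 s (by simpa using hpp) (by simp), Char.regFun, if_neg hr]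
        simp [secFun, mul_comm]
    · intro s _ hs hd
      exact hs (by simp [Char.regFun, hd])
  have hG : (Nat.card G : ℂ) * ∑ g : G, (if IsPPart p g x then f g else 0) =
      (C : ℂ) * ∑ g : G, f g := by
    rw [← h1, Finset.sum_congr rfl fun a _ => h2 a, Finset.sum_const, nsmul_eq_mul,
      Finset.card_univ, ← Nat.card_eq_fintype_card]
  rw [omega, chiL_eq_sum, contribution_eq_sum hpM hb, ← hC, ← h3, ← mul_assoc,
    mul_comm (Nat.card G : ℂ), mul_assoc, hG, ← mul_assoc, inv_mul_cancel₀ hC0, one_mul]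
  simp [hf]

theorem conj_contribution_red (hpM : (p : AlgInt) ∈ M) {k : ℕ} (hx : orderOf x = p ^ k)
    (hb : IsPBlock M b) (χ ψ : IrrCharacter G) :
    MemLocalIdeal M (((p ^ blockDefect p b : ℕ) : ℂ) * contribution p b χ.1 ψ.1 -
      ((p ^ blockDefect p b : ℕ) : ℂ) * contribution p b ψ.1 χ.1) := by
  haveI := charP_residue hpM
  obtain ⟨μ, Z, hμ, hz⟩ := exists_roots_combination hpM hx hb
  rw [← conj_contribution hpM hb χ ψ, ← map_natCast (starRingEnd ℂ), ← map_mul, map_natCast,
    ← hz (χ, ψ), map_sum, ← Finset.sum_sub_distrib]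
  refine MemLocalIdeal.sum _ fun i _ => ?_
  rw [map_mul, map_intCast, ← mul_sub]
  refine MemLocalIdeal.mul_left (memLocalRing_intCast _) ?_
  have h : ∀ z : ℂ, z ^ (p ^ k) = 1 → MemLocalRing M z ∧ red M z = 1 := fun z hz => by
    have hr : MemLocalRing M z := memLocalRing_of_isIntegral
      (IsIntegral.of_pow (pow_pos hp.out.pos k) (by rw [hz]; exact isIntegral_one))
    refine ⟨hr, sub_eq_zero.1 (eq_zero_of_pow_eq_zero (n := p ^ k) ?_)⟩
    rw [sub_pow_char_pow, ← red_pow hr, hz, red_one, one_pow, sub_self]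
  have h1 := h (μ i) (hμ i)
  have h2 := h (conj (μ i)) (by rw [← map_pow, hμ, map_one])
  exact (red_eq_iff h1.1 h2.1).1 (h1.2.trans h2.2.symm)

/-- For a major subsection and `ψ` of height zero, `p^d m(χ, ψ)` has exact valuation `h(χ)` at
`M`; for positive height, `p^d m(χ, χ)` has larger valuation. -/
theorem contribution_height (hpM : (p : AlgInt) ∈ M) {k : ℕ} (hx : orderOf x = p ^ k)
    (hb : IsInducedBlock M (Subgroup.centralizer ({x} : Set G)) b B)
    (hd : blockDefect p b = blockDefect p B) {χ ψ : IrrCharacter G} (hχ : χ ∈ B) (hψ : ψ ∈ B)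
    (hψ0 : blockHeight p B ψ.1 = 0) :
    MemLocalRing M (((p ^ blockDefect p b : ℕ) : ℂ) * contribution p b χ.1 ψ.1 /
        ((p ^ blockHeight p B χ.1 : ℕ) : ℂ)) ∧
      ¬ MemLocalIdeal M (((p ^ blockDefect p b : ℕ) : ℂ) * contribution p b χ.1 ψ.1 /
        ((p ^ blockHeight p B χ.1 : ℕ) : ℂ)) ∧
      (blockHeight p B χ.1 ≠ 0 →
        MemLocalIdeal M (((p ^ blockDefect p b : ℕ) : ℂ) * contribution p b χ.1 χ.1 /
          ((p ^ blockHeight p B χ.1 : ℕ) : ℂ))) := by
  set d := blockDefect p b with hddef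
  set a := (Nat.card G).factorization p with ha
  set m := Nat.card G / p ^ a
  have hp0 : (p : ℂ) ≠ 0 := Nat.cast_ne_zero.2 hp.out.ne_zero
  have hm : ¬ p ∣ m := Nat.not_dvd_ordCompl hp.out Nat.card_pos.ne'
  have hmu := not_memLocalIdeal_ordCompl (p := p) hpM (n := Nat.card G) Nat.card_pos.ne'
  have hm0 : (m : ℂ) ≠ 0 := ne_zero_of_not_memLocalIdeal hmu
  set u : IrrCharacter G → ℕ := fun φ => Char.degree φ / p ^ (Char.degree φ).factorization p
  have hu : ∀ φ : IrrCharacter G, ¬ p ∣ u φ := fun φ =>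
    Nat.not_dvd_ordCompl hp.out (Char.degree_pos φ).ne'
  have hu0 : ∀ φ : IrrCharacter G, (u φ : ℂ) ≠ 0 := fun φ =>
    Nat.cast_ne_zero.2 fun h => hu φ (h ▸ dvd_zero p)
  -- relation between `W` and `p^d m`
  have hW : ∀ φ ∈ B, ∀ φ' : IrrCharacter G,
      (Nat.card G : ℂ) * contribution p b φ.1 φ'.1 / φ.1 1 * ((u φ : ℂ) * (m : ℂ)⁻¹) =
        ((p ^ d : ℕ) : ℂ) * contribution p b φ.1 φ'.1 / ((p ^ blockHeight p B φ.1 : ℕ) : ℂ) := by
    intro φ hφ φ'
    have he : (Char.degree φ).factorization p + d = a + blockHeight p B φ.1 := by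
      have h1 := Char.sInf_le_factorization_degree (p := p) hφ
      have h2 : (Char.degree φ).factorization p ≤ a :=
        (Nat.factorization_le_iff_dvd (Char.degree_pos φ).ne' Nat.card_pos.ne').2
          (Char.degree_dvd_natCard φ) p
      rw [hd, blockDefect, blockHeight, charDegree_eq]
      omega
    have hdeg : (Char.degree φ : ℂ) = (p : ℂ) ^ (Char.degree φ).factorization p * u φ := by
      exact_mod_cast (Nat.ordProj_mul_ordCompl_eq_self _ _).symm
    have hG : (Nat.card G : ℂ) = (p : ℂ) ^ a * m := by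
      exact_mod_cast (Nat.ordProj_mul_ordCompl_eq_self _ _).symm
    have hpe : (p : ℂ) ^ (Char.degree φ).factorization p * (p : ℂ) ^ d =
        (p : ℂ) ^ a * (p : ℂ) ^ blockHeight p B φ.1 := by rw [← pow_add, ← pow_add, he]
    have := hu0 φ
    rw [Char.apply_one_eq_degree, hdeg, hG, Nat.cast_pow, Nat.cast_pow]
    field_simp
    linear_combination -(contribution p b φ.1 φ'.1) * hpe
  have hWR : ∀ φ : IrrCharacter G, MemLocalRing M ((u φ : ℂ) * (m : ℂ)⁻¹) ∧
      ¬ MemLocalIdeal M ((u φ : ℂ) * (m : ℂ)⁻¹) := fun φ =>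
    ⟨MemLocalRing.mul (memLocalRing_natCast _) (memLocalRing_inv_natCast hpM hm),
      not_memLocalIdeal_mul (memLocalRing_natCast _) (memLocalRing_inv_natCast hpM hm)
        (mt (memLocalIdeal_natCast_iff hpM _).1 (hu φ)) (Char.not_memLocalIdeal_inv_natCast hpM hm)⟩
  have key : ∀ φ' φ₁ φ₂ : IrrCharacter G, φ₁ ∈ B → φ₂ ∈ B →
      MemLocalRing M (((p ^ d : ℕ) : ℂ) * contribution p b φ₁.1 φ'.1 /
        ((p ^ blockHeight p B φ₁.1 : ℕ) : ℂ)) ∧
      (MemLocalIdeal M (((p ^ d : ℕ) : ℂ) * contribution p b φ₁.1 φ'.1 /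
          ((p ^ blockHeight p B φ₁.1 : ℕ) : ℂ)) ↔
        MemLocalIdeal M (((p ^ d : ℕ) : ℂ) * contribution p b φ₂.1 φ'.1 /
          ((p ^ blockHeight p B φ₂.1 : ℕ) : ℂ))) := by
    intro φ' φ₁ φ₂ h₁ h₂
    obtain ⟨Z, hZ, hZS, hZv⟩ := exists_contribution_elt hpM hx hb.1 φ'
    have hr : ∀ φ : IrrCharacter G,
        MemLocalRing M ((Nat.card G : ℂ) * contribution p b φ.1 φ'.1 / φ.1 1) := fun φ =>
      hZv φ ▸ memLocalRing_omega φ hZ hZS
    have hcon := memLocalIdeal_omega_sub_of_mem hb.2.1 h₁ h₂ hZ hZS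
    rw [hZv, hZv] at hcon
    rw [← hW φ₁ h₁, ← hW φ₂ h₂]
    refine ⟨MemLocalRing.mul (hr _) (hWR _).1, ?_⟩
    rw [mul_comm, Char.memLocalIdeal_mul_iff (hWR φ₁).1 (hWR φ₁).2 (hr _),
      mul_comm ((Nat.card G : ℂ) * contribution p b φ₂.1 φ'.1 / φ₂.1 1),
      Char.memLocalIdeal_mul_iff (hWR φ₂).1 (hWR φ₂).2 (hr _)]
    exact memLocalIdeal_iff_of_sub hcon
  have hbase : ¬ MemLocalIdeal M (((p ^ d : ℕ) : ℂ) * contribution p b ψ.1 ψ.1 /
      ((p ^ blockHeight p B ψ.1 : ℕ) : ℂ)) := by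
    rw [hψ0, pow_zero, Nat.cast_one, div_one]
    exact not_memLocalIdeal_contribution hpM hx hb hψ hψ0 hψ hψ0
  have h1 := key ψ χ ψ hχ hψ
  refine ⟨h1.1, fun h => hbase (h1.2.1 h), fun hh => ?_⟩
  rw [(key χ χ ψ hχ hψ).2, hψ0, pow_zero, Nat.cast_one, div_one]
  refine memLocalIdeal_of_sub (conj_contribution_red hpM hx hb.1 ψ χ) ?_
  have := MemLocalIdeal.mul_right ((memLocalIdeal_natCast_iff hpM (p ^ blockHeight p B χ.1)).2
    (dvd_pow_self p hh)) h1.1
  rwa [mul_div_cancel₀ _ (Nat.cast_ne_zero.2 (pow_ne_zero _ hp.out.ne_zero))] at this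

end Cfsg.Agent.Blocks
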