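import Cfsg.Agent.Lib.Blocks.Contribution

/-!
# Integral coordinates of contributions, and their Galois average

`p^d m(χ, ψ) = Σ_i Z(χ, ψ, i) μ_i` with `p^k`-th roots of unity `μ_i`, the coefficient sum being
prime to `p` for characters of height zero.
-/

namespace Cfsg.Agent.Blocks

open scoped ComplexConjugate Classical
open BrauerPairs (regDot regDot_comm regDot_eq_zero sum_regDot_mul)

set_option linter.style.haveILetI false
set_option linter.unusedSectionVars false

universe u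

variable {G : Type u} [Group G] [Fintype G] {M : Ideal AlgInt} [M.IsMaximal] {p : ℕ}
  [hp : Fact p.Prime] {x : G} [Fintype (Subgroup.centralizer ({x} : Set G))]
  {B : Set (IrrCharacter G)} {b : Set (IrrCharacter (Subgroup.centralizer ({x} : Set G)))}

/-- Integral coordinates of the contributions of a subsection. -/
theorem exists_contribution_coords (hpM : (p : AlgInt) ∈ M) {k : ℕ} (hx : orderOf x = p ^ k)
    (hb : IsInducedBlock M (Subgroup.centralizer ({x} : Set G)) b B) {χ₁ : IrrCharacter G}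
    (hχ₁ : χ₁ ∈ B) (hh₁ : blockHeight p B χ₁.1 = 0) :
    ∃ (I : Type u) (_ : Fintype I) (μ : I × I → ℂ)
      (Z : IrrCharacter G → IrrCharacter G → I × I → ℤ),
      (∀ i, μ i ^ (p ^ k) = 1) ∧ (∀ i, μ i.swap = conj (μ i)) ∧ (∀ i, μ (i, i) = 1) ∧
      (∀ χ i, Z χ χ i.swap = Z χ χ i) ∧
      (∀ χ ψ, ∑ i, (Z χ ψ i : ℂ) * μ i =
        ((p ^ blockDefect p b : ℕ) : ℂ) * contribution p b χ.1 ψ.1) ∧
      ∀ χ ∈ B, ∀ ψ ∈ B, blockHeight p B χ.1 = 0 → blockHeight p B ψ.1 = 0 →
        ¬ (p : ℤ) ∣ ∑ i, Z χ ψ i := by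
  obtain ⟨η₀, h₀, hh₀, -⟩ := blau hpM hb hχ₁ hh₁
  set d := blockDefect p b
  set T := Finset.univ.filter (· ∈ b)
  choose mlt _ hmlt using fun χ : IrrCharacter G =>
    Char.IsCharacter.exists_decomp (Char.IsCharacter.restrict (Char.irr_isCharacter χ) (Subgroup.centralizer ({x} : Set G)))
  have hcoef : ∀ (χ : IrrCharacter G) η,
      classInner (secFun x χ.1) η.1 = secScalar η * (mlt χ η : ℂ) := fun χ η => by
    rw [classInner_secFun, ← hmlt χ η]
  have hex : ∀ η : IrrCharacter (Subgroup.centralizer ({x} : Set G)), ∃ c : IrrCharacter (Subgroup.centralizer ({x} : Set G)) → ℤ, η ∈ b →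
      ∀ ν, ((p ^ d : ℕ) : ℂ) * regDot p η.1 ν.1 = c ν := fun η => by
    by_cases hη : η ∈ b
    · obtain ⟨c, hc⟩ := BrauerPairs.exists_int_regDot hpM hp.out hb.1 hη
      exact ⟨c, fun _ => hc⟩
    · exact ⟨0, fun h => absurd h hη⟩
  choose c hc using hex
  let μ : {η // η ∈ T} × {η // η ∈ T} → ℂ := fun i => secScalar i.1.1 * conj (secScalar i.2.1)
  let Z : IrrCharacter G × IrrCharacter G → {η // η ∈ T} × {η // η ∈ T} → ℤ := fun q i =>
    (mlt q.1 i.1.1 : ℤ) * mlt q.2 i.2.1 * c i.2.1 i.1.1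
  have hμ : ∀ i, μ i ^ (p ^ k) = 1 := fun i => by
    simp only [μ, mul_pow, ← map_pow, secScalar_pow hx, map_one, mul_one]
  have hz : ∀ q : IrrCharacter G × IrrCharacter G, ∑ i, (Z q i : ℂ) * μ i =
      ((p ^ d : ℕ) : ℂ) * contribution p b q.1.1 q.2.1 := by
    intro q
    rw [Fintype.sum_prod_type, contribution, Finset.mul_sum, ← Finset.sum_coe_sort T]
    refine Finset.sum_congr rfl fun η _ => ?_
    rw [regDot_secFun hpM hb.1 q.2 (Finset.mem_filter.1 η.2).2, map_sum, Finset.mul_sum,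
      Finset.mul_sum, ← Finset.sum_coe_sort T]
    refine Finset.sum_congr rfl fun η' _ => ?_
    rw [hcoef, hcoef, map_mul, map_mul, map_natCast, conj_regDot_irr]
    simp only [Z, μ, Int.cast_mul, Int.cast_natCast, ← hc η'.1 (Finset.mem_filter.1 η'.2).2 η.1]
    ring
  refine ⟨{η // η ∈ T}, inferInstance, μ, fun χ ψ => Z (χ, ψ), hμ, fun i => ?_, fun i => ?_,
    fun χ i => ?_, fun χ ψ => hz (χ, ψ), ?_⟩
  · simp only [μ, Prod.fst_swap, Prod.snd_swap, map_mul, Complex.conj_conj]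
    ring
  · show secScalar i.1 * conj (secScalar i.1) = 1
    rw [Complex.mul_conj', Complex.norm_eq_one_of_pow_eq_one (secScalar_pow hx i.1)
      (pow_ne_zero _ hp.out.ne_zero)]
    norm_num
  · have h1 := hc i.2.1 (Finset.mem_filter.1 i.2.2).2 i.1.1
    rw [regDot_comm hp.out, hc i.1.1 (Finset.mem_filter.1 i.1.2).2 i.2.1, Int.cast_inj] at h1
    simp only [Z, Prod.fst_swap, Prod.snd_swap]
    rw [h1]
    ring
  let S : IrrCharacter G → ℤ := fun χ => ∑ η ∈ T, (mlt χ η : ℤ) * c η η₀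
  have hS : ∀ χ ∈ B, blockHeight p B χ.1 = 0 → ¬ (p : ℤ) ∣ S χ := by
    intro χ hχ hh hdvd
    refine (Char.memLocalIdeal_regInner_restrict hpM hp.out hb h₀).2 hχ hh ?_
    have hsum : regDot p (fun h : (Subgroup.centralizer ({x} : Set G)) => χ.1 h) η₀.1 =
        ∑ η ∈ T, (mlt χ η : ℂ) * regDot p η.1 η₀.1 := by
      rw [regDot, Char.eq_sum_classInner_smul (Char.IsCharacter.isClassFunction
        (Char.IsCharacter.restrict (Char.irr_isCharacter χ) (Subgroup.centralizer ({x} : Set G)))), BrauerPairs.regFun_sum,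
        Char.classInner_sum_left]
      simp only [Char.classInner_smul_left, hmlt]
      refine (Finset.sum_filter_of_ne fun η _ hne => ?_).symm
      by_contra hη
      refine hne ?_
      show _ * regDot p η.1 η₀.1 = 0
      rw [regDot_comm hp.out, regDot_eq_zero hpM hp.out hb.1 h₀ hη, mul_zero]
    have hreg : Char.regInner p (fun h : (Subgroup.centralizer ({x} : Set G)) => χ.1 h) η₀.1 =
        (((p : ℤ) ^ ((Nat.card (Subgroup.centralizer ({x} : Set G))).factorization p - d) * S χ : ℤ) : ℂ) := by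
      rw [Char.regInner, Char.classInner_smul_left, ← regDot, hsum, Int.cast_mul, Int.cast_pow,
        Int.cast_natCast, Int.cast_sum, Finset.mul_sum, Finset.mul_sum]
      refine Finset.sum_congr rfl fun η hη => ?_
      rw [Int.cast_mul, Int.cast_natCast, ← hc η (Finset.mem_filter.1 hη).2 η₀]
      push_cast
      conv_lhs => rw [← Nat.sub_add_cancel (show d ≤
        (Nat.card (Subgroup.centralizer ({x} : Set G))).factorization p from Nat.sub_le _ _),
        pow_add]
      ring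
    rw [hreg, Char.apply_one_eq_degree,
      Char.memLocalIdeal_intCast_div_iff hpM _ (Char.degree_pos η₀).ne', pow_succ]
    refine mul_dvd_mul (pow_dvd_pow _ ?_) hdvd
    have h1 := Char.factorization_degree_of_height_zero h₀ hh₀
    have h2 : (Char.degree η₀).factorization p ≤ (Nat.card (Subgroup.centralizer ({x} : Set G))).factorization p :=
      (Nat.factorization_le_iff_dvd (Char.degree_pos η₀).ne' Nat.card_pos.ne').2
        (Char.degree_dvd_natCard η₀) p
    show _ ≤ _ - ((Nat.card (Subgroup.centralizer ({x} : Set G))).factorization p - _)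
    rw [← h1]
    omega
  intro χ hχ ψ hψ hhχ hhψ hdvd
  have h3 : (p : ℤ) ∣ (∑ i, Z (χ, ψ) i) * c η₀ η₀ - S χ * S ψ := by
    rw [Fintype.sum_prod_type, Finset.sum_mul, Finset.sum_mul_sum, ← Finset.sum_coe_sort T,
      ← Finset.sum_sub_distrib]
    refine Finset.dvd_sum fun η _ => ?_
    rw [Finset.sum_mul, ← Finset.sum_coe_sort T, ← Finset.sum_sub_distrib]
    refine Finset.dvd_sum fun η' _ => ?_
    have := intCoeff_rank_one hpM hb.1 (fun η hη => hc η hη) h₀ hh₀
      (Finset.mem_filter.1 η.2).2 (Finset.mem_filter.1 η'.2).2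
    have e : Z (χ, ψ) (η, η') * c η₀ η₀ -
        (mlt χ η : ℤ) * c η η₀ * ((mlt ψ η' : ℤ) * c η' η₀) =
        (mlt χ η : ℤ) * mlt ψ η' * (c η' η * c η₀ η₀ - c η' η₀ * c η η₀) := by
      simp only [Z]; ring
    rw [e]
    exact Dvd.dvd.mul_left this _
  have h4 : (p : ℤ) ∣ S χ * S ψ := by
    have := dvd_sub (Dvd.dvd.mul_right hdvd (c η₀ η₀)) h3
    rwa [sub_sub_cancel] at this
  rcases (Nat.prime_iff_prime_int.1 hp.out).dvd_mul.1 h4 with h | h
  exacts [hS χ hχ hhχ h, hS ψ hψ hhψ h]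

/-- The average of the Galois conjugates of a `2`-power root of unity. -/
noncomputable def rootEps (z : ℂ) : ℤ := if z = 1 then 1 else if z = -1 then -1 else 0

theorem rootEps_conj (z : ℂ) : rootEps (conj z) = rootEps z := by
  unfold rootEps
  simp only [show (conj z = 1 ↔ z = 1) from ⟨fun h => by
      rw [← Complex.conj_conj z, h, map_one], fun h => by rw [h, map_one]⟩,
    show (conj z = -1 ↔ z = -1) from ⟨fun h => by
      rw [← Complex.conj_conj z, h, map_neg, map_one], fun h => by rw [h, map_neg, map_one]⟩]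

/-- The sum over the units of `ZMod (2 ^ k)` of the twists of a root of unity. -/
theorem sum_units_pow {k : ℕ} [NeZero (2 ^ k)] {z : ℂ} (hz : z ^ (2 ^ k) = 1) :
    ∑ u : (ZMod (2 ^ k))ˣ, z ^ (u : ZMod (2 ^ k)).val =
      (Fintype.card (ZMod (2 ^ k))ˣ : ℂ) * rootEps z := by
  rcases eq_or_ne z 1 with rfl | h1
  · simp [rootEps, Finset.card_univ]
  have hk : k ≠ 0 := fun h => h1 (by simpa [h] using hz)
  have hodd : ∀ u : (ZMod (2 ^ k))ˣ, Odd (u : ZMod (2 ^ k)).val := fun u => by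
    have := ZMod.val_coe_unit_coprime u
    rw [Nat.coprime_pow_right_iff (Nat.pos_of_ne_zero hk), Nat.coprime_comm,
      Nat.prime_two.coprime_iff_not_dvd] at this
    exact Nat.odd_iff.2 (Nat.two_dvd_ne_zero.1 this)
  rcases eq_or_ne z (-1) with rfl | h2
  · rw [Finset.sum_congr rfl fun u _ => (hodd u).neg_one_pow, Finset.sum_const, nsmul_eq_mul,
      Finset.card_univ, rootEps, if_neg h1, if_pos rfl]
    norm_num
  rw [rootEps, if_neg h1, if_neg h2, Int.cast_zero, mul_zero]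
  obtain ⟨i, hik, hi⟩ := (Nat.dvd_prime_pow Nat.prime_two).1 (orderOf_dvd_of_pow_eq_one hz)
  have hi2 : 2 ≤ i := by
    by_contra! hlt
    have h : z ^ 2 = 1 := orderOf_dvd_iff_pow_eq_one.1 (hi ▸ Nat.pow_dvd_pow 2 (by omega : i ≤ 1))
    rcases sq_eq_one_iff.1 h with h | h
    exacts [h1 h, h2 h]
  obtain ⟨j, rfl⟩ : ∃ j, i = j + 2 := ⟨i - 2, by omega⟩
  have hneg : z ^ 2 ^ (j + 1) = -1 := by
    have h : (z ^ 2 ^ (j + 1)) ^ 2 = 1 := by
      rw [← pow_mul, ← pow_succ, ← hi, pow_orderOf_eq_one]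
    rcases sq_eq_one_iff.1 h with h | h
    · have := Nat.le_of_dvd (pow_pos two_pos _) (hi ▸ orderOf_dvd_of_pow_eq_one h)
      have := (Nat.pow_le_pow_iff_right (le_refl 2)).1 this
      omega
    · exact h
  have hv : Nat.Coprime (1 + 2 ^ (j + 1)) (2 ^ k) := Nat.Coprime.pow_right _ (by
    rw [Nat.coprime_comm, Nat.prime_two.coprime_iff_not_dvd, pow_succ']
    omega)
  let v := ZMod.unitOfCoprime _ hv
  have key : ∀ u : (ZMod (2 ^ k))ˣ,
      z ^ ((u * v : (ZMod (2 ^ k))ˣ) : ZMod (2 ^ k)).val = - z ^ (u : ZMod (2 ^ k)).val := fun u => by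
    rw [Units.val_mul, ZMod.coe_unitOfCoprime, ZMod.val_mul, ← pow_eq_pow_mod _ hz,
      ZMod.val_natCast, pow_mul, ← pow_eq_pow_mod _ (by
        rw [← pow_mul, mul_comm, pow_mul, hz, one_pow]), pow_add, pow_one, ← pow_mul,
      mul_comm (u : ZMod (2 ^ k)).val, pow_mul, hneg, (hodd u).neg_one_pow, mul_neg, mul_one]
  have h := Equiv.sum_comp (Equiv.mulRight v) fun u : (ZMod (2 ^ k))ˣ => z ^ (u : ZMod (2 ^ k)).val
  simp only [Equiv.coe_mulRight, key, Finset.sum_neg_distrib] at h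
  linear_combination (-1 / 2 : ℂ) * h

/-- Over all units, the squared absolute values of the twists of a nonzero combination average to at
least one. -/
theorem card_units_le_sum {N : ℕ} [NeZero N] {ι : Type u} [Fintype ι] (c : ι → ℤ) (μ : ι → ℂ)
    (hμ : ∀ i, μ i ^ N = 1) (hne : ∑ i, (c i : ℂ) * μ i ≠ 0) :
    (Fintype.card (ZMod N)ˣ : ℝ) ≤
      ∑ u : (ZMod N)ˣ, ‖∑ i, (c i : ℂ) * μ i ^ (u : ZMod N).val‖ ^ 2 := by
  obtain ⟨m, e, hm, he, hmain⟩ := CharInt.exists_twists.{u} N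
  have h1 : ∀ u : (ZMod N)ˣ, (m : ℝ) ≤
      ∑ j, ‖∑ i, (c i : ℂ) * μ i ^ ((u : ZMod N).val * e j)‖ ^ 2 := fun u => by
    simp only [pow_mul]
    exact hmain ι c _ (fun i => by rw [← pow_mul, mul_comm, pow_mul, hμ, one_pow]) fun h =>
      hne (CharInt.sum_eq_zero_of_twist_eq_zero c μ hμ (ZMod.val_coe_unit_coprime u) h)
  have h2 := Finset.sum_le_sum (s := Finset.univ) fun u _ => h1 u
  rw [Finset.sum_const, nsmul_eq_mul, Finset.card_univ, Finset.sum_comm,
    Finset.sum_congr rfl (g := fun _ : Fin m =>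
      ∑ u : (ZMod N)ˣ, ‖∑ i, (c i : ℂ) * μ i ^ (u : ZMod N).val‖ ^ 2) fun j _ => ?_,
    Finset.sum_const, Finset.card_univ, Fintype.card_fin, nsmul_eq_mul, mul_comm (m : ℝ)] at h2
  · exact le_of_mul_le_mul_right h2 (Nat.cast_pos.2 hm)
  · let v := ZMod.unitOfCoprime _ (he j)
    rw [← Equiv.sum_comp (Equiv.mulRight v) fun u : (ZMod N)ˣ =>
      ‖∑ i, (c i : ℂ) * μ i ^ (u : ZMod N).val‖ ^ 2]
    refine Finset.sum_congr rfl fun u _ => ?_
    congr 2
    refine Finset.sum_congr rfl fun i _ => ?_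
    congr 1
    rw [Equiv.coe_mulRight, Units.val_mul, ZMod.coe_unitOfCoprime, ZMod.val_mul,
      ← pow_eq_pow_mod _ (hμ i), ZMod.val_natCast, pow_mul, pow_mul,
      ← pow_eq_pow_mod _ (by rw [← pow_mul, mul_comm, pow_mul, hμ, one_pow])]

end Cfsg.Agent.Blocks
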