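import Cfsg.Agent.Lib.Blocks.LocalRing
import Mathlib

/-!
# Integral combinations of roots of unity of 2-power order

For a primitive `2n`-th root `ζ`, `n = 2^K`, every integral combination of its powers is uniquely
`Σ_{r < n} c r ζ^r`.  Divisibility by powers of 2 at `M` is read off the coefficients, and the
coefficient of `1` in `x * conj x` is `Σ (c r)²`.
-/

namespace Cfsg.Agent.Blocks.TwoPow

open scoped ComplexConjugate
open Finset

set_option linter.style.haveILetI false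

/-- `Σ_{r < n} c r ζ^r`. -/
noncomputable def ev (ζ : ℂ) (n : ℕ) (c : ℕ → ℤ) : ℂ := ∑ r ∈ range n, (c r : ℂ) * ζ ^ r

theorem ev_add (ζ : ℂ) (n : ℕ) (c c' : ℕ → ℤ) : ev ζ n (c + c') = ev ζ n c + ev ζ n c' := by
  simp [ev, sum_add_distrib, add_mul]

theorem ev_neg (ζ : ℂ) (n : ℕ) (c : ℕ → ℤ) : ev ζ n (-c) = -ev ζ n c := by simp [ev]

theorem ev_zero (ζ : ℂ) (n : ℕ) : ev ζ n 0 = 0 := by simp [ev]

theorem ev_single (ζ : ℂ) {n r : ℕ} (hr : r < n) (a : ℤ) :
    ev ζ n (fun j => if j = r then a else 0) = (a : ℂ) * ζ ^ r := by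
  rw [ev, sum_eq_single_of_mem r (mem_range.2 hr) fun j _ hj => by simp [hj]]
  simp

/-- The combinations, optionally without constant term. -/
noncomputable def span (ζ : ℂ) (n : ℕ) (P : (ℕ → ℤ) → Prop) (h0 : P 0)
    (hadd : ∀ c c', P c → P c' → P (c + c')) (hneg : ∀ c, P c → P (-c)) : AddSubgroup ℂ where
  carrier := {x | ∃ c, P c ∧ ev ζ n c = x}
  zero_mem' := ⟨0, h0, ev_zero ζ n⟩
  add_mem' := by
    rintro _ _ ⟨c, hc, rfl⟩ ⟨c', hc', rfl⟩
    exact ⟨c + c', hadd c c' hc hc', ev_add ζ n c c'⟩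
  neg_mem' := by
    rintro _ ⟨c, hc, rfl⟩
    exact ⟨-c, hneg c hc, ev_neg ζ n c⟩

/-- The combinations without constant term. -/
noncomputable def span₀ (ζ : ℂ) (n : ℕ) : AddSubgroup ℂ :=
  span ζ n (fun c => c 0 = 0) rfl (fun c c' h h' => by simp [h, h']) (fun c h => by simp [h])

variable {ζ : ℂ} {K : ℕ} (hζ : IsPrimitiveRoot ζ (2 ^ (K + 1)))
include hζ

theorem pow_half : ζ ^ 2 ^ K = -1 := by
  have h : IsPrimitiveRoot (ζ ^ 2 ^ K) 2 := by
    refine hζ.pow (by positivity) ?_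
    rw [pow_succ]
  exact h.eq_neg_one_of_two_right

theorem pow_eq (a : ℕ) : ζ ^ a = (-1) ^ (a / 2 ^ K) * ζ ^ (a % 2 ^ K) := by
  conv_lhs => rw [← Nat.div_add_mod a (2 ^ K)]
  rw [pow_add, pow_mul, pow_half hζ]

theorem pow_mem_span (a : ℕ) {P : (ℕ → ℤ) → Prop} {h0 hadd hneg}
    (hP : P (fun j => if j = a % 2 ^ K then (-1 : ℤ) ^ (a / 2 ^ K) else 0)) :
    ζ ^ a ∈ span ζ (2 ^ K) P h0 hadd hneg :=
  ⟨_, hP, by rw [ev_single ζ (Nat.mod_lt _ (by positivity)), pow_eq hζ a]; push_cast; rfl⟩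

/-- Every integral combination of `2^(K+1)`-th roots of unity has the standard form. -/
theorem exists_ev {ι : Type*} [Fintype ι] (μ : ι → ℂ) (hμ : ∀ i, μ i ^ 2 ^ (K + 1) = 1)
    (Z : ι → ℤ) : ∃ c, ev ζ (2 ^ K) c = ∑ i, (Z i : ℂ) * μ i := by
  have hmem : ∑ i, (Z i : ℂ) * μ i ∈
      span ζ (2 ^ K) (fun _ => True) trivial (fun _ _ _ _ => trivial) (fun _ _ => trivial) := by
    refine AddSubgroup.sum_mem _ fun i _ => ?_
    obtain ⟨a, -, ha⟩ := hζ.eq_pow_of_pow_eq_one (hμ i)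
    rw [← ha, ← zsmul_eq_mul]
    exact AddSubgroup.zsmul_mem _ (pow_mem_span hζ a trivial) _
  obtain ⟨c, -, hc⟩ := hmem
  exact ⟨c, hc⟩

theorem pow_mem_span₀ {a : ℕ} (ha : a % 2 ^ K ≠ 0) : ζ ^ a ∈ span₀ ζ (2 ^ K) :=
  pow_mem_span hζ a (by simp [Ne.symm ha])

variable {M : Ideal AlgInt} [M.IsMaximal] (hpM : ((2 : ℕ) : AlgInt) ∈ M)
include hpM

theorem red_root : MemLocalRing M ζ ∧ red M ζ = 1 := by
  haveI := charP_residue (p := 2) hpM
  have hint : IsIntegral ℤ ζ := hζ.isIntegral (by positivity)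
  have hr : MemLocalRing M ζ := memLocalRing_of_isIntegral hint
  refine ⟨hr, sub_eq_zero.1 (eq_zero_of_pow_eq_zero (n := 2 ^ (K + 1)) ?_)⟩
  rw [sub_pow_char_pow, ← red_pow hr, hζ.pow_eq_one, red_one, one_pow, sub_self]

theorem memLocalRing_ev (c : ℕ → ℤ) : MemLocalRing M (ev ζ (2 ^ K) c) :=
  MemLocalRing.sum _ fun r _ => MemLocalRing.mul (memLocalRing_intCast _)
    (MemLocalRing.pow (red_root hζ hpM).1 r)

theorem red_ev (c : ℕ → ℤ) :
    red M (ev ζ (2 ^ K) c) = ((∑ r ∈ range (2 ^ K), c r : ℤ) : AlgInt ⧸ M) := by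
  have h := red_root hζ hpM
  rw [ev, red_sum _ fun r _ => MemLocalRing.mul (memLocalRing_intCast _) (MemLocalRing.pow h.1 r),
    Int.cast_sum]
  refine sum_congr rfl fun r _ => ?_
  rw [red_mul (memLocalRing_intCast _) (MemLocalRing.pow h.1 r), red_intCast, red_pow h.1, h.2,
    one_pow, mul_one]

omit hζ in
/-- `2` is the `n`-th power of `1 - ζ` up to a unit at `M`. -/
theorem exists_pow_mul_eq_two (K : ℕ) {ζ : ℂ} (hζ : IsPrimitiveRoot ζ (2 ^ (K + 1))) :
    ∃ U : ℂ, MemLocalRing M U ∧ (1 - ζ) ^ 2 ^ K * U = 2 := by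
  induction K generalizing ζ with
  | zero =>
    refine ⟨1, memLocalRing_one, ?_⟩
    have := pow_half hζ
    rw [pow_zero, pow_one] at this ⊢
    rw [this]
    ring
  | succ K ih =>
    obtain ⟨U, hU, hU2⟩ := ih (hζ.pow (pow_pos two_pos _) (pow_succ' 2 (K + 1)))
    have hr := (red_root hζ hpM).1
    -- `1 + ζ = (1 - ζ) V`
    set a := 1 + 2 ^ (K + 1) with ha
    have hneg : ζ ^ a = -ζ := by rw [ha, pow_add, pow_one, pow_half hζ, mul_neg_one]
    have hV : (1 - ζ) * ∑ i ∈ range a, ζ ^ i = 1 + ζ := by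
      rw [mul_neg_geom_sum, hneg, sub_neg_eq_add]
    refine ⟨(∑ i ∈ range a, ζ ^ i) ^ 2 ^ K * U,
      MemLocalRing.mul (MemLocalRing.pow (MemLocalRing.sum _ fun i _ => MemLocalRing.pow hr i) _) hU,
      ?_⟩
    rw [← hU2, show (1 : ℂ) - ζ ^ 2 = (1 - ζ) * (1 + ζ) by ring, ← hV, mul_pow (1 - ζ), mul_pow (1 - ζ), pow_succ (2 : ℕ) K, pow_mul]
    ring

omit hζ hpM in
theorem two_dvd_of_map_eq_zero {f : Polynomial ℤ}
    (h : f.map (Int.castRingHom (ZMod 2)) = 0) : ∃ y : Polynomial ℤ, f = Polynomial.C 2 * y :=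
  (Polynomial.C_dvd_iff_dvd_coeff _ _).2 fun i => by
    have h1 := congrArg (fun q => Polynomial.coeff q i) h
    simp only [Polynomial.coeff_map, Polynomial.coeff_zero, eq_intCast] at h1
    exact_mod_cast (ZMod.intCast_zmod_eq_zero_iff_dvd _ 2).1 h1

/-- If half of `Σ c r ζ^r` is a local integer, all coefficients are even. -/
theorem two_dvd (c : ℕ → ℤ) (h : MemLocalRing M (ev ζ (2 ^ K) c / 2)) :
    ∀ r < 2 ^ K, 2 ∣ c r := by
  intro r hr
  set n := 2 ^ K with hn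
  let f : Polynomial ℤ := ∑ i ∈ range n, Polynomial.C (c i) * Polynomial.X ^ i
  let φ := Int.castRingHom (ZMod 2)
  have hcoeff : ∀ i, f.coeff i = if i < n then c i else 0 := by
    intro i
    simp [f, Polynomial.finsetSum_coeff, Polynomial.coeff_X_pow]
  by_contra hodd
  have hne : f.map φ ≠ 0 := by
    intro h0
    obtain ⟨y, hy⟩ := two_dvd_of_map_eq_zero h0
    refine hodd ?_
    have := hcoeff r
    rw [if_pos hr, hy, Polynomial.coeff_C_mul] at this
    exact ⟨_, this.symm⟩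
  obtain ⟨g₀, hg₀, hg₁⟩ := Polynomial.exists_eq_pow_rootMultiplicity_mul_and_not_dvd (f.map φ) hne 1
  set j := (f.map φ).rootMultiplicity 1
  have hdeg : (f.map φ).natDegree < n := by
    refine (Polynomial.natDegree_lt_iff_degree_lt hne).2 ((Polynomial.degree_lt_iff_coeff_zero _ _).2 ?_)
    intro i hi
    rw [Polynomial.coeff_map, hcoeff, if_neg (Nat.not_lt.2 hi), map_zero]
  have hj : j < n := by
    refine lt_of_le_of_lt ?_ hdeg
    calc j = ((Polynomial.X - Polynomial.C (1 : ZMod 2)) ^ j).natDegree := by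
          rw [Polynomial.natDegree_pow, Polynomial.natDegree_X_sub_C, mul_one]
      _ ≤ _ := Polynomial.natDegree_le_of_dvd ⟨g₀, hg₀⟩ hne
  obtain ⟨g, hg⟩ := Polynomial.map_surjective φ ZMod.intCast_surjective g₀
  obtain ⟨y, hy⟩ := two_dvd_of_map_eq_zero
    (f := f - (Polynomial.X - Polynomial.C 1) ^ j * g) (by
      rw [Polynomial.map_sub, Polynomial.map_mul, Polynomial.map_pow, Polynomial.map_sub,
        Polynomial.map_X, Polynomial.map_C, hg, map_one, ← hg₀, sub_self])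
  obtain ⟨U, hU, hU2⟩ := exists_pow_mul_eq_two hpM K hζ
  have hr' := red_root hζ hpM
  -- evaluate at `ζ`
  have hev : ev ζ n c = (ζ - 1) ^ j * Polynomial.aeval ζ g + 2 * Polynomial.aeval ζ y := by
    have h1 := congrArg (Polynomial.aeval ζ) (sub_eq_iff_eq_add.1 hy)
    simp only [map_add, map_mul, map_pow, map_sub, Polynomial.aeval_X,
      map_one, map_ofNat] at h1
    rw [← add_comm, ← h1]
    simp [f, ev]
  have hint : ∀ q : Polynomial ℤ, MemLocalRing M (Polynomial.aeval ζ q) ∧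
      red M (Polynomial.aeval ζ q) = ((q.eval 1 : ℤ) : AlgInt ⧸ M) := by
    intro q
    have hterm : ∀ i, MemLocalRing M ((q.coeff i : ℂ) * ζ ^ i) := fun i =>
      MemLocalRing.mul (memLocalRing_intCast _) (MemLocalRing.pow hr'.1 i)
    rw [Polynomial.aeval_eq_sum_range, Polynomial.eval_eq_sum_range]
    simp only [zsmul_eq_mul, one_pow, mul_one]
    refine ⟨MemLocalRing.sum _ fun i _ => hterm i, ?_⟩
    rw [red_sum _ fun i _ => hterm i, Int.cast_sum]
    refine sum_congr rfl fun i _ => ?_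
    rw [red_mul (memLocalRing_intCast _) (MemLocalRing.pow hr'.1 i), red_intCast, red_pow hr'.1,
      hr'.2, one_pow, mul_one]
  have hodd' : (g.eval 1 : ℤ) % 2 = 1 := by
    rcases Int.emod_two_eq_zero_or_one (g.eval 1) with h2 | h2
    · refine absurd (Polynomial.dvd_iff_isRoot.2 ?_) hg₁
      show g₀.eval 1 = 0
      rw [← hg, Polynomial.eval_one_map]
      exact (ZMod.intCast_zmod_eq_zero_iff_dvd _ 2).2 (by omega)
    · exact h2
  haveI := charP_residue (p := 2) hpM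
  have hw : MemLocalRing M ((ζ - 1) ^ j * Polynomial.aeval ζ g / 2) := by
    have e : (ζ - 1) ^ j * Polynomial.aeval ζ g / 2 = ev ζ n c / 2 - Polynomial.aeval ζ y := by
      rw [hev]; ring
    rw [e]
    exact MemLocalRing.sub h (hint y).1
  set w := (ζ - 1) ^ j * Polynomial.aeval ζ g / 2 with hwdef
  have h1ζ : (1 : ℂ) - ζ ≠ 0 := by
    intro h0
    rw [h0, zero_pow (by positivity), zero_mul] at hU2
    exact two_ne_zero hU2.symm
  have key : (-1) ^ j * Polynomial.aeval ζ g = (1 - ζ) ^ (n - j) * U * w := by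
    refine mul_left_cancel₀ (pow_ne_zero j h1ζ) ?_
    rw [← mul_assoc, ← mul_assoc, ← mul_assoc, ← pow_add, Nat.add_sub_of_le hj.le, hU2, ← mul_pow,
      hwdef, mul_div_cancel₀ _ (two_ne_zero' ℂ)]
    ring
  have hm1 : MemLocalRing M ((-1 : ℂ) ^ j) :=
    MemLocalRing.pow (MemLocalRing.neg memLocalRing_one) j
  have h1 := congrArg (red M) key
  have hsub := MemLocalRing.sub memLocalRing_one hr'.1
  rw [red_mul hm1 (hint g).1, (hint g).2, red_pow (MemLocalRing.neg memLocalRing_one),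
    red_neg memLocalRing_one, red_one,
    red_mul (MemLocalRing.mul (MemLocalRing.pow hsub _) hU) hw,
    red_mul (MemLocalRing.pow hsub _) hU, red_pow hsub, red_sub memLocalRing_one hr'.1, red_one,
    hr'.2, sub_self, zero_pow (by omega), zero_mul, zero_mul, mul_eq_zero] at h1
  rcases h1 with h1 | h1
  · exact neg_ne_zero.2 one_ne_zero (pow_eq_zero_iff'.1 h1).1
  · rw [CharP.intCast_eq_zero_iff (AlgInt ⧸ M) 2] at h1
    omega

/-- If `Σ c r ζ^r` is `2^h` times a local integer, `2^h` divides all coefficients. -/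
theorem pow_dvd (h : ℕ) : ∀ c : ℕ → ℤ, MemLocalRing M (ev ζ (2 ^ K) c / 2 ^ h) →
    ∀ r < 2 ^ K, (2 : ℤ) ^ h ∣ c r := by
  induction h with
  | zero => intros; simp
  | succ h ih =>
    intro c hc r hr
    have h1 : MemLocalRing M (ev ζ (2 ^ K) c / 2) := by
      have := MemLocalRing.mul (MemLocalRing.pow (memLocalRing_natCast (M := M) 2) h) hc
      convert this using 1
      push_cast
      field_simp
      ring
    have hev := two_dvd hζ hpM c h1
    have h2 := ih (fun i => c i / 2) ?_ r hr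
    · obtain ⟨d, hd⟩ := hev r hr
      rw [pow_succ', hd]
      simp only [hd, Int.mul_ediv_cancel_left _ two_ne_zero] at h2
      exact mul_dvd_mul_left _ h2
    · convert hc using 1
      have : ev ζ (2 ^ K) c = 2 * ev ζ (2 ^ K) (fun i => c i / 2) := by
        rw [ev, ev, Finset.mul_sum]
        refine sum_congr rfl fun i hi => ?_
        obtain ⟨d, hd⟩ := hev i (mem_range.1 hi)
        simp only [hd, Int.mul_ediv_cancel_left _ two_ne_zero]
        push_cast
        ring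
      rw [this, pow_succ']
      field_simp

/-- Uniqueness of the standard form. -/
theorem eq_zero_of_ev_eq_zero {c : ℕ → ℤ} (h : ev ζ (2 ^ K) c = 0) : ∀ r < 2 ^ K, c r = 0 := by
  intro r hr
  by_contra hne
  have h1 := pow_dvd hζ hpM (c r).natAbs c (by rw [h, zero_div]; exact memLocalRing_zero) r hr
  have h2 : 2 ^ (c r).natAbs ∣ (c r).natAbs := by
    simpa [Int.natAbs_pow] using Int.natAbs_dvd_natAbs.2 h1
  exact absurd (Nat.le_of_dvd (Int.natAbs_pos.2 hne) h2) (not_le.2 Nat.lt_two_pow_self)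

theorem coeff_zero_eq {c c' : ℕ → ℤ} (h : ev ζ (2 ^ K) c - ev ζ (2 ^ K) c' ∈ span₀ ζ (2 ^ K)) :
    c 0 = c' 0 := by
  obtain ⟨l, hl, he⟩ := h
  have := eq_zero_of_ev_eq_zero hζ hpM (c := c + -c' + -l)
    (by rw [ev_add, ev_add, ev_neg, ev_neg, he]; ring) 0 (by positivity)
  simp only [Pi.add_apply, Pi.neg_apply] at this
  omega

omit hpM in
theorem conj_pow {r : ℕ} (hr : r ≤ 2 ^ K) : conj (ζ ^ r) = -ζ ^ (2 ^ K - r) := by
  have hnorm : ‖ζ‖ = 1 := Complex.norm_eq_one_of_pow_eq_one hζ.pow_eq_one (by positivity)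
  have h1 : ζ ^ r * conj (ζ ^ r) = 1 := by
    rw [Complex.mul_conj', norm_pow, hnorm, one_pow, Complex.ofReal_one, one_pow]
  have h2 : ζ ^ r * -ζ ^ (2 ^ K - r) = 1 := by
    rw [mul_neg, ← pow_add, Nat.add_sub_of_le hr, pow_half hζ, neg_neg]
  exact mul_left_cancel₀ (left_ne_zero_of_mul_eq_one h1) (h1.trans h2.symm)

/-- For a real combination the coefficients sum to the constant one. -/
theorem sum_eq_of_real {c : ℕ → ℤ} (hreal : conj (ev ζ (2 ^ K) c) = ev ζ (2 ^ K) c) :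
    ∑ r ∈ range (2 ^ K), c r = c 0 := by
  have hK : 0 < 2 ^ K := by positivity
  have hsub : Ico 1 (2 ^ K) ⊆ range (2 ^ K) := fun r hr => mem_range.2 (mem_Ico.1 hr).2
  let d : ℕ → ℤ := fun r => if r = 0 then 0 else c r + c (2 ^ K - r)
  have hd : ev ζ (2 ^ K) d = 0 := by
    have e1 : ∀ (a : ℕ → ℂ), ∑ r ∈ range (2 ^ K), a r = a 0 + ∑ r ∈ Ico 1 (2 ^ K), a r := fun a => by
      rw [range_eq_Ico, ← sum_eq_sum_Ico_succ_bot hK]
    have e2 : conj (ev ζ (2 ^ K) c) =
        (c 0 : ℂ) + ∑ r ∈ Ico 1 (2 ^ K), -((c (2 ^ K - r) : ℂ) * ζ ^ r) := by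
      rw [ev, map_sum, e1]
      congr 1
      · simp
      · refine sum_nbij' (2 ^ K - ·) (2 ^ K - ·) ?_ ?_ ?_ ?_ ?_ <;>
          intro r hr <;> simp only [mem_Ico] at hr ⊢
        · omega
        · omega
        · omega
        · omega
        · rw [map_mul, map_intCast, conj_pow hζ hr.2.le, Nat.sub_sub_self hr.2.le, mul_neg]
    rw [hreal, ev, e1] at e2
    rw [ev, e1]
    simp only [d, pow_zero, mul_one, if_pos] at e2 ⊢
    rw [Int.cast_zero, zero_add, sum_congr rfl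
      (g := fun r => (c r : ℂ) * ζ ^ r + (c (2 ^ K - r) : ℂ) * ζ ^ r) fun r hr => by
        rw [if_neg (by simp at hr; omega)]; push_cast; ring, sum_add_distrib]
    rw [sum_neg_distrib, add_right_inj] at e2
    linear_combination e2
  have h0 := eq_zero_of_ev_eq_zero hζ hpM hd
  rw [range_eq_Ico, sum_eq_sum_Ico_succ_bot hK, add_eq_left]
  have h2 : ∑ r ∈ Ico 1 (2 ^ K), c r = -∑ r ∈ Ico 1 (2 ^ K), c r := by
    conv_rhs => rw [← sum_neg_distrib]
    refine sum_nbij' (2 ^ K - ·) (2 ^ K - ·) ?_ ?_ ?_ ?_ ?_ <;>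
      intro r hr <;> simp only [mem_Ico] at hr ⊢
    · omega
    · omega
    · omega
    · omega
    · have := h0 r hr.2
      simp only [d, if_neg (show r ≠ 0 by omega)] at this
      omega
  show ∑ r ∈ Ico (0 + 1) (2 ^ K), c r = 0
  rw [zero_add]
  omega

theorem memLocalIdeal_iff_dvd {c : ℕ → ℤ} (hreal : conj (ev ζ (2 ^ K) c) = ev ζ (2 ^ K) c) :
    MemLocalIdeal M (ev ζ (2 ^ K) c) ↔ 2 ∣ c 0 := by
  haveI := charP_residue (p := 2) hpM
  rw [← red_eq_zero_iff (memLocalRing_ev hζ hpM c), red_ev hζ hpM, sum_eq_of_real hζ hpM hreal,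
    CharP.intCast_eq_zero_iff (AlgInt ⧸ M) 2]
  norm_num

/-- A real combination in `2^h M` has constant coefficient divisible by `2^(h+1)`. -/
theorem pow_succ_dvd {c : ℕ → ℤ} (hreal : conj (ev ζ (2 ^ K) c) = ev ζ (2 ^ K) c) {h : ℕ}
    (hm : MemLocalIdeal M (ev ζ (2 ^ K) c / 2 ^ h)) : (2 : ℤ) ^ (h + 1) ∣ c 0 := by
  have hd := pow_dvd hζ hpM h c (memLocalRing_of_memLocalIdeal hm)
  set c' : ℕ → ℤ := fun r => c r / 2 ^ h with hc'
  have he : ev ζ (2 ^ K) c / 2 ^ h = ev ζ (2 ^ K) c' := by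
    rw [ev, ev, sum_div]
    refine sum_congr rfl fun r hr => ?_
    obtain ⟨d, hd'⟩ := hd r (mem_range.1 hr)
    simp only [hc', hd', Int.mul_ediv_cancel_left _ (pow_ne_zero h (two_ne_zero' ℤ))]
    push_cast
    field_simp
  have h1 := (memLocalIdeal_iff_dvd hζ hpM (c := c') (by
    rw [← he, map_div₀, hreal, map_pow, map_ofNat])).1 (he ▸ hm)
  obtain ⟨d, hd'⟩ := hd 0 (by positivity)
  simp only [hc', hd', Int.mul_ediv_cancel_left _ (pow_ne_zero h (two_ne_zero' ℤ))] at h1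
  rw [hd', pow_succ]
  exact mul_dvd_mul_left _ h1

/-- Comparing constant coefficients in `Σ x conj x = P y`. -/
theorem sum_sq_eq {ι : Type*} (s : Finset ι) (c : ι → ℕ → ℤ) (d : ℕ → ℤ) (P : ℤ)
    (h : ∑ i ∈ s, ev ζ (2 ^ K) (c i) * conj (ev ζ (2 ^ K) (c i)) = (P : ℂ) * ev ζ (2 ^ K) d) :
    ∑ i ∈ s, ∑ r ∈ range (2 ^ K), c i r ^ 2 = P * d 0 := by
  set T : ℤ := ∑ i ∈ s, ∑ r ∈ range (2 ^ K), c i r ^ 2 with hT
  have hK : 0 < 2 ^ K := by positivity
  have hone : ∀ a : ℤ, ev ζ (2 ^ K) (fun j => if j = 0 then a else 0) = a := fun a => by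
    simpa using ev_single ζ hK a
  have key : ∑ i ∈ s, ev ζ (2 ^ K) (c i) * conj (ev ζ (2 ^ K) (c i)) - (T : ℂ) ∈
      span₀ ζ (2 ^ K) := by
    rw [hT, Int.cast_sum, ← sum_sub_distrib]
    refine AddSubgroup.sum_mem _ fun i _ => ?_
    rw [ev, map_sum, sum_mul_sum, Int.cast_sum, ← sum_sub_distrib]
    refine AddSubgroup.sum_mem _ fun r hr => ?_
    rw [← Finset.add_sum_erase _ _ hr, map_mul, map_intCast, mul_mul_mul_comm, Complex.mul_conj',
      norm_pow, Complex.norm_eq_one_of_pow_eq_one hζ.pow_eq_one (by positivity), one_pow,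
      Complex.ofReal_one, one_pow, mul_one, Int.cast_pow, ← sq, add_sub_cancel_left]
    refine AddSubgroup.sum_mem _ fun j hj => ?_
    obtain ⟨hjr, hjn⟩ := mem_erase.1 hj
    rw [mem_range] at hr hjn
    rw [map_mul, map_intCast, mul_mul_mul_comm, conj_pow hζ hjn.le, mul_neg, ← pow_add, mul_neg,
      ← Int.cast_mul, ← zsmul_eq_mul]
    refine AddSubgroup.neg_mem _ (AddSubgroup.zsmul_mem _ (pow_mem_span₀ hζ ?_) _)
    intro hmod
    obtain ⟨q, hq⟩ := Nat.dvd_of_mod_eq_zero hmod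
    rcases Nat.lt_or_ge q 2 with hq2 | hq2
    · interval_cases q <;> omega
    · have := Nat.mul_le_mul_left (2 ^ K) hq2
      omega
  rw [h] at key
  have := coeff_zero_eq hζ hpM (c := P • d) (c' := fun j => if j = 0 then T else 0) (by
    rw [hone]
    convert key using 2
    simp [ev, Finset.mul_sum, mul_assoc])
  simpa using this.symm

omit hζ hpM in
theorem ev_sum {ι : Type*} (s : Finset ι) (c : ι → ℕ → ℤ) :
    ev ζ (2 ^ K) (fun r => ∑ i ∈ s, c i r) = ∑ i ∈ s, ev ζ (2 ^ K) (c i) := by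
  simp only [ev, Int.cast_sum, sum_mul]
  exact sum_comm

/-- The constant coefficients of combinations summing to the integer `W` sum to `W`. -/
theorem sum_head_eq {ι : Type*} (s : Finset ι) (c : ι → ℕ → ℤ) (W : ℤ)
    (h : ∑ i ∈ s, ev ζ (2 ^ K) (c i) = (W : ℂ)) : ∑ i ∈ s, c i 0 = W := by
  have hK : 0 < 2 ^ K := by positivity
  have := coeff_zero_eq hζ hpM (c := fun r => ∑ i ∈ s, c i r)
    (c' := fun j => if j = 0 then W else 0) (by
      rw [ev_sum, h, ev_single ζ hK, pow_zero, mul_one, sub_self]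
      exact AddSubgroup.zero_mem _)
  simpa using this

end Cfsg.Agent.Blocks.TwoPow
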