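import Cfsg.Agent.Lib.Blocks.ContributionCongr
import Cfsg.Agent.Lib.Blocks.TwoPowerInt

/-!
# Bounds for 2-blocks from a major subsection

If `(x, b)` is a major subsection of the 2-block `B` of defect `d` and either `l(b) ≤ 3` or
`k(B) ≤ l(b) + 3`, then `k(B) ≤ 2^d`.
-/

namespace Cfsg.Agent.Blocks

open scoped ComplexConjugate Classical
open Finset

set_option linter.style.haveILetI false
set_option linter.unusedSectionVars false

universe u

/-- The counting argument. -/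
theorem height_weight_bound {ι : Type*} (s : Finset ι) (h : ι → ℕ) (t : ι → ℤ) (P : ℤ)
    (S : ι → ι → ℤ) (hrow : ∀ i ∈ s, ∑ j ∈ s, S i j = P * t i)
    (hdiag : ∀ i ∈ s, t i ^ 2 ≤ S i i)
    (hoff : ∀ i ∈ s, ∀ j ∈ s, h i = 0 → j ≠ i → (4 : ℤ) ^ h j ≤ S i j)
    (hpos : ∀ i ∈ s, 0 < t i) (hodd : ∀ i ∈ s, h i = 0 → ¬ (2 : ℤ) ∣ t i)
    (hdvd : ∀ i ∈ s, h i ≠ 0 → (2 : ℤ) ^ (h i + 1) ∣ t i) (hsum : ∑ i ∈ s, t i ≤ 3 * P) :
    3 * ((s.filter (fun i => h i = 0)).card : ℤ) +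
      2 * ∑ i ∈ s.filter (fun i => h i ≠ 0), (2 : ℤ) ^ h i ≤ 3 * P := by
  have hsplit : ∀ f : ι → ℤ, ∑ i ∈ s, f i =
      ∑ i ∈ s.filter (fun i => h i = 0), f i + ∑ i ∈ s.filter (fun i => h i ≠ 0), f i := fun f =>
    (sum_filter_add_sum_filter_not s _ f).symm
  by_cases hone : ∃ i ∈ s, h i = 0 ∧ t i = 1
  · obtain ⟨i, hi, hi0, ht⟩ := hone
    have hmain : ∑ j ∈ s, (4 : ℤ) ^ h j ≤ P := by
      rw [← mul_one P, ← ht, ← hrow i hi]
      refine sum_le_sum fun j hj => ?_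
      by_cases hji : j = i
      · subst hji
        have := hdiag j hj
        rw [ht] at this
        rw [hi0]
        simpa using this
      · exact hoff i hi j hj hi0 hji
    rw [hsplit, sum_congr rfl (g := fun _ => (1 : ℤ)) fun j hj => by
      rw [(mem_filter.1 hj).2, pow_zero], sum_const, nsmul_eq_mul, mul_one] at hmain
    have h2 : ∑ j ∈ s.filter (fun j => h j ≠ 0), (2 : ℤ) ^ h j ≤
        ∑ j ∈ s.filter (fun j => h j ≠ 0), (4 : ℤ) ^ h j :=
      sum_le_sum fun j _ => pow_le_pow_left₀ (by norm_num) (by norm_num) _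
    have h3 : 0 ≤ ∑ j ∈ s.filter (fun j => h j ≠ 0), (4 : ℤ) ^ h j :=
      sum_nonneg fun j _ => by positivity
    linarith
  · push Not at hone
    have h1 : ∑ i ∈ s.filter (fun i => h i = 0), (3 : ℤ) ≤
        ∑ i ∈ s.filter (fun i => h i = 0), t i := sum_le_sum fun i hi => by
      obtain ⟨hi, hi0⟩ := mem_filter.1 hi
      have h1 := hone i hi hi0
      have h2 := hpos i hi
      have h3 := hodd i hi hi0
      omega
    have h2 : ∑ i ∈ s.filter (fun i => h i ≠ 0), 2 * (2 : ℤ) ^ h i ≤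
        ∑ i ∈ s.filter (fun i => h i ≠ 0), t i := sum_le_sum fun i hi => by
      obtain ⟨hi, hi0⟩ := mem_filter.1 hi
      rw [← pow_succ']
      exact Int.le_of_dvd (hpos i hi) (hdvd i hi hi0)
    rw [sum_const, nsmul_eq_mul] at h1
    rw [← mul_sum] at h2
    rw [hsplit] at hsum
    linarith

variable {G : Type u} [Group G] [Fintype G] {M : Ideal AlgInt} [M.IsMaximal] {x : G}
  [Fintype (Subgroup.centralizer ({x} : Set G))]
  {B : Set (IrrCharacter G)} {b : Set (IrrCharacter (Subgroup.centralizer ({x} : Set G)))}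

/-- The data of a major subsection of a 2-block. -/
theorem exists_major_weights (hpM : ((2 : ℕ) : AlgInt) ∈ M) {k : ℕ} (hx : orderOf x = 2 ^ k)
    (hb : IsInducedBlock M (Subgroup.centralizer ({x} : Set G)) b B)
    (hd : blockDefect 2 b = blockDefect 2 B) :
    ∃ (t : IrrCharacter G → ℤ) (S : IrrCharacter G → IrrCharacter G → ℤ),
      (∀ i ∈ univ.filter (· ∈ B), ∑ j ∈ univ.filter (· ∈ B), S i j =
        (2 : ℤ) ^ blockDefect 2 B * t i) ∧
      (∀ i ∈ univ.filter (· ∈ B), t i ^ 2 ≤ S i i) ∧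
      (∀ i ∈ univ.filter (· ∈ B), ∀ j ∈ univ.filter (· ∈ B), blockHeight 2 B i.1 = 0 →
        (4 : ℤ) ^ blockHeight 2 B j.1 ≤ S i j) ∧
      (∀ i j, 0 ≤ S i j) ∧ (∀ i j, S i j = S j i) ∧
      (∀ i ∈ univ.filter (· ∈ B), blockHeight 2 B i.1 = 0 → ¬ (2 : ℤ) ∣ t i) ∧
      (∀ i ∈ univ.filter (· ∈ B), blockHeight 2 B i.1 ≠ 0 →
        (2 : ℤ) ^ (blockHeight 2 B i.1 + 1) ∣ t i) ∧
      ∑ i ∈ univ.filter (· ∈ B), t i = (2 : ℤ) ^ blockDefect 2 B * blockRank 2 b := by
  haveI : Fact (Nat.Prime 2) := ⟨Nat.prime_two⟩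
  obtain ⟨μ, Z, hμ, hz⟩ := exists_roots_combination hpM hx hb.1
  obtain ⟨ζ, hζ⟩ : ∃ ζ : ℂ, IsPrimitiveRoot ζ (2 ^ (k + 1)) :=
    ⟨_, Complex.isPrimitiveRoot_exp (2 ^ (k + 1)) (Nat.two_pow_pos _).ne'⟩
  choose C hC using fun q : IrrCharacter G × IrrCharacter G => TwoPow.exists_ev hζ μ
    (fun i => by rw [pow_succ, pow_mul, hμ, one_pow]) (Z q)
  set n := 2 ^ k with hn
  have hev : ∀ i j : IrrCharacter G, TwoPow.ev ζ n (C (i, j)) =
      ((2 ^ blockDefect 2 B : ℕ) : ℂ) * contribution 2 b i.1 j.1 := fun i j => by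
    rw [hC, hz, hd]
  have hconj : ∀ i j : IrrCharacter G, conj (TwoPow.ev ζ n (C (i, j))) = TwoPow.ev ζ n (C (j, i)) :=
    fun i j => by rw [hev, hev, map_mul, map_natCast, conj_contribution hpM hb.1]
  have hreal := fun i => hconj i i
  let S : IrrCharacter G → IrrCharacter G → ℤ := fun i j => ∑ r ∈ range n, C (j, i) r ^ 2
  have hsymm : ∀ i j, S i j = S j i := fun i j => by
    obtain ⟨c, hc⟩ : ∃ c, TwoPow.ev ζ n c = TwoPow.ev ζ n (C (j, i)) * TwoPow.ev ζ n (C (i, j)) := by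
      have : ∑ r : Fin n × Fin n, ((C (j, i) r.1 * C (i, j) r.2 : ℤ) : ℂ) *
          (ζ ^ (r.1 : ℕ) * ζ ^ (r.2 : ℕ)) = TwoPow.ev ζ n (C (j, i)) * TwoPow.ev ζ n (C (i, j)) := by
        rw [Fintype.sum_prod_type, TwoPow.ev, TwoPow.ev, sum_mul_sum, ← Fin.sum_univ_eq_sum_range]
        refine sum_congr rfl fun a _ => ?_
        rw [← Fin.sum_univ_eq_sum_range]
        exact sum_congr rfl fun c _ => by push_cast; ring
      obtain ⟨c, hc⟩ := TwoPow.exists_ev hζ (fun r : Fin n × Fin n => ζ ^ (r.1 : ℕ) * ζ ^ (r.2 : ℕ))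
        (fun r => by rw [mul_pow, pow_right_comm, pow_right_comm ζ (r.2 : ℕ), hζ.pow_eq_one,
          one_pow, one_pow, one_mul]) (fun r => C (j, i) r.1 * C (i, j) r.2)
      exact ⟨c, hc.trans this⟩
    have g1 := TwoPow.sum_sq_eq hζ hpM ({()} : Finset Unit) (fun _ => C (j, i)) c 1
      (by rw [sum_singleton, Int.cast_one, one_mul, hc, hconj])
    have g2 := TwoPow.sum_sq_eq hζ hpM ({()} : Finset Unit) (fun _ => C (i, j)) c 1
      (by rw [sum_singleton, Int.cast_one, one_mul, hc, hconj]; ring)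
    rw [sum_singleton] at g1 g2
    exact g1.trans g2.symm
  refine ⟨fun i => C (i, i) 0, S, fun i _ => ?_, fun i _ => ?_, fun i hi j hj hi0 => ?_,
    fun i j => sum_nonneg fun r _ => sq_nonneg _, hsymm, fun i hi hi0 => ?_,
    fun i hi hi0 => ?_, ?_⟩
  · refine TwoPow.sum_sq_eq hζ hpM _ (fun j => C (j, i)) (C (i, i)) _ ?_
    rw [sum_congr rfl fun j _ => show TwoPow.ev ζ n (C (j, i)) * conj (TwoPow.ev ζ n (C (j, i))) =
      ((2 ^ blockDefect 2 B : ℕ) : ℂ) ^ 2 *
        (contribution 2 b i.1 j.1 * conj (contribution 2 b i.1 j.1)) by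
        rw [hconj, hev, hev, conj_contribution hpM hb.1]; ring,
      ← mul_sum, sum_contribution_mul_conj hpM hx hb i, hev]
    push_cast
    ring
  · exact single_le_sum (fun r _ => sq_nonneg (C (i, i) r)) (mem_range.2 (by positivity))
  · have hiB := (mem_filter.1 hi).2
    obtain ⟨h1, h2, -⟩ := contribution_height hpM hx hb hd (mem_filter.1 hj).2 hiB hi0
    rw [hd, ← hev, Nat.cast_pow, Nat.cast_ofNat] at h1 h2
    have hdv := TwoPow.pow_dvd hζ hpM _ _ h1
    obtain ⟨r, hr, hne⟩ : ∃ r ∈ range n, C (j, i) r ≠ 0 := by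
      by_contra hno
      push Not at hno
      refine h2 ?_
      rw [TwoPow.ev, sum_eq_zero fun r hr => by rw [hno r hr, Int.cast_zero, zero_mul], zero_div]
      exact memLocalIdeal_zero
    refine le_trans ?_ (single_le_sum (fun r _ => sq_nonneg (C (j, i) r)) hr)
    obtain ⟨e, he⟩ := hdv r (mem_range.1 hr)
    rw [he, mul_pow, ← pow_mul, mul_comm _ 2, pow_mul]
    norm_num
    exact Int.one_le_abs fun h0 => hne (by rw [he, h0, mul_zero])
  · have := not_memLocalIdeal_contribution hpM hx hb (mem_filter.1 hi).2 hi0 (mem_filter.1 hi).2 hi0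
    rw [hd, ← hev] at this
    exact fun h => this ((TwoPow.memLocalIdeal_iff_dvd hζ hpM (hreal i)).2 h)
  · obtain ⟨χ₀, hχ₀, h00⟩ := exists_height_zero hpM hb.2.1
    have := (contribution_height hpM hx hb hd (mem_filter.1 hi).2 hχ₀ h00).2.2 hi0
    rw [hd, ← hev, Nat.cast_pow, Nat.cast_ofNat] at this
    exact TwoPow.pow_succ_dvd hζ hpM (hreal i) this
  · refine TwoPow.sum_head_eq hζ hpM _ (fun i => C (i, i)) _ ?_
    simp only [← hn, hev]
    rw [← mul_sum, sum_contribution_self hpM hx hb]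
    push_cast
    ring

/-- If `l(b) ≤ 3` or `k(B) ≤ l(b) + 3` for a major subsection, then
`3 k₀(B) + 2 Σ 2^h ≤ 3 · 2^d`. -/
theorem height_weight_le (hpM : ((2 : ℕ) : AlgInt) ∈ M) {k : ℕ} (hx : orderOf x = 2 ^ k)
    (hb : IsInducedBlock M (Subgroup.centralizer ({x} : Set G)) b B)
    (hd : blockDefect 2 b = blockDefect 2 B)
    (hl : blockRank 2 b ≤ 3 ∨ (univ.filter (· ∈ B)).card ≤ blockRank 2 b + 3) :
    3 * ((univ.filter (· ∈ B)).filter (fun χ : IrrCharacter G => blockHeight 2 B χ.1 = 0)).card +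
      2 * ∑ χ ∈ (univ.filter (· ∈ B)).filter (fun χ : IrrCharacter G => blockHeight 2 B χ.1 ≠ 0),
        2 ^ blockHeight 2 B χ.1 ≤ 3 * 2 ^ blockDefect 2 B := by
  haveI : Fact (Nat.Prime 2) := ⟨Nat.prime_two⟩
  obtain ⟨t, S, hrow, hdiag, hoff, hnn, hsym, hodd, hdvd, hsum⟩ := exists_major_weights hpM hx hb hd
  obtain ⟨χ₀, hχ₀, h00⟩ := exists_height_zero hpM hb.2.1
  set s := univ.filter (· ∈ B) with hs
  have h₀ : χ₀ ∈ s := mem_filter.2 ⟨mem_univ _, hχ₀⟩
  set h : IrrCharacter G → ℕ := fun χ => blockHeight 2 B χ.1 with hh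
  set P : ℤ := (2 : ℤ) ^ blockDefect 2 B with hP
  have hPpos : 0 < P := by positivity
  -- every weight is positive, and smaller than `P` unless the block is a single character
  have hoff' : ∀ i ∈ s, ∀ j ∈ s, h i = 0 ∨ h j = 0 → 1 ≤ S i j := fun i hi j hj hor => by
    rcases hor with hor | hor
    · exact le_trans (one_le_pow₀ (by norm_num)) (hoff i hi j hj hor)
    · rw [hsym]; exact le_trans (one_le_pow₀ (by norm_num)) (hoff j hj i hi hor)
  have hpos : ∀ i ∈ s, 0 < t i := fun i hi => by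
    have h1 : S i χ₀ ≤ P * t i := hrow i hi ▸ single_le_sum (fun j _ => hnn i j) h₀
    have h2 := hoff' i hi χ₀ h₀ (Or.inr h00)
    by_contra hle
    nlinarith [mul_nonpos_of_nonneg_of_nonpos hPpos.le (not_lt.1 hle)]
  suffices key : 3 * ((s.filter (fun i => h i = 0)).card : ℤ) +
      2 * ∑ i ∈ s.filter (fun i => h i ≠ 0), (2 : ℤ) ^ h i ≤ 3 * P by
    rw [hP] at key
    exact_mod_cast key
  rcases hl with hl | hl
  · refine height_weight_bound s h t P S hrow hdiag (fun i hi j hj h0 _ => hoff i hi j hj h0)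
      hpos hodd hdvd ?_
    rw [hsum, mul_comm]
    exact mul_le_mul_of_nonneg_right (by exact_mod_cast hl) hPpos.le
  -- the complementary weights
  by_cases hone : ∀ j ∈ s, j = χ₀
  · have hseq : s = {χ₀} := eq_singleton_iff_unique_mem.2 ⟨h₀, hone⟩
    rw [hseq, filter_singleton, filter_singleton, if_pos (show h χ₀ = 0 from h00),
      if_neg (not_not.2 (show h χ₀ = 0 from h00))]
    simp only [card_singleton, sum_empty]
    have : (1 : ℤ) ≤ P := hPpos
    push_cast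
    linarith
  push Not at hone
  obtain ⟨χ₁, h₁, h10⟩ := hone
  have hlt : ∀ i ∈ s, t i < P := fun i hi => by
    obtain ⟨j, hj, hji, hor⟩ : ∃ j ∈ s, j ≠ i ∧ (h i = 0 ∨ h j = 0) := by
      by_cases hi0 : i = χ₀
      · exact ⟨χ₁, h₁, hi0 ▸ h10, Or.inl (hi0 ▸ h00)⟩
      · exact ⟨χ₀, h₀, Ne.symm hi0, Or.inr h00⟩
    have h1 := hrow i hi
    rw [← add_sum_erase _ _ hi] at h1
    have h2 : S i j ≤ ∑ l ∈ s.erase i, S i l :=
      single_le_sum (fun l _ => hnn i l) (mem_erase.2 ⟨hji, hj⟩)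
    have h3 := hoff' i hi j hj hor
    have h4 := hdiag i hi
    by_contra hle
    nlinarith [hpos i hi]
  have hdef : ∀ i ∈ s, h i + 1 ≤ blockDefect 2 B := fun i hi => by
    have h1 : t χ₀ < P := hlt χ₀ h₀
    rcases Nat.eq_zero_or_pos (h i) with h0 | hpos'
    · rw [h0]
      by_contra hno
      have : P = 1 := by rw [hP, show blockDefect 2 B = 0 by omega, pow_zero]
      have := hpos χ₀ h₀
      omega
    · have hne : i ≠ χ₀ := fun e => by rw [e, show h χ₀ = 0 from h00] at hpos'; omega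
      have h2 := hrow χ₀ h₀
      rw [← add_sum_erase _ _ h₀] at h2
      have h3 : S χ₀ i ≤ ∑ l ∈ s.erase χ₀, S χ₀ l :=
        single_le_sum (fun l _ => hnn χ₀ l) (mem_erase.2 ⟨hne, hi⟩)
      have h4 := hoff χ₀ h₀ i hi h00
      have h5 := hdiag χ₀ h₀
      have h6 : ((2 : ℤ) ^ (h i + 1)) ^ 2 ≤ P ^ 2 := by
        rw [← pow_mul, mul_comm, pow_mul, pow_succ]
        norm_num
        nlinarith [sq_nonneg (P - 2 * t χ₀)]
      have h7 : (2 : ℤ) ^ (h i + 1) ≤ P := pow_le_pow_iff_left₀ (by positivity) hPpos.le two_ne_zero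
        |>.1 h6
      rw [hP] at h7
      exact (Nat.pow_le_pow_iff_right (le_refl 2)).1 (by exact_mod_cast h7)
  let S' : IrrCharacter G → IrrCharacter G → ℤ := fun i j =>
    if j = i then P ^ 2 - 2 * P * t i + S i i else S i j
  refine height_weight_bound s h (fun i => P - t i) P S' (fun i hi => ?_) (fun i hi => ?_)
    (fun i hi j hj h0 hne => ?_) (fun i hi => sub_pos.2 (hlt i hi)) (fun i hi h0 hd2 => ?_)
    (fun i hi h0 => ?_) ?_
  · rw [← add_sum_erase _ _ hi, sum_congr rfl (g := S i) fun j hj => by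
      simp [S', (mem_erase.1 hj).1]]
    have h1 := hrow i hi
    rw [← add_sum_erase _ _ hi] at h1
    simp only [S', if_pos]
    linear_combination h1
  · have := hdiag i hi
    simp only [S', if_pos]
    linarith [show (P - t i) ^ 2 = P ^ 2 - 2 * P * t i + t i ^ 2 by ring]
  · simp only [S', if_neg hne]
    exact hoff i hi j hj h0
  · refine hodd i hi h0 ?_
    have hev : (2 : ℤ) ∣ P := dvd_pow_self _ (by have := hdef i hi; omega)
    simpa using dvd_sub hev hd2
  · exact dvd_sub (pow_dvd_pow _ (hdef i hi)) (hdvd i hi h0)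
  · rw [sum_sub_distrib, hsum, sum_const, nsmul_eq_mul, mul_comm P, ← sub_mul]
    refine mul_le_mul_of_nonneg_right ?_ hPpos.le
    have : ((s.card : ℕ) : ℤ) ≤ (blockRank 2 b : ℤ) + 3 := by exact_mod_cast hl
    linarith

theorem card_le_of_weight_le {ι : Type*} (s : Finset ι) (h : ι → ℕ) :
    3 * s.card ≤ 3 * (s.filter (fun i => h i = 0)).card +
      2 * ∑ i ∈ s.filter (fun i => h i ≠ 0), 2 ^ h i := by
  have h1 : (s.filter (fun i => h i = 0)).card + (s.filter (fun i => h i ≠ 0)).card = s.card :=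
    card_filter_add_card_filter_not _
  have h2 : ∑ i ∈ s.filter (fun i => h i ≠ 0), 2 ≤ ∑ i ∈ s.filter (fun i => h i ≠ 0), 2 ^ h i :=
    sum_le_sum fun i hi => le_self_pow₀ (by norm_num) (mem_filter.1 hi).2
  rw [sum_const, smul_eq_mul] at h2
  omega

end Cfsg.Agent.Blocks
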