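import Cfsg.Agent.Lib.Blocks.Brauer

/-!
# Induced blocks and defect groups; Brauer's first main theorem
-/

set_option linter.style.haveILetI false
set_option linter.unusedSectionVars false

namespace Cfsg.Agent.Blocks

open Cfsg MonoidAlgebra
open scoped ComplexConjugate

universe u

variable {G : Type u} [Group G] [Finite G] {M : Ideal AlgInt} [M.IsMaximal]
variable {p : ℕ} [hp : Fact p.Prime] {H : Subgroup G}

/-- The congruence defining an induced block, on all central local elements. -/
theorem IsInducedBlock.omega_sub {b : Set (IrrCharacter H)} {B : Set (IrrCharacter G)}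
    (h : IsInducedBlock M H b B) {ξ : IrrCharacter H} (hξ : ξ ∈ b) {χ : IrrCharacter G}
    (hχ : χ ∈ B) {z : MonoidAlgebra ℂ G} (hz : IsCentralElt z) (hzS : SCoeff M z) :
    MemLocalIdeal M (omega ξ.1 (resH H z) - omega χ.1 z) := by
  haveI := Fintype.ofFinite (ConjClasses G)
  rw [omega_eq_sum_classes χ hz]
  conv =>
    arg 2; arg 1
    rw [IsCentralElt.eq_sum_classSum hz, resH_sum, Blocks.omega_sum]
    arg 2; intro C
    rw [resH_smul, Blocks.omega_smul, omega_resH_classSum]
  rw [← Finset.sum_sub_distrib]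
  refine MemLocalIdeal.sum _ fun C _ => ?_
  rw [← mul_sub]
  exact MemLocalIdeal.mul_left (hzS _) (h.2.2 ξ hξ χ hχ _)

theorem IsInducedBlock.unique {b : Set (IrrCharacter H)} {B B' : Set (IrrCharacter G)}
    (h : IsInducedBlock M H b B) (h' : IsInducedBlock M H b B') : B = B' := by
  obtain ⟨ξ, hξ⟩ := block_nonempty h.1
  obtain ⟨χ, hχ⟩ := block_nonempty h.2.1
  obtain ⟨ψ, hψ⟩ := block_nonempty h'.2.1
  have hs : SameBlock M χ.1 ψ.1 := fun g => by
    simpa using MemLocalIdeal.sub (h'.2.2 ξ hξ ψ hψ g) (h.2.2 ξ hξ χ hχ g)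
  rw [block_eq h.2.1 hχ, block_eq h'.2.1 hψ, blockOf_eq hs]

/-- A unit central character of the induced block comes from one of `b`. -/
theorem IsInducedBlock.exists_unit_class {b : Set (IrrCharacter H)} {B : Set (IrrCharacter G)}
    (h : IsInducedBlock M H b B) {ξ : IrrCharacter H} (hξ : ξ ∈ b) {χ : IrrCharacter G}
    (hχ : χ ∈ B) {g : G} (hg : ¬ MemLocalIdeal M (centralChar χ.1 g)) :
    ∃ k : H, IsConj g (k : G) ∧ ¬ MemLocalIdeal M (centralChar ξ.1 k) := by
  classical
  haveI := Fintype.ofFinite (ConjClasses H)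
  by_contra hno
  refine hg ((memLocalIdeal_iff_of_sub ?_).1
    (show MemLocalIdeal M (omega ξ.1 (resH H (classSum ℂ g))) from ?_))
  · rw [omega_resH_classSum]
    exact h.2.2 ξ hξ χ hχ g
  · rw [omega_eq_sum_classes ξ (isCentralElt_resH (isCentralElt_classSum g))]
    refine MemLocalIdeal.sum _ fun C _ => ?_
    rw [coeff_resH, coeff_classSum]
    by_cases hc : IsConj g ((C.out : H) : G)
    · rw [if_pos hc, one_mul]
      by_contra hI
      exact hno ⟨_, hc, hI⟩
    · rw [if_neg hc, zero_mul]
      exact memLocalIdeal_zero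

theorem map_conj_normal {P : Subgroup G} (x : G) [hn : P.Normal] :
    P.map (MulAut.conj x).toMonoidHom = P := by
  ext q
  rw [mem_map_conj]
  exact ⟨fun h => by simpa [mul_assoc] using hn.conj_mem _ h x,
    fun h => by simpa using hn.conj_mem q h x⁻¹⟩

variable (hpM : (p : AlgInt) ∈ M)
include hpM

/-- A defect group of `b` lies in one of the induced block. -/
theorem IsInducedBlock.exists_defectGroup_ge {b : Set (IrrCharacter H)}
    {B : Set (IrrCharacter G)} (h : IsInducedBlock M H b B) {D : Subgroup H}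
    (hD : IsDefectGroup p M b D) :
    ∃ E : Subgroup G, IsDefectGroup p M B E ∧ D.map H.subtype ≤ E := by
  obtain ⟨d, hd, hdD⟩ := isDefectGroup_iff.1 hD
  obtain ⟨g, hg⟩ := exists_defectClass h.2.1
  obtain ⟨ξ, hξ⟩ := block_nonempty h.1
  obtain ⟨χ, hχ⟩ := block_nonempty h.2.1
  obtain ⟨k, hgk, hk⟩ := IsInducedBlock.exists_unit_class h hξ hχ (hg.2.2 χ hχ)
  obtain ⟨y, hy, hle⟩ := exists_isConj_le_centralizer hpM h.1 hξ hk hd.2.1
    (SylIn.isPGroup hdD) hdD.1
  obtain ⟨c, hc⟩ := isConj_iff.1 (hgk.trans (Subgroup.subtype H |>.map_isConj hy))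
  have hle' : D.map H.subtype ≤ Subgroup.centralizer ({(y : G)} : Set G) := by
    rintro _ ⟨q, hq, rfl⟩
    exact Subgroup.mem_centralizer_singleton_iff.2
      (congrArg Subtype.val (Subgroup.mem_centralizer_singleton_iff.1 (hle hq)))
  have hg' : IsDefectClass M B (y : G) := by
    have := IsDefectClass.conj hg c
    rwa [hc] at this
  obtain ⟨E, hE⟩ := exists_sylIn (p := p) (Subgroup.centralizer ({(y : G)} : Set G))
  obtain ⟨x, -, hx⟩ := SylIn.exists_conj_le hE ((SylIn.isPGroup hdD).map H.subtype) hle'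
  refine ⟨E.map (MulAut.conj x⁻¹).toMonoidHom,
    IsDefectGroup.conj (isDefectGroup_iff.2 ⟨_, hg', hE⟩) x⁻¹, ?_⟩
  have := Subgroup.map_mono (f := (MulAut.conj x⁻¹).toMonoidHom) hx
  rwa [map_conj_map_conj, inv_mul_cancel, map_conj_one] at this

theorem exists_support_centralizing_iff {B : Set (IrrCharacter G)} (hB : IsPBlock M B)
    {D : Subgroup G} (hD : IsDefectGroup p M B D) {P : Subgroup G} (hP : IsPGroup p P) :
    (∃ g, ¬ MemLocalIdeal M (blockCoeff B g) ∧ g ∈ Subgroup.centralizer (P : Set G)) ↔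
      ∃ x : G, P.map (MulAut.conj x).toMonoidHom ≤ D := by
  obtain ⟨d, hd, hdD⟩ := isDefectGroup_iff.1 hD
  obtain ⟨χ, hχ⟩ := block_nonempty hB
  refine ⟨fun ⟨g, hg, hgC⟩ => minmax hpM hB hχ (hd.2.2 χ hχ) hg hdD hP
    (le_centralizer_singleton.2 hgC), fun ⟨x, hx⟩ => ?_⟩
  refine ⟨x⁻¹ * d * x⁻¹⁻¹, (IsDefectClass.conj hd x⁻¹).2.1, le_centralizer_singleton.1 ?_⟩
  rw [← map_conj_centralizer]
  have := Subgroup.map_mono (f := (MulAut.conj x⁻¹).toMonoidHom) (hx.trans hdD.1)
  rwa [map_conj_map_conj, inv_mul_cancel, map_conj_one] at this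

/-- `B` comes from a local subgroup exactly when `P` is contained in a defect group. -/
theorem exists_isInducedBlock_iff {P : Subgroup G} (hP : IsPGroup p P) (hPH : P ≤ H)
    (hCH : Subgroup.centralizer (P : Set G) ≤ H)
    (hHN : H ≤ Subgroup.normalizer (P : Set G)) {B : Set (IrrCharacter G)} (hB : IsPBlock M B) :
    (∃ b, IsInducedBlock M H b B) ↔
      ∃ D, IsDefectGroup p M B D ∧ ∃ x : G, P.map (MulAut.conj x).toMonoidHom ≤ D := by
  constructor
  · rintro ⟨b, hb⟩
    haveI := normal_subgroupOf_of_le_normalizer hHN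
    obtain ⟨D, hD⟩ := exists_defectGroup (p := p) hb.1
    obtain ⟨E, hE, hle⟩ := IsInducedBlock.exists_defectGroup_ge hpM hb hD
    refine ⟨E, hE, 1, ?_⟩
    rw [map_conj_one]
    refine le_trans ?_ hle
    have h1 := normal_le_defectGroup hpM hb.1
      (hP.of_equiv (Subgroup.subgroupOfEquivOfLe hPH).symm) hD
    have h2 := Subgroup.map_mono (f := H.subtype) h1
    rwa [Subgroup.map_subgroupOf_eq_of_le hPH] at h2
  · rintro ⟨D, hD, hx⟩
    obtain ⟨g, hg, hgC⟩ := (exists_support_centralizing_iff hpM hB hD hP).2 hx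
    exact exists_inducing_block hpM hP hCH hHN hPH hB hgC hg

omit hpM in
/-- A `p`-subgroup that is Sylow in `C(c) ∩ N(P)` and central-conjugate is Sylow in `C(c)`. -/
theorem sylIn_centralizer_of_normalizer {P : Subgroup G} {c : G}
    (h : SylIn p (Subgroup.centralizer ({c} : Set G) ⊓ Subgroup.normalizer (P : Set G)) P) :
    SylIn p (Subgroup.centralizer ({c} : Set G)) P := by
  obtain ⟨S, hS⟩ := exists_sylIn (p := p) (Subgroup.centralizer ({c} : Set G))
  obtain ⟨x, hx, hle⟩ := SylIn.exists_conj_le hS (SylIn.isPGroup h) (h.1.trans inf_le_left)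
  set T := S.map (MulAut.conj x⁻¹).toMonoidHom with hT
  have hTS : SylIn p (Subgroup.centralizer ({c} : Set G)) T := by
    have := SylIn.map_conj hS x⁻¹
    rwa [map_conj_centralizer, show x⁻¹ * c * x⁻¹⁻¹ = c by
      rw [inv_inv, mul_assoc, ← Subgroup.mem_centralizer_singleton_iff.1 hx, ← mul_assoc,
        inv_mul_cancel, one_mul]] at this
  have hPT : P ≤ T := by
    have := Subgroup.map_mono (f := (MulAut.conj x⁻¹).toMonoidHom) hle
    rwa [map_conj_map_conj, inv_mul_cancel, map_conj_one] at this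
  suffices hPeq : P = T by rw [hPeq]; exact hTS
  by_contra hne
  have hlt : P.subgroupOf T < ⊤ := by
    refine lt_top_iff_ne_top.2 fun he => hne (le_antisymm hPT ?_)
    intro t ht
    exact (Subgroup.mem_subgroupOf (H := P) (h := (⟨t, ht⟩ : T))).1 (he ▸ Subgroup.mem_top _)
  haveI := (SylIn.isPGroup hTS).isNilpotent
  obtain ⟨-, t, htN, htP⟩ :=
    SetLike.lt_iff_le_and_exists.1 (Group.normalizerCondition_of_isNilpotent _ hlt)
  -- the subgroup generated by `P` and `t` contradicts maximality
  have htn : (t : G) ∈ Subgroup.normalizer (P : Set G) := by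
    rw [Subgroup.mem_normalizer_iff]
    intro q
    constructor
    · intro hq
      have := (Subgroup.mem_normalizer_iff.1 htN ⟨q, hPT hq⟩).1
        (Subgroup.mem_subgroupOf.2 hq)
      simpa [Subgroup.mem_subgroupOf] using this
    · intro hq
      have hqT : q ∈ T := by
        have := T.mul_mem (T.mul_mem (T.inv_mem t.2) (hPT hq)) t.2
        simpa [mul_assoc] using this
      have := (Subgroup.mem_normalizer_iff.1 htN ⟨q, hqT⟩).2 (by
        simpa [Subgroup.mem_subgroupOf] using hq)
      simpa [Subgroup.mem_subgroupOf] using this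
  have hU : P ⊔ Subgroup.zpowers (t : G) ≤ T := sup_le hPT (Subgroup.zpowers_le.2 t.2)
  have hU' : P ⊔ Subgroup.zpowers (t : G) ≤
      Subgroup.centralizer ({c} : Set G) ⊓ Subgroup.normalizer (P : Set G) :=
    sup_le h.1 (Subgroup.zpowers_le.2 ⟨hTS.1 t.2, htn⟩)
  obtain ⟨k, hk⟩ := IsPGroup.iff_card.1 ((SylIn.isPGroup hTS).to_le hU)
  have hdvd := Subgroup.card_dvd_of_le hU'
  rw [hk, hp.out.pow_dvd_iff_le_factorization Nat.card_pos.ne'] at hdvd
  have heq := Subgroup.eq_of_le_of_card_ge (H := P) (K := P ⊔ Subgroup.zpowers (t : G))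
    le_sup_left (by rw [hk, h.2]; exact Nat.pow_le_pow_right hp.out.pos hdvd)
  exact htP (Subgroup.mem_subgroupOf.2 (heq ▸ Subgroup.mem_sup_right (Subgroup.mem_zpowers _)))

omit hpM in
/-- The part in `C(P)` of a class with Sylow subgroup `P` is one `N(P)`-class. -/
theorem exists_normalizer_conj {P : Subgroup G} {c c' : G}
    (hc : SylIn p (Subgroup.centralizer ({c} : Set G)) P) (h : IsConj c c')
    (hc' : c' ∈ Subgroup.centralizer (P : Set G)) :
    ∃ n ∈ Subgroup.normalizer (P : Set G), n * c * n⁻¹ = c' := by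
  obtain ⟨x, rfl⟩ := isConj_iff.1 h
  have h1 := SylIn.map_conj hc x
  rw [map_conj_centralizer] at h1
  have h2 : SylIn p (Subgroup.centralizer ({x * c * x⁻¹} : Set G)) P :=
    ⟨le_centralizer_singleton.2 hc', by rw [← card_map_conj P x]; exact h1.2⟩
  obtain ⟨y, hy, hyP⟩ := SylIn.exists_map_conj_eq h2 h1
  rw [map_conj_map_conj] at hyP
  refine ⟨y * x, ?_, ?_⟩
  · rw [Subgroup.mem_normalizer_iff]
    intro q
    have hm : (y * x) * q * (y * x)⁻¹ ∈ P ↔
        (y * x) * q * (y * x)⁻¹ ∈ P.map (MulAut.conj (y * x)).toMonoidHom := by rw [hyP]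
    rw [hm, mem_map_conj]
    simp [mul_assoc]
  · rw [Subgroup.mem_centralizer_singleton_iff] at hy
    calc y * x * c * (y * x)⁻¹ = y * (x * c * x⁻¹) * y⁻¹ := by group
      _ = x * c * x⁻¹ := by rw [hy]; group

section Normalizer

variable {D : Subgroup G}

omit hpM in
theorem sylIn_centralizer_normalizer_iff {h : Subgroup.normalizer (D : Set G)} :
    SylIn p (Subgroup.centralizer ({h} : Set (Subgroup.normalizer (D : Set G))))
        (D.subgroupOf (Subgroup.normalizer (D : Set G))) ↔
      SylIn p (Subgroup.centralizer ({(h : G)} : Set G) ⊓ Subgroup.normalizer (D : Set G)) D := by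
  have hmap : (Subgroup.centralizer ({h} : Set (Subgroup.normalizer (D : Set G)))).map
      (Subgroup.normalizer (D : Set G)).subtype =
      Subgroup.centralizer ({(h : G)} : Set G) ⊓ Subgroup.normalizer (D : Set G) := by
    ext x
    constructor
    · rintro ⟨q, hq, rfl⟩
      exact ⟨Subgroup.mem_centralizer_singleton_iff.2
        (congrArg Subtype.val (Subgroup.mem_centralizer_singleton_iff.1 hq)), q.2⟩
    · rintro ⟨hx, hxN⟩
      exact ⟨⟨x, hxN⟩, Subgroup.mem_centralizer_singleton_iff.2
        (Subtype.ext (Subgroup.mem_centralizer_singleton_iff.1 hx)), rfl⟩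
  have hD : (D.subgroupOf (Subgroup.normalizer (D : Set G))).map
      (Subgroup.normalizer (D : Set G)).subtype = D :=
    Subgroup.map_subgroupOf_eq_of_le Subgroup.le_normalizer
  have hcard : Nat.card (D.subgroupOf (Subgroup.normalizer (D : Set G))) = Nat.card D :=
    Nat.card_congr (Subgroup.subgroupOfEquivOfLe Subgroup.le_normalizer).toEquiv
  unfold SylIn
  rw [← hmap, Subgroup.card_map_of_injective (Subgroup.subtype_injective _), hcard]
  refine and_congr_left' ?_
  rw [← Subgroup.map_le_map_iff_of_injective (Subgroup.subtype_injective _), hD]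

/-- On a class with Sylow subgroup `D` the central characters of corresponding blocks agree. -/
theorem IsInducedBlock.centralChar_normalizer (hD : IsPGroup p D)
    {b : Set (IrrCharacter (Subgroup.normalizer (D : Set G)))} {B : Set (IrrCharacter G)}
    (h : IsInducedBlock M (Subgroup.normalizer (D : Set G)) b B)
    {ξ : IrrCharacter (Subgroup.normalizer (D : Set G))} (hξ : ξ ∈ b) {χ : IrrCharacter G}
    (hχ : χ ∈ B) {k : Subgroup.normalizer (D : Set G)}
    (hk : SylIn p (Subgroup.centralizer ({(k : G)} : Set G)) D) :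
    MemLocalIdeal M (centralChar ξ.1 k - centralChar χ.1 (k : G)) := by
  classical
  have hCN : Subgroup.centralizer (D : Set G) ≤ Subgroup.normalizer (D : Set G) :=
    Subgroup.centralizer_le_normalizer _
  have h1 := (isInducedBlock_iff hpM hD hCN le_rfl Subgroup.le_normalizer h.1 h.2.1).1 h ξ hξ χ hχ k
  rwa [← omega_brH_classSum, show brH D (Subgroup.normalizer (D : Set G)) (classSum ℂ (k : G)) =
    classSum ℂ k from alg_ext fun y => ?_, omega_classSum (irr_classFun ξ)] at h1
  rw [coeff_brH, coeff_classSum, coeff_classSum]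
  by_cases hy : IsConj k y
  · rw [if_pos hy]
    obtain ⟨n, rfl⟩ := isConj_iff.1 hy
    rw [if_pos, if_pos]
    · exact Subgroup.subtype _ |>.map_isConj hy
    · push_cast
      exact (conj_mem_centralizer_iff n.2).2 (le_centralizer_singleton.1 hk.1)
  · rw [if_neg hy]
    by_cases hyC : (y : G) ∈ Subgroup.centralizer (D : Set G)
    · rw [if_pos hyC, if_neg]
      intro hc
      obtain ⟨n, hn, hny⟩ := exists_normalizer_conj hk hc hyC
      exact hy (isConj_iff.2 ⟨⟨n, hn⟩, Subtype.ext hny⟩)
    · rw [if_neg hyC]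

theorem subgroupOf_le_defectGroup (hD : IsPGroup p D)
    {b : Set (IrrCharacter (Subgroup.normalizer (D : Set G)))} (hb : IsPBlock M b)
    {E : Subgroup (Subgroup.normalizer (D : Set G))} (hE : IsDefectGroup p M b E) :
    D.subgroupOf (Subgroup.normalizer (D : Set G)) ≤ E := by
  haveI := normal_subgroupOf_of_le_normalizer
    (le_refl (Subgroup.normalizer (D : Set G)))
  exact normal_le_defectGroup hpM hb
    (hD.of_equiv (Subgroup.subgroupOfEquivOfLe Subgroup.le_normalizer).symm) hE

/-- The induced block of a block with defect group `D` has defect group `D`. -/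
theorem IsInducedBlock.isDefectGroup_of_normalizer (hD : IsPGroup p D)
    {b : Set (IrrCharacter (Subgroup.normalizer (D : Set G)))} {B : Set (IrrCharacter G)}
    (h : IsInducedBlock M (Subgroup.normalizer (D : Set G)) b B)
    (hb : IsDefectGroup p M b (D.subgroupOf (Subgroup.normalizer (D : Set G)))) :
    IsDefectGroup p M B D := by
  obtain ⟨E, hE, hle⟩ := IsInducedBlock.exists_defectGroup_ge hpM h hb
  rw [Subgroup.map_subgroupOf_eq_of_le Subgroup.le_normalizer] at hle
  obtain ⟨k, hk, hkD⟩ := isDefectGroup_iff.1 hb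
  have hkG := sylIn_centralizer_of_normalizer (sylIn_centralizer_normalizer_iff.1 hkD)
  obtain ⟨ξ, hξ⟩ := block_nonempty h.1
  obtain ⟨χ, hχ⟩ := block_nonempty h.2.1
  have hu : ¬ MemLocalIdeal M (centralChar χ.1 (k : G)) := fun hI =>
    hk.2.2 ξ hξ (memLocalIdeal_of_sub
      (IsInducedBlock.centralChar_normalizer hpM hD h hξ hχ hkG) hI)
  obtain ⟨e, he, heE⟩ := isDefectGroup_iff.1 hE
  obtain ⟨x, hx⟩ := minmax hpM h.2.1 hχ hu he.2.1 hkG (SylIn.isPGroup heE) heE.1
  have hcard := Subgroup.card_le_of_le hx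
  rw [card_map_conj] at hcard
  rwa [Subgroup.eq_of_le_of_card_ge hle hcard]

/-- At most one block with defect group `D` of the normalizer induces a given block. -/
theorem IsInducedBlock.eq_of_normalizer (hD : IsPGroup p D)
    {b b' : Set (IrrCharacter (Subgroup.normalizer (D : Set G)))} {B : Set (IrrCharacter G)}
    (h : IsInducedBlock M (Subgroup.normalizer (D : Set G)) b B)
    (h' : IsInducedBlock M (Subgroup.normalizer (D : Set G)) b' B)
    (hb : IsDefectGroup p M b (D.subgroupOf (Subgroup.normalizer (D : Set G))))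
    (hb' : IsDefectGroup p M b' (D.subgroupOf (Subgroup.normalizer (D : Set G)))) : b = b' := by
  classical
  haveI := Fintype.ofFinite (ConjClasses (Subgroup.normalizer (D : Set G)))
  obtain ⟨ξ, hξ⟩ := block_nonempty h.1
  obtain ⟨η, hη⟩ := block_nonempty h'.1
  obtain ⟨χ, hχ⟩ := block_nonempty h.2.1
  by_contra hne
  have hηb : η ∉ b := fun hm => hne (block_eq_of_mem h.1 h'.1 hm hη)
  refine not_memLocalIdeal_one (M := M) ?_
  have h1 : omega ξ.1 (blockIdem b) - omega η.1 (blockIdem b) = 1 := by
    rw [omega_blockIdem, omega_blockIdem, if_pos hξ, if_neg hηb, sub_zero]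
  rw [← h1, omega_eq_sum_classes ξ (isCentralElt_blockIdem b),
    omega_eq_sum_classes η (isCentralElt_blockIdem b), ← Finset.sum_sub_distrib]
  refine MemLocalIdeal.sum _ fun C _ => ?_
  rw [← mul_sub, coeff_blockIdem]
  by_cases hc : MemLocalIdeal M (blockCoeff b C.out)
  · exact MemLocalIdeal.mul_right hc
      (MemLocalRing.sub (memLocalRing_centralChar ξ _) (memLocalRing_centralChar η _))
  refine MemLocalIdeal.mul_left (memLocalRing_blockCoeff h.1 _) ?_
  -- the two central characters agree on classes with defect group `D`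
  obtain ⟨k, hk, hkD⟩ := isDefectGroup_iff.1 hb
  by_cases hD' : D.subgroupOf (Subgroup.normalizer (D : Set G)) ≤
      Subgroup.centralizer ({C.out} : Set (Subgroup.normalizer (D : Set G)))
  · have hsyl : SylIn p (Subgroup.centralizer ({C.out} : Set (Subgroup.normalizer (D : Set G))))
        (D.subgroupOf (Subgroup.normalizer (D : Set G))) := by
      obtain ⟨S, hS⟩ := exists_sylIn (p := p)
        (Subgroup.centralizer ({C.out} : Set (Subgroup.normalizer (D : Set G))))
      obtain ⟨x, hx⟩ := minmax hpM h.1 hξ (hk.2.2 ξ hξ) hc hkD (SylIn.isPGroup hS) hS.1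
      refine ⟨hD', le_antisymm ?_ ?_⟩
      · exact Nat.le_of_dvd (pow_pos hp.out.pos _) (by
          obtain ⟨j, hj⟩ := IsPGroup.iff_card.1 (SylIn.isPGroup hkD)
          have := Subgroup.card_dvd_of_le hD'
          rw [hj, hp.out.pow_dvd_iff_le_factorization Nat.card_pos.ne'] at this
          rw [hj]
          exact pow_dvd_pow p this)
      · have := Subgroup.card_le_of_le hx
        rw [card_map_conj, hS.2] at this
        exact this
    have hG := sylIn_centralizer_of_normalizer (sylIn_centralizer_normalizer_iff.1 hsyl)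
    simpa using MemLocalIdeal.sub (IsInducedBlock.centralChar_normalizer hpM hD h hξ hχ hG)
      (IsInducedBlock.centralChar_normalizer hpM hD h' hη hχ hG)
  · haveI := normal_subgroupOf_of_le_normalizer (le_refl (Subgroup.normalizer (D : Set G)))
    have key : ∀ θ : IrrCharacter (Subgroup.normalizer (D : Set G)),
        MemLocalIdeal M (centralChar θ.1 C.out) := by
      intro θ
      by_contra hI
      obtain ⟨x, hx, hxC⟩ := exists_conj_mem_centralizer hpM
        (hD.of_equiv (Subgroup.subgroupOfEquivOfLe Subgroup.le_normalizer).symm) hI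
      obtain ⟨n, rfl⟩ := isConj_iff.1 hx
      refine hD' ?_
      have h2 := Subgroup.map_mono (f := (MulAut.conj n⁻¹).toMonoidHom)
        (le_centralizer_singleton.2 hxC)
      rwa [map_conj_normal, map_conj_centralizer,
        show n⁻¹ * (n * C.out * n⁻¹) * n⁻¹⁻¹ = C.out by group] at h2
    exact MemLocalIdeal.sub (key ξ) (key η)

/-- Existence in Brauer's first main theorem. -/
theorem exists_block_normalizer {B : Set (IrrCharacter G)} (hB : IsPBlock M B)
    (hD : IsDefectGroup p M B D) :
    ∃ b, IsInducedBlock M (Subgroup.normalizer (D : Set G)) b B ∧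
      IsDefectGroup p M b (D.subgroupOf (Subgroup.normalizer (D : Set G))) := by
  have hDp := IsDefectGroup.isPGroup hD
  obtain ⟨b, hb⟩ := (exists_isInducedBlock_iff hpM hDp Subgroup.le_normalizer
    (Subgroup.centralizer_le_normalizer _) le_rfl hB).2
    ⟨D, hD, 1, (map_conj_one D).le⟩
  refine ⟨b, hb, ?_⟩
  obtain ⟨E, hE⟩ := exists_defectGroup (p := p) hb.1
  have hle := subgroupOf_le_defectGroup hpM hDp hb.1 hE
  obtain ⟨E', hE', hEE'⟩ := IsInducedBlock.exists_defectGroup_ge hpM hb hE
  have h1 := Subgroup.card_le_of_le hEE'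
  rw [Subgroup.card_map_of_injective (Subgroup.subtype_injective _),
    card_defectGroup hpM hB hE', ← card_defectGroup hpM hB hD,
    ← Nat.card_congr (Subgroup.subgroupOfEquivOfLe
      (Subgroup.le_normalizer (H := D))).toEquiv] at h1
  rwa [Subgroup.eq_of_le_of_card_ge hle h1]

/-- A defect group is radical. -/
theorem pGroup_le_of_normal_normalizer {B : Set (IrrCharacter G)} (hB : IsPBlock M B)
    (hD : IsDefectGroup p M B D) {R : Subgroup (Subgroup.normalizer (D : Set G))} [R.Normal]
    (hR : IsPGroup p R) : R.map (Subgroup.normalizer (D : Set G)).subtype ≤ D := by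
  obtain ⟨b, hb, hbD⟩ := exists_block_normalizer hpM hB hD
  have h := Subgroup.map_mono (f := (Subgroup.normalizer (D : Set G)).subtype)
    (normal_le_defectGroup hpM hb.1 hR hbD)
  rwa [Subgroup.map_subgroupOf_eq_of_le Subgroup.le_normalizer] at h

end Normalizer

end Cfsg.Agent.Blocks
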