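import Cfsg.Agent.Lib.BlocksX.Count
import Cfsg.Agent.Lib.Blocks.FirstMain
import Cfsg.Agent.Lib.Blocks.PPart

/-!
# The number of blocks with Sylow defect group
-/

set_option linter.style.haveILetI false
set_option linter.unusedSectionVars false

namespace Cfsg.Agent.Blocks

open Cfsg MonoidAlgebra

universe u

variable {G : Type u} [Group G] [Finite G] {M : Ideal AlgInt} [M.IsMaximal]
variable {p : ℕ} [hp : Fact p.Prime]

theorem le_of_isPGroup_of_normal_sylow {Q : Subgroup G} [Q.Normal] (hQi : ¬ p ∣ Q.index)
    {S : Subgroup G} (hS : IsPGroup p S) : S ≤ Q := by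
  intro s hs
  obtain ⟨k, hk⟩ := IsPGroup.iff_orderOf.1 hS ⟨s, hs⟩
  rw [← Subgroup.orderOf_coe] at hk
  refine (QuotientGroup.eq_one_iff s).1 (eq_one_of_orderOf_dvd_coprime (a := p ^ k) (b := Q.index)
    ?_ (orderOf_dvd_natCard _) (Nat.Coprime.pow_left _ ((Nat.Prime.coprime_iff_not_dvd hp.out).2 hQi)))
  exact hk ▸ orderOf_map_dvd (QuotientGroup.mk' Q) s

theorem card_of_normal_sylow {Q : Subgroup G} (hQ : IsPGroup p Q) (hQi : ¬ p ∣ Q.index) :
    Nat.card Q = p ^ (Nat.card G).factorization p := by
  obtain ⟨n, hn⟩ := IsPGroup.iff_card.1 hQ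
  rw [← Subgroup.card_mul_index Q, Nat.factorization_mul Nat.card_pos.ne'
    Subgroup.index_ne_zero_of_finite, Finsupp.add_apply, Nat.factorization_eq_zero_of_not_dvd hQi,
    hn, hp.out.factorization_pow, Finsupp.single_eq_same, add_zero]

theorem centralChar_class_out (χ : IrrCharacter G) (g : G) :
    centralChar χ.1 (ConjClasses.mk g).out = centralChar χ.1 g :=
  centralChar_of_isConj χ (ConjClasses.mk_eq_mk_iff_isConj.1 (Quotient.out_eq _).symm)

variable (hpM : (p : AlgInt) ∈ M) {Q : Subgroup G} [Q.Normal]
include hpM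

theorem blockDefect_eq_of_normal_sylow (hQ : IsPGroup p Q) (hQi : ¬ p ∣ Q.index)
    {B : Set (IrrCharacter G)} (hB : IsPBlock M B) :
    blockDefect p B = (Nat.card G).factorization p := by
  obtain ⟨D, hD⟩ := exists_defectGroup (p := p) hB
  have h1 := normal_le_defectGroup hpM hB hQ hD
  have h2 := le_of_isPGroup_of_normal_sylow hQi (IsDefectGroup.isPGroup hD)
  have h3 := card_defectGroup hpM hB hD
  rw [le_antisymm h2 h1, card_of_normal_sylow hQ hQi] at h3
  exact Nat.pow_right_injective hp.out.two_le h3.symm

omit hpM in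
theorem goodClass_iff (hQ : IsPGroup p Q) (hQi : ¬ p ∣ Q.index) (C : ConjClasses G) :
    (∃ g : G, ConjClasses.mk g = C ∧ IsPRegular p g ∧
      (Nat.card G).factorization p ≤
        (Nat.card (Subgroup.centralizer ({g} : Set G))).factorization p) ↔
    ∀ n : G, ConjClasses.mk n = C → IsPRegular p n ∧ n ∈ Subgroup.centralizer (Q : Set G) := by
  constructor
  · rintro ⟨g, rfl, hg, hd⟩ n hn
    obtain ⟨c, rfl⟩ := isConj_iff.1 (ConjClasses.mk_eq_mk_iff_isConj.1 hn.symm)
    have hgC : g ∈ Subgroup.centralizer (Q : Set G) := by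
      obtain ⟨S, hS⟩ := exists_sylIn (p := p) (Subgroup.centralizer ({g} : Set G))
      refine le_centralizer_singleton.1 ?_
      have h1 := le_of_isPGroup_of_normal_sylow hQi (SylIn.isPGroup hS)
      rw [← Subgroup.eq_of_le_of_card_ge h1 (by
        rw [hS.2, card_of_normal_sylow hQ hQi]; exact Nat.pow_le_pow_right hp.out.pos hd)]
      exact hS.1
    refine ⟨?_, (conj_mem_centralizer_iff (Q.normalizer_eq_top ▸ Subgroup.mem_top c)).2 hgC⟩
    rw [IsPRegular, show c * g * c⁻¹ = MulAut.conj c g from rfl, MulEquiv.orderOf_eq]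
    exact hg
  · intro h
    obtain ⟨g, rfl⟩ := ConjClasses.exists_rep C
    obtain ⟨hg, hgC⟩ := h g rfl
    refine ⟨g, rfl, hg, ?_⟩
    have h1 : Nat.card Q ∣ Nat.card (Subgroup.centralizer ({g} : Set G)) :=
      Subgroup.card_dvd_of_le (le_centralizer_singleton.2 hgC)
    rw [card_of_normal_sylow hQ hQi] at h1
    exact (hp.out.pow_dvd_iff_le_factorization Nat.card_pos.ne').1 h1

/-- With a normal Sylow subgroup `Q`: blocks correspond to regular classes in `C(Q)`. -/
theorem card_blocks_of_normal_sylow (hQ : IsPGroup p Q) (hQi : ¬ p ∣ Q.index) :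
    Nat.card {B : Set (IrrCharacter G) // IsPBlock M B} =
      Nat.card {C : ConjClasses G //
        ∀ n : G, ConjClasses.mk n = C → IsPRegular p n ∧ n ∈ Subgroup.centralizer (Q : Set G)} := by
  classical
  refine le_antisymm ?_ ?_
  · have h := BlocksX.card_blocks_le (G := G) hpM ((Nat.card G).factorization p)
    rwa [Nat.card_congr (Equiv.subtypeEquivRight (goodClass_iff hQ hQi)),
      Nat.card_congr (Equiv.subtypeEquivRight fun B : Set (IrrCharacter G) =>
        (and_iff_left_of_imp fun hB => (blockDefect_eq_of_normal_sylow hpM hQ hQi hB).ge :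
          IsPBlock M B ∧ (Nat.card G).factorization p ≤ blockDefect p B ↔ IsPBlock M B))] at h
  · haveI := Fintype.ofFinite G
    haveI := Fintype.ofFinite (ConjClasses G)
    haveI := Fintype.ofFinite {B : Set (IrrCharacter G) // IsPBlock M B}
    haveI : Field (AlgInt ⧸ M) := Ideal.Quotient.field M
    haveI := charP_residue hpM
    set Good : G → Prop := fun n => IsPRegular p n ∧ n ∈ Subgroup.centralizer (Q : Set G)
    let T := {C : ConjClasses G // ∀ n : G, ConjClasses.mk n = C → Good n}
    let w : T → ({B : Set (IrrCharacter G) // IsPBlock M B} → AlgInt ⧸ M) :=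
      fun C B => red M (centralChar (block_nonempty B.2).some.1 C.1.out)
    have hli : LinearIndependent (AlgInt ⧸ M) w := by
      rw [Fintype.linearIndependent_iff]
      intro a ha C₀
      choose l hl using fun C : T => red_surjective (M := M) (a C)
      let f : ConjClasses G → ℂ := fun C =>
        if h : ∀ n : G, ConjClasses.mk n = C → Good n then (l ⟨C, h⟩ : ℂ) else 0
      have hfS : ∀ C, MemLocalRing M (f C) := fun C => by
        simp only [f]
        split_ifs <;> [exact memLocalRing_coe _; exact memLocalRing_zero]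
      set z : MonoidAlgebra ℂ G := ofFun fun g => f (ConjClasses.mk g) with hz
      have hzc : IsCentralElt z := isCentralElt_ofFun fun g h => by
        rw [show ConjClasses.mk (h * g * h⁻¹) = ConjClasses.mk g from
          ConjClasses.mk_eq_mk_iff_isConj.2 (isConj_iff.2 ⟨h⁻¹, by group⟩)]
      have hzS : SCoeff M z := fun g => by simp only [hz, coeff_ofFun]; exact hfS _
      have hom : ∀ ψ : IrrCharacter G, MemLocalIdeal M (omega ψ.1 z) := by
        intro ψ
        rw [← red_eq_zero_iff (memLocalRing_omega ψ hzc hzS), omega_eq_sum_classes ψ hzc,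
          red_sum Finset.univ (f := fun C : ConjClasses G => z.coeff C.out * centralChar ψ.1 C.out)
            fun C _ => MemLocalRing.mul (hzS _) (memLocalRing_centralChar ψ _)]
        have := congrFun ha ⟨_, isPBlock_blockOf ψ⟩
        simp only [Finset.sum_apply, Pi.smul_apply, smul_eq_mul, Pi.zero_apply] at this
        rw [← this, ← Finset.sum_subset (Finset.subset_univ
          (Finset.univ.filter fun C : ConjClasses G => ∀ n : G, ConjClasses.mk n = C → Good n))]
        · rw [Finset.sum_subtype _ (p := fun C : ConjClasses G => ∀ n : G, ConjClasses.mk n = C → Good n)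
            (by simp)]
          refine Finset.sum_congr rfl fun C _ => ?_
          simp only [w]
          rw [red_mul (hzS _) (memLocalRing_centralChar ψ _)]
          congr 1
          · simp only [hz, coeff_ofFun, f]
            rw [show ConjClasses.mk C.1.out = C.1 from Quotient.out_eq _, dif_pos C.2]
            exact hl ⟨C.1, C.2⟩
          · exact (red_eq_iff (memLocalRing_centralChar ψ _) (memLocalRing_centralChar _ _)).2
              (sameBlock_of_mem (isPBlock_blockOf ψ) (mem_blockOf_self ψ)
                (block_nonempty (isPBlock_blockOf (M := M) ψ)).some_mem _)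
        · intro C _ hC
          rw [hz, coeff_ofFun]
          simp only [f]
          rw [show ConjClasses.mk C.out = C from Quotient.out_eq _,
            dif_neg (fun h => hC (Finset.mem_filter.2 ⟨Finset.mem_univ _, h⟩)), zero_mul, red_zero]
      have hnil := mcoeff_pow_of_omega hzc hzS hom
      rw [← redA_eq_zero_iff (SCoeff.pow hzS _), redA_pow hzS] at hnil
      obtain ⟨g, hg⟩ := ConjClasses.exists_rep C₀.1
      obtain ⟨hgr, hgC⟩ := C₀.2 g hg
      set n := Fintype.card (IrrCharacter G)
      have hzq : redA M z ^ p ^ n = 0 := by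
        rw [← Nat.add_sub_cancel' (Nat.lt_pow_self (n := n) hp.out.one_lt).le, pow_add, hnil,
          zero_mul]
      have key := sum_pow_prime_pow (p := p) (redA M z * MonoidAlgebra.single g⁻¹ 1) n
        (φ := fun h => if h = 1 then 1 else 0) (fun a b => by simp only [conj_eq_one_iff])
      rw [(IsCentralElt.commute (isCentralElt_redA hzc) _).mul_pow, hzq, zero_mul] at key
      simp only [MonoidAlgebra.coeff_zero, Finsupp.coe_zero, Pi.zero_apply, zero_mul,
        Finset.sum_const_zero] at key
      rw [Finset.sum_eq_single (1 : G)] at key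
      · simp only [one_pow, if_true, mul_one, coeff_mul_single', inv_inv, one_mul, coeff_redA, hz,
          coeff_ofFun, f, hg] at key
        have key' := eq_zero_of_pow_eq_zero key.symm
        rw [dif_pos C₀.2] at key'
        rw [← hl C₀]
        exact key'
      · intro h _ hh
        by_cases hq : h ^ p ^ n = 1
        swap
        · rw [if_neg hq, mul_zero]
        rw [coeff_mul_single', inv_inv, mul_one, coeff_redA, hz, coeff_ofFun]
        simp only [f]
        split_ifs with hgood
        · exfalso
          obtain ⟨hr, hC⟩ := hgood (h * g) rfl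
          have hhC : h ∈ Subgroup.centralizer (Q : Set G) := by
            have := Subgroup.mul_mem _ hC (Subgroup.inv_mem _ hgC)
            rwa [mul_inv_cancel_right] at this
          obtain ⟨k, -, hk⟩ := (Nat.dvd_prime_pow hp.out).1 (orderOf_dvd_of_pow_eq_one hq)
          have hhQ : h ∈ Q := le_of_isPGroup_of_normal_sylow hQi
            (IsPGroup.of_card (n := k) (by rw [Nat.card_zpowers, hk]))
            (Subgroup.mem_zpowers h)
          have hcomm : Commute g h := (hgC h hhQ).symm
          exact hh ((isPRegular_mul_iff hcomm hgr ⟨k, hk⟩).1 (hcomm.eq ▸ hr))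
        · rw [red_zero, zero_pow (pow_ne_zero n hp.out.ne_zero), zero_mul]
      · simp
    have h := hli.fintype_card_le_finrank
    rwa [Module.finrank_pi, ← Nat.card_eq_fintype_card, ← Nat.card_eq_fintype_card] at h

/-- The blocks with defect group `P` Sylow correspond to those of the normalizer. -/
theorem card_blocks_sylow (P : Sylow p G) :
    Nat.card {B : Set (IrrCharacter G) // IsPBlock M B ∧ IsDefectGroup p M B (P : Subgroup G)} =
      Nat.card {C : ConjClasses (Subgroup.normalizer ((P : Subgroup G) : Set G)) //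
        ∀ n : Subgroup.normalizer ((P : Subgroup G) : Set G), ConjClasses.mk n = C →
          ¬ p ∣ orderOf n ∧ (n : G) ∈ Subgroup.centralizer ((P : Subgroup G) : Set G)} := by
  classical
  have hPN : (P : Subgroup G) ≤ Subgroup.normalizer ((P : Subgroup G) : Set G) := Subgroup.le_normalizer
  haveI := normal_subgroupOf_of_le_normalizer
    (le_refl (Subgroup.normalizer ((P : Subgroup G) : Set G)))
  have hQ : IsPGroup p ((P : Subgroup G).subgroupOf (Subgroup.normalizer ((P : Subgroup G) : Set G))) :=
    P.isPGroup'.of_equiv (Subgroup.subgroupOfEquivOfLe hPN).symm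
  have hQi : ¬ p ∣
      ((P : Subgroup G).subgroupOf (Subgroup.normalizer ((P : Subgroup G) : Set G))).index :=
    fun h => P.not_dvd_index (h.trans (Subgroup.relIndex_dvd_index_of_le hPN))
  have hdef : ∀ b, IsPBlock M b → IsDefectGroup p M b
      ((P : Subgroup G).subgroupOf (Subgroup.normalizer ((P : Subgroup G) : Set G))) := by
    intro b hb
    obtain ⟨D, hD⟩ := exists_defectGroup (p := p) hb
    rwa [le_antisymm (le_of_isPGroup_of_normal_sylow hQi (IsDefectGroup.isPGroup hD))
      (normal_le_defectGroup hpM hb hQ hD)] at hD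
  choose ind hind using fun b : {b // IsPBlock M b} =>
    inducedBlockDefined_of_le hpM P.isPGroup' (Subgroup.centralizer_le_normalizer _) le_rfl hPN b.2
  have hbij : Function.Bijective (fun b : {b // IsPBlock M b} =>
      (⟨ind b, (hind b).2.1, IsInducedBlock.isDefectGroup_of_normalizer hpM P.isPGroup' (hind b)
        (hdef b.1 b.2)⟩ :
        {B : Set (IrrCharacter G) // IsPBlock M B ∧ IsDefectGroup p M B (P : Subgroup G)})) := by
    refine ⟨fun b b' h => Subtype.ext ?_, fun B => ?_⟩
    · have h' : ind b = ind b' := congrArg Subtype.val h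
      exact IsInducedBlock.eq_of_normalizer hpM P.isPGroup' (hind b) (h' ▸ hind b') (hdef _ b.2)
        (hdef _ b'.2)
    · obtain ⟨b, hb, -⟩ := exists_block_normalizer hpM B.2.1 B.2.2
      exact ⟨⟨b, hb.1⟩, Subtype.ext (IsInducedBlock.unique (hind _) hb)⟩
  rw [← Nat.card_congr (Equiv.ofBijective _ hbij), card_blocks_of_normal_sylow hpM hQ hQi]
  refine Nat.card_congr (Equiv.subtypeEquivRight fun C => forall_congr' fun n =>
    imp_congr_right fun _ => and_congr Iff.rfl ?_)
  exact ⟨fun h q hq => congrArg Subtype.val (h ⟨q, hPN hq⟩ hq),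
    fun h q hq => Subtype.ext (h q hq)⟩

end Cfsg.Agent.Blocks
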