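import Cfsg.Agent.Lib.Blocks.GroupAlgebra
import Mathlib.LinearAlgebra.Matrix.Rank
import Mathlib.LinearAlgebra.Matrix.Trace
import Mathlib.LinearAlgebra.Trace
import Mathlib.LinearAlgebra.Projection
import Mathlib.FieldTheory.IsAlgClosed.Basic
import Mathlib.Algebra.Polynomial.Lifts
import Mathlib.Analysis.Complex.Polynomial.Basic

/-!
# Reduction modulo `M`: the residue field is algebraically closed; ranks under reduction

* `isAlgClosed_residue`
* `redHom`, `rank_map_redHom_le`, `rank_map_redHom_of_isIdempotentElem`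
-/

namespace Cfsg.Agent.Blocks

open Cfsg

set_option linter.style.haveILetI false

variable {M : Ideal AlgInt} [M.IsMaximal]

open Polynomial in
theorem isAlgClosed_residue : IsAlgClosed (AlgInt ⧸ M) := by
  refine IsAlgClosed.of_exists_root _ fun q hq hirr => ?_
  obtain ⟨Q, hQ, hdeg, hmon⟩ := lifts_and_natDegree_eq_and_monic
    (show q ∈ lifts (Ideal.Quotient.mk M) from
      (lifts_iff_coeff_lifts q).2 fun n => Ideal.Quotient.mk_surjective (q.coeff n)) hq
  have hd : (Q.map (algebraMap AlgInt ℂ)).degree ≠ 0 := by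
    rw [hmon.degree_map, degree_eq_natDegree hmon.ne_zero, hdeg]
    exact_mod_cast hirr.natDegree_pos.ne'
  obtain ⟨z, hz⟩ := IsAlgClosed.exists_root _ hd
  rw [IsRoot, eval_map] at hz
  have hzi : IsIntegral ℤ z := isIntegral_trans (R := ℤ) (A := AlgInt) z ⟨Q, hmon, hz⟩
  refine ⟨Ideal.Quotient.mk M (algIntMk z hzi), ?_⟩
  have h0 : Q.eval (algIntMk z hzi) = 0 := by
    apply Subtype.val_injective
    show algebraMap AlgInt ℂ (Q.eval (algIntMk z hzi)) = _
    rw [← eval₂_at_apply]
    exact hz
  rw [← hQ, eval_map, eval₂_at_apply, h0, map_zero]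

variable (M) in
/-- Reduction modulo `M` as a ring homomorphism on the local ring. -/
noncomputable def redHom : localInt M →+* AlgInt ⧸ M where
  toFun z := red M z.1
  map_one' := red_one
  map_mul' a b := red_mul a.2 b.2
  map_zero' := red_zero
  map_add' a b := red_add a.2 b.2

@[simp] theorem redHom_apply (z : localInt M) : redHom M z = red M z.1 := rfl

theorem redHom_surjective : Function.Surjective (redHom M) := fun x => by
  obtain ⟨a, ha⟩ := red_surjective x
  exact ⟨⟨a, memLocalRing_coe a⟩, ha⟩

variable {ι κ : Type*} [Fintype ι] [Fintype κ] [DecidableEq κ]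

/-- The rank cannot increase under reduction. -/
theorem rank_map_redHom_le (N : Matrix ι κ (localInt M)) :
    (N.map (redHom M)).rank ≤ (N.map (localInt M).subtype).rank := by
  classical
  set Nb := N.map (redHom M)
  set b := Module.finBasis (AlgInt ⧸ M) (LinearMap.range Nb.mulVecLin)
  have hb : ∀ i, ∃ v, Nb.mulVecLin v = (b i).1 := fun i => LinearMap.mem_range.1 (b i).2
  choose v hv using hb
  obtain ⟨L, hL⟩ := LinearMap.exists_leftInverse_of_injective
    ((LinearMap.range Nb.mulVecLin).subtype ∘ₗ b.equivFun.symm.toLinearMap)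
    (LinearMap.ker_eq_bot.2 (Subtype.val_injective.comp b.equivFun.symm.injective))
  set P := LinearMap.toMatrix' L
  set Q : Matrix κ (Fin (Module.finrank (AlgInt ⧸ M) (LinearMap.range Nb.mulVecLin))) (AlgInt ⧸ M) := Matrix.of fun j i => v i j
  have hPQ : P * Nb * Q = 1 := by
    refine Matrix.ext_of_mulVec_single fun i => ?_
    rw [Matrix.one_mulVec, ← Matrix.mulVec_mulVec, ← Matrix.mulVec_mulVec,
      show Q.mulVec (Pi.single i 1) = v i by ext j; simp [Q],
      LinearMap.toMatrix'_mulVec, ← Matrix.mulVecLin_apply, hv]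
    exact Eq.trans (congrArg L (by simp [Finsupp.single_apply])) (LinearMap.congr_fun hL (Pi.single i 1))
  choose s hs using redHom_surjective (M := M)
  set P' := P.map s
  set Q' := Q.map s
  have hmap : (P' * N * Q').map (redHom M) = 1 := by
    rw [Matrix.map_mul, Matrix.map_mul, ← hPQ]
    congr 1
    · congr 1
      ext i j; exact hs _
    · ext i j; exact hs _
  have hunit : IsUnit ((P' * N * Q').map (localInt M).subtype) := by
    rw [Matrix.isUnit_iff_isUnit_det, isUnit_iff_ne_zero, ← RingHom.mapMatrix_apply, ← RingHom.map_det]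
    intro h0
    have h0' : (P' * N * Q').det = 0 := Subtype.val_injective h0
    have h1 : redHom M (P' * N * Q').det = 1 := by
      rw [RingHom.map_det, RingHom.mapMatrix_apply, hmap, Matrix.det_one]
    rw [h0', map_zero] at h1
    exact zero_ne_one h1
  have h := Matrix.rank_of_isUnit _ hunit
  rw [Fintype.card_fin, Matrix.map_mul, Matrix.map_mul] at h
  rw [show Nb.rank = Module.finrank (AlgInt ⧸ M) (LinearMap.range Nb.mulVecLin) from rfl]
  exact h.symm.le.trans ((Matrix.rank_mul_le_left _ _).trans (Matrix.rank_mul_le_right _ _))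

theorem rank_add_rank_one_sub {k : Type*} [Field k] {E : Matrix κ κ k} (hE : IsIdempotentElem E) :
    E.rank + (1 - E).rank = Fintype.card κ := by
  have hf : IsIdempotentElem E.mulVecLin := by
    show E.mulVecLin * E.mulVecLin = E.mulVecLin
    rw [Module.End.mul_eq_comp, ← Matrix.mulVecLin_mul, hE.eq]
  have hker : LinearMap.range (1 - E).mulVecLin = LinearMap.ker E.mulVecLin := by
    ext x
    simp only [LinearMap.mem_range, LinearMap.mem_ker, Matrix.mulVecLin_apply]
    refine ⟨?_, fun h => ⟨x, by simp [Matrix.sub_mulVec, h]⟩⟩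
    rintro ⟨y, rfl⟩
    rw [Matrix.mulVec_mulVec, mul_sub, mul_one, hE.eq, sub_self, Matrix.zero_mulVec]
  rw [Matrix.rank, Matrix.rank, hker, LinearMap.finrank_range_add_finrank_ker,
    Module.finrank_fintype_fun_eq_card]

theorem rank_map_redHom_of_isIdempotentElem {E : Matrix κ κ (localInt M)}
    (hE : IsIdempotentElem E) :
    (E.map (redHom M)).rank = (E.map (localInt M).subtype).rank := by
  have h1 := rank_map_redHom_le E
  have h2 := rank_map_redHom_le (1 - E)
  have e1 := rank_add_rank_one_sub (hE.map (redHom M).mapMatrix)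
  have e2 := rank_add_rank_one_sub (hE.map (localInt M).subtype.mapMatrix)
  rw [← map_one ((redHom M).mapMatrix), ← map_sub] at e1
  rw [← map_one ((localInt M).subtype.mapMatrix), ← map_sub] at e2
  simp only [RingHom.mapMatrix_apply] at e1 e2
  omega

/-- The rank of a complex idempotent matrix is its trace. -/
theorem rank_eq_trace {E : Matrix κ κ ℂ} (hE : IsIdempotentElem E) : (E.rank : ℂ) = E.trace := by
  have hf : IsIdempotentElem (Matrix.toLin' E) := by
    show Matrix.toLin' E * Matrix.toLin' E = Matrix.toLin' E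
    rw [Module.End.mul_eq_comp, ← Matrix.toLin'_mul, hE.eq]
  have h := (LinearMap.IsIdempotentElem.isProj_range _ hf).trace
  rw [LinearMap.trace_eq_matrix_trace ℂ (Pi.basisFun ℂ κ), LinearMap.toMatrix_eq_toMatrix',
    LinearMap.toMatrix'_toLin'] at h
  exact h.symm

end Cfsg.Agent.Blocks
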