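import Cfsg.Agent.Lib.Blocks.GroupAlgebra
import Mathlib.RingTheory.Noetherian.Defs
import Mathlib.Algebra.BigOperators.Fin
import Mathlib.Data.List.OfFn

/-!
# Nilpotency modulo `p` and the necklace congruences

* a central element vanishing on the centralizer of a normal `p`-subgroup is nilpotent in
  characteristic `p`;
* `p`-power powers in a group algebra, evaluated on class functions, see only constant words;
* an element fixed by arbitrarily large `p`-power powers has exact zero sum against class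
  functions supported on `p`-singular elements.
-/

set_option linter.style.haveILetI false
set_option linter.unusedSectionVars false

namespace Cfsg.Agent.Blocks

open Cfsg MonoidAlgebra

section Fixed

variable {p : ℕ} [hp : Fact p.Prime] {G : Type*} [Group G] [Finite G] {F : Type*} [Field F]
  [CharP F p]

/-- A nonzero submodule stable under a `p`-subgroup contains a nonzero fixed vector. -/
theorem exists_fixed_ne_zero (Q : Subgroup G) (hQ : IsPGroup p Q)
    (W : Submodule F (MonoidAlgebra F G))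
    (hW : ∀ q ∈ Q, ∀ x ∈ W, MonoidAlgebra.single q 1 * x ∈ W) (hne : W ≠ ⊥) :
    ∃ x ∈ W, x ≠ 0 ∧ ∀ q ∈ Q, MonoidAlgebra.single q 1 * x = x := by
  classical
  obtain ⟨v, hvW, hv⟩ := (Submodule.ne_bot_iff W).1 hne
  haveI := Fintype.ofFinite Q
  let φ : (Q → ZMod p) →+ MonoidAlgebra F G :=
    { toFun := fun c => ∑ q : Q,
        (ZMod.castHom (dvd_refl p) F (c q)) • (MonoidAlgebra.single (q : G) (1 : F) * v)
      map_zero' := by simp
      map_add' := fun c d => by simp [add_smul, Finset.sum_add_distrib] }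
  have hφdef : ∀ c, φ c = ∑ q : Q,
      (ZMod.castHom (dvd_refl p) F (c q)) • (MonoidAlgebra.single (q : G) (1 : F) * v) :=
    fun c => rfl
  clear_value φ
  have hshift : ∀ (q : Q) (x : MonoidAlgebra F G), x ∈ φ.range →
      MonoidAlgebra.single (q : G) (1 : F) * x ∈ φ.range := by
    rintro q _ ⟨c, rfl⟩
    refine ⟨fun r => c (q⁻¹ * r), ?_⟩
    rw [hφdef, hφdef, Finset.mul_sum]
    exact Fintype.sum_equiv (Equiv.mulLeft q⁻¹) _ _ fun r => by
      simp [← mul_assoc, MonoidAlgebra.single_mul_single]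
  letI act : MulAction Q φ.range :=
    { smul := fun q x => ⟨MonoidAlgebra.single (q : G) 1 * x.1, hshift q x.1 x.2⟩
      one_smul := fun x => Subtype.ext (by
        show MonoidAlgebra.single ((1 : Q) : G) (1 : F) * x.1 = x.1
        rw [Subgroup.coe_one, ← MonoidAlgebra.one_def, one_mul])
      mul_smul := fun q r x => Subtype.ext (by
        show MonoidAlgebra.single ((q * r : Q) : G) (1 : F) * x.1 = _ * (_ * x.1)
        rw [← mul_assoc, MonoidAlgebra.single_mul_single, one_mul, Subgroup.coe_mul]) }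
  have hvr : v ∈ φ.range := by
    refine ⟨Pi.single 1 1, ?_⟩
    rw [hφdef, Finset.sum_eq_single 1 (fun b _ hb => by
      rw [Pi.single_eq_of_ne hb, map_zero, zero_smul]) (fun h => absurd (Finset.mem_univ _) h)]
    simp [← MonoidAlgebra.one_def]
  haveI : Finite φ.range := Finite.of_surjective φ.rangeRestrict φ.rangeRestrict_surjective
  have hpd : p ∣ Nat.card φ.range := by
    have hd := AddSubgroup.card_range_dvd φ
    rw [Nat.card_fun, Nat.card_zmod] at hd
    obtain ⟨j, -, hj⟩ := (Nat.dvd_prime_pow hp.out).1 hd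
    rw [hj]
    refine dvd_pow_self p fun hj0 => ?_
    rw [hj0, pow_zero] at hj
    haveI := (Nat.card_eq_one_iff_unique.1 hj).1
    exact hv (congrArg Subtype.val (Subsingleton.elim (⟨v, hvr⟩ : φ.range) 0))
  have h0 : (0 : φ.range) ∈ MulAction.fixedPoints Q φ.range := fun q => Subtype.ext (by
    show MonoidAlgebra.single (q : G) (1 : F) * 0 = 0
    rw [mul_zero])
  obtain ⟨⟨x, c, hc⟩, hx, hne'⟩ := hQ.exists_fixed_point_of_prime_dvd_card_of_fixed_point _ hpd h0
  refine ⟨x, ?_, fun h => hne' (Subtype.ext h.symm),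
    fun q hq => congrArg Subtype.val (hx ⟨q, hq⟩)⟩
  rw [← hc, hφdef]
  exact Submodule.sum_mem _ fun q _ => Submodule.smul_mem _ _ (hW q q.2 v hvW)

theorem nsmul_charP_eq_zero (x : MonoidAlgebra F G) : p • x = 0 := by
  rw [← Nat.cast_smul_eq_nsmul F, CharP.cast_eq_zero, zero_smul]

/-- A central element vanishing on the centralizer of a normal `p`-subgroup is nilpotent. -/
theorem isNilpotent_of_central (Q : Subgroup G) [hQn : Q.Normal] (hQ : IsPGroup p Q)
    {z : MonoidAlgebra F G} (hz : IsCentralElt z)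
    (h : ∀ x ∈ Subgroup.centralizer (Q : Set G), z.coeff x = 0) : IsNilpotent z := by
  classical
  haveI := Fintype.ofFinite G
  haveI : Module.Finite F (MonoidAlgebra F G) :=
    Module.Finite.of_surjective (∑ x : G, (LinearMap.proj (R := F) (φ := fun _ : G => F) x).smulRight
      (MonoidAlgebra.single x (1 : F))) fun z => ⟨fun x => z.coeff x, by
        conv_rhs => rw [eq_sum_single z]
        simp [MonoidAlgebra.smul_single]⟩
  obtain ⟨n, hn⟩ := Filter.eventually_atTop.1
    (Module.End.eventually_disjoint_ker_pow_range_pow (LinearMap.mulLeft F z))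
  have hdis := hn (n + 1) (Nat.le_succ n)
  refine ⟨n + 1, ?_⟩
  by_contra hne
  have hpow : ∀ y, ((LinearMap.mulLeft F z) ^ (n + 1)) y = z ^ (n + 1) * y := by
    intro y
    rw [LinearMap.pow_mulLeft]
    rfl
  obtain ⟨x, ⟨y, hy⟩, hx0, hxQ⟩ := exists_fixed_ne_zero Q hQ
    (LinearMap.range ((LinearMap.mulLeft F z) ^ (n + 1)))
    (fun q _ x => by
      rintro ⟨y, rfl⟩
      refine ⟨MonoidAlgebra.single q 1 * y, ?_⟩
      rw [hpow, hpow, ← mul_assoc, ← mul_assoc, ((IsCentralElt.pow hz _).commute _).eq])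
    (by
      refine (Submodule.ne_bot_iff _).2 ⟨z ^ (n + 1), ⟨1, ?_⟩, hne⟩
      rw [hpow, mul_one])
  refine hx0 (Submodule.disjoint_def.1 hdis x ?_ ⟨y, hy⟩)
  rw [LinearMap.mem_ker, hpow, pow_succ, mul_assoc]
  suffices z * x = 0 by rw [this, mul_zero]
  conv_lhs => rw [eq_sum_single z, Finset.sum_mul]
  letI act : MulAction Q G := MulAction.compHom G ((MulAut.conj (G := G)).comp Q.subtype)
  have hsmul : ∀ (q : Q) (g : G), q • g = (q : G) * g * (q : G)⁻¹ := fun q g => rfl
  rw [sum_eq_sum_fixedPoints hQ nsmul_charP_eq_zero]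
  · refine Finset.sum_eq_zero fun g hg => ?_
    rw [h g ?_, MonoidAlgebra.single_zero, zero_mul]
    rw [Subgroup.mem_centralizer_iff]
    intro q hq
    have := (Finset.mem_filter.1 hg).2 ⟨q, hq⟩
    rw [hsmul, mul_inv_eq_iff_eq_mul] at this
    exact this
  · intro q g
    rw [hsmul, hz g q]
    have h1 := hxQ q q.2
    have h2 := hxQ (g⁻¹ * q * g) (by simpa using hQn.conj_mem q q.2 g⁻¹)
    calc MonoidAlgebra.single ((q : G) * g * (q : G)⁻¹) (z.coeff g) * x
        = MonoidAlgebra.single ((q : G) * g * (q : G)⁻¹) (z.coeff g) *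
            (MonoidAlgebra.single (q : G) 1 * x) := by rw [h1]
      _ = MonoidAlgebra.single g (z.coeff g) *
            (MonoidAlgebra.single (g⁻¹ * q * g) 1 * x) := by
        simp only [← mul_assoc, MonoidAlgebra.single_mul_single, mul_one, inv_mul_cancel_right]
        congr 2
        group
      _ = MonoidAlgebra.single g (z.coeff g) * x := by rw [h2]

end Fixed

section Necklace

variable {p : ℕ} [hp : Fact p.Prime] {H : Type*} [Group H] {M : Ideal AlgInt}

/-- An invariant function whose nonzero values sit on orbits of size divisible by `p ^ m`. -/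
theorem memLocalRing_sum_div_pow [M.IsPrime] {A : Type*} [Group A] [Finite A] {α : Type*}
    [Fintype α] [MulAction A α] (f : α → ℂ) (hS : ∀ a, MemLocalRing M (f a))
    (hinv : ∀ (q : A) (a : α), f (q • a) = f a) (m : ℕ)
    (hd : ∀ a, f a ≠ 0 → p ^ m ∣ Nat.card (MulAction.orbit A a)) :
    MemLocalRing M ((∑ a, f a) / (p : ℂ) ^ m) := by
  classical
  rw [← Finset.sum_fiberwise Finset.univ
    (fun a => (Quotient.mk'' a : MulAction.orbitRel.Quotient A α)) f, div_eq_mul_inv, Finset.sum_mul]
  simp only [← div_eq_mul_inv]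
  refine MemLocalRing.sum _ fun C _ => ?_
  induction C using Quotient.inductionOn' with | _ b => ?_
  have hset : (Finset.univ.filter fun a => (Quotient.mk'' a : MulAction.orbitRel.Quotient A α) =
      Quotient.mk'' b) = (MulAction.orbit A b).toFinset := by
    ext a
    simp only [Finset.mem_filter, Finset.mem_univ, true_and, Set.mem_toFinset, Quotient.eq'']
    rfl
  rw [hset, Finset.sum_congr rfl (g := fun _ => f b) (fun a ha => by
    obtain ⟨q, rfl⟩ := Set.mem_toFinset.1 ha
    exact hinv q b), Finset.sum_const, nsmul_eq_mul, Set.toFinset_card,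
    ← Nat.card_eq_fintype_card]
  by_cases hb : f b = 0
  · simpa [hb] using memLocalRing_zero (M := M)
  obtain ⟨k, hk⟩ := hd b hb
  have hp0 : (p : ℂ) ≠ 0 := Nat.cast_ne_zero.2 hp.out.ne_zero
  rw [hk, Nat.cast_mul, Nat.cast_pow, mul_assoc, mul_div_cancel_left₀ _ (pow_ne_zero _ hp0)]
  exact MemLocalRing.mul (memLocalRing_natCast k) (hS b)

/-- The product `u 0 * u 1 * ... * u (N - 1)`. -/
def rangeProd (u : ℕ → H) : ℕ → H
  | 0 => 1
  | N + 1 => rangeProd u N * u N

theorem rangeProd_congr {u v : ℕ → H} :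
    ∀ N, (∀ i < N, u i = v i) → rangeProd u N = rangeProd v N
  | 0, _ => rfl
  | N + 1, h => by
    show rangeProd u N * u N = rangeProd v N * v N
    rw [rangeProd_congr N fun i hi => h i (Nat.lt_succ_of_lt hi), h N (Nat.lt_succ_self N)]

theorem rangeProd_add (u : ℕ → H) (a : ℕ) :
    ∀ b, rangeProd u (a + b) = rangeProd u a * rangeProd (fun i => u (a + i)) b
  | 0 => (mul_one _).symm
  | b + 1 => by
    show rangeProd u (a + b) * u (a + b) = _ * (_ * u (a + b))
    rw [rangeProd_add u a b, mul_assoc]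

theorem rangeProd_periodic {u : ℕ → H} {d : ℕ} (hu : ∀ i, u (i + d) = u i) :
    ∀ e, rangeProd u (e * d) = rangeProd u d ^ e
  | 0 => by rw [Nat.zero_mul, pow_zero]; rfl
  | e + 1 => by
    rw [Nat.succ_mul, Nat.add_comm, rangeProd_add, pow_succ', ← rangeProd_periodic hu e]
    congr 1
    exact rangeProd_congr _ fun i _ => by rw [Nat.add_comm, hu]

/-- The product of the letters of a cyclic word. -/
def cycProd {N : ℕ} (w : ZMod N → H) : H := rangeProd (fun i => w (i : ZMod N)) N

theorem isConj_cycProd_shift {N : ℕ} (w : ZMod N → H) :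
    IsConj (cycProd (fun i => w (i + 1))) (cycProd w) := by
  refine isConj_iff.2 ⟨w 0, ?_⟩
  have h1 : rangeProd (fun i => w (i : ZMod N)) (1 + N) =
      w 0 * cycProd (fun i => w (i + 1)) := by
    rw [rangeProd_add]
    congr 1
    · show 1 * w ((0 : ℕ) : ZMod N) = w 0
      simp
    · exact rangeProd_congr _ fun i _ => by push_cast; rw [add_comm]
  have h2 : rangeProd (fun i => w (i : ZMod N)) (1 + N) = cycProd w * w 0 := by
    rw [Nat.add_comm]
    show _ * w ((N : ℕ) : ZMod N) = _
    rw [ZMod.natCast_self]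
    rfl
  rw [← h1, h2, mul_inv_cancel_right]

theorem cycProd_periodic {n j : ℕ} (hj : j ≤ n) (w : ZMod (p ^ n) → H)
    (hw : ∀ i, w (i + ((p ^ j : ℕ) : ZMod (p ^ n))) = w i) :
    cycProd w = rangeProd (fun i => w (i : ZMod (p ^ n))) (p ^ j) ^ p ^ (n - j) := by
  rw [cycProd]
  conv_lhs => arg 2; rw [show p ^ n = p ^ (n - j) * p ^ j by rw [← pow_add, Nat.sub_add_cancel hj]]
  exact rangeProd_periodic (fun i => by rw [Nat.cast_add]; exact hw _) _

variable (H) in
/-- The rotation action on cyclic words. -/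
@[reducible] def shiftAction (N : ℕ) : MulAction (Multiplicative (ZMod N)) (ZMod N → H) where
  smul q w := fun i => w (i + Multiplicative.toAdd q)
  one_smul w := funext fun i => by show w (i + _) = w i; simp
  mul_smul q r w := funext fun i => by show w (i + _) = w (i + _ + _); simp [add_assoc]

theorem shift_invariant {N : ℕ} [NeZero N] {β : Type*} {Φ : (ZMod N → H) → β}
    (hinv : ∀ w, Φ (fun i => w (i + 1)) = Φ w) (t : ZMod N) (w : ZMod N → H) :
    Φ (fun i => w (i + t)) = Φ w := by
  obtain ⟨k, rfl⟩ : ∃ k : ℕ, (k : ZMod N) = t := ⟨t.val, ZMod.natCast_zmod_val t⟩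
  induction k generalizing w with
  | zero => simp
  | succ k ih =>
    rw [← ih w, ← hinv (fun i => w (i + (k : ZMod N)))]
    congr 1
    funext i
    push_cast
    congr 1
    ring

/-- The necklace congruence. -/
theorem necklace [M.IsPrime] [Fintype H] {n : ℕ} (Φ : (ZMod (p ^ n) → H) → ℂ)
    (hS : ∀ w, MemLocalRing M (Φ w)) (hinv : ∀ w, Φ (fun i => w (i + 1)) = Φ w) (m : ℕ)
    (hsupp : ∀ w : ZMod (p ^ n) → H, ∀ j ≤ n,
      (∀ i, w (i + ((p ^ j : ℕ) : ZMod (p ^ n))) = w i) → Φ w ≠ 0 → m ≤ j) :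
    MemLocalRing M ((∑ w, Φ w) / (p : ℂ) ^ m) := by
  classical
  haveI : NeZero (p ^ n) := ⟨pow_ne_zero n hp.out.ne_zero⟩
  letI := shiftAction H (p ^ n)
  refine memLocalRing_sum_div_pow (A := Multiplicative (ZMod (p ^ n))) Φ hS
    (fun q w => shift_invariant hinv (Multiplicative.toAdd q) w) m fun w hw => ?_
  have hidx : (MulAction.stabilizer (Multiplicative (ZMod (p ^ n))) w).index =
      Nat.card (MulAction.orbit (Multiplicative (ZMod (p ^ n))) w) := by
    rw [MulAction.index_stabilizer, Nat.card_coe_set_eq]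
  have hdvd := (MulAction.stabilizer (Multiplicative (ZMod (p ^ n))) w).index_dvd_card
  rw [hidx, Nat.card_congr Multiplicative.toAdd, Nat.card_zmod] at hdvd
  obtain ⟨j, hj, hje⟩ := (Nat.dvd_prime_pow hp.out).1 hdvd
  rw [hje]
  refine pow_dvd_pow p (hsupp w j hj (fun i => ?_) hw)
  have hmem := (MulAction.stabilizer (Multiplicative (ZMod (p ^ n))) w).pow_index_mem
    (Multiplicative.ofAdd (1 : ZMod (p ^ n)))
  rw [hidx, hje, MulAction.mem_stabilizer_iff] at hmem
  have h2 := congrFun hmem i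
  rw [show Multiplicative.ofAdd (1 : ZMod (p ^ n)) ^ p ^ j =
    Multiplicative.ofAdd ((p ^ j : ℕ) : ZMod (p ^ n)) by rw [← ofAdd_nsmul, nsmul_one]] at h2
  exact h2

variable [Finite H]

theorem isPRegular_pow_of_le (v : H) {k : ℕ} (hk : (Nat.card H).factorization p ≤ k) :
    IsPRegular p (v ^ p ^ k) := by
  intro hd
  have h0 : Nat.card H ≠ 0 := Nat.card_pos.ne'
  have h1 : orderOf (v ^ p ^ k) ∣ Nat.card H / p ^ (Nat.card H).factorization p := by
    refine orderOf_dvd_of_pow_eq_one ?_
    rw [← pow_mul, ← orderOf_dvd_iff_pow_eq_one]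
    refine (orderOf_dvd_natCard v).trans ?_
    nth_rewrite 1 [← Nat.ordProj_mul_ordCompl_eq_self (Nat.card H) p]
    exact Nat.mul_dvd_mul (pow_dvd_pow p hk) dvd_rfl
  exact Nat.not_dvd_ordCompl hp.out h0 (hd.trans h1)

end Necklace

section Words

variable {G : Type*} [Group G] [Finite G] {R : Type*} [CommRing R]

/-- Expansion of a power in the group algebra against a function. -/
theorem sum_pow_coeff_mul [Fintype G] (a : MonoidAlgebra R G) :
    ∀ (N : ℕ) (φ : G → R), ∑ g, (a ^ N).coeff g * φ g =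
      ∑ w : Fin N → G, (∏ i, a.coeff (w i)) * φ (List.ofFn w).prod := by
  classical
  intro N
  induction N with
  | zero => intro φ; simp [MonoidAlgebra.one_def, Finsupp.single_apply]
  | succ N ih =>
    intro φ
    have h1 : ∑ g, (a ^ (N + 1)).coeff g * φ g =
        ∑ x, (a ^ N).coeff x * ∑ y, a.coeff y * φ (x * y) := by
      simp only [pow_succ, coeff_mul_eq_sum, Finset.sum_mul, Finset.mul_sum, mul_assoc]
      rw [Finset.sum_comm]
      refine Finset.sum_congr rfl fun x _ => Fintype.sum_equiv (Equiv.mulLeft x⁻¹) _ _ fun y => ?_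
      simp
    rw [h1, ih, ← (Fin.snocEquiv fun _ => G).sum_comp, Fintype.sum_prod_type, Finset.sum_comm]
    refine Finset.sum_congr rfl fun w _ => ?_
    simp only [Fin.snocEquiv, Equiv.coe_fn_mk, Fin.prod_univ_castSucc, List.ofFn_succ',
      Fin.snoc_castSucc, Fin.snoc_last, List.concat_eq_append, List.prod_append, List.prod_cons,
      List.prod_nil, mul_one, Finset.mul_sum, mul_assoc]

theorem prod_ofFn_eq_rangeProd (u : ℕ → G) :
    ∀ N, (List.ofFn fun i : Fin N => u i).prod = rangeProd u N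
  | 0 => by simp [rangeProd]
  | N + 1 => by
    rw [List.ofFn_succ', List.concat_eq_append, List.prod_append]
    simp [rangeProd, prod_ofFn_eq_rangeProd u N]

/-- Expansion of a power over cyclic words. -/
theorem sum_pow_coeff_mul_cyc [Fintype G] (a : MonoidAlgebra R G) (N : ℕ) [NeZero N]
    (φ : G → R) : ∑ g, (a ^ N).coeff g * φ g =
      ∑ w : ZMod N → G, (∏ i, a.coeff (w i)) * φ (cycProd w) := by
  classical
  let e : Fin N ≃ ZMod N :=
    { toFun := fun i => ((i : ℕ) : ZMod N)
      invFun := fun t => ⟨t.val, ZMod.val_lt t⟩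
      left_inv := fun i => Fin.ext (ZMod.val_cast_of_lt i.2)
      right_inv := fun t => ZMod.natCast_zmod_val t }
  rw [sum_pow_coeff_mul, ← (Equiv.arrowCongr e.symm (Equiv.refl G)).sum_comp]
  refine Finset.sum_congr rfl fun w _ => ?_
  congr 1
  · exact e.prod_comp fun t => a.coeff (w t)
  · rw [cycProd, ← prod_ofFn_eq_rangeProd]
    rfl

variable {p : ℕ} [hp : Fact p.Prime]

/-- In characteristic `p` only constant words survive in a `p`-power power. -/
theorem sum_pow_prime_pow [Fintype G] [CharP R p] (a : MonoidAlgebra R G) (n : ℕ) {φ : G → R}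
    (hφ : ∀ g h : G, φ (h * g * h⁻¹) = φ g) :
    ∑ g, (a ^ p ^ n).coeff g * φ g = ∑ h, a.coeff h ^ p ^ n * φ (h ^ p ^ n) := by
  classical
  haveI : NeZero (p ^ n) := ⟨pow_ne_zero n hp.out.ne_zero⟩
  letI := shiftAction G (p ^ n)
  have hQ : IsPGroup p (Multiplicative (ZMod (p ^ n))) :=
    IsPGroup.of_card (n := n) (by rw [Nat.card_congr Multiplicative.toAdd, Nat.card_zmod])
  have hinv : ∀ w : ZMod (p ^ n) → G, (∏ i, a.coeff (w (i + 1))) * φ (cycProd fun i => w (i + 1)) =
      (∏ i, a.coeff (w i)) * φ (cycProd w) := fun w => by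
    rw [show (∏ i, a.coeff (w (i + 1))) = ∏ i, a.coeff (w i) from
      Equiv.prod_comp (Equiv.addRight (1 : ZMod (p ^ n))) fun i => a.coeff (w i)]
    obtain ⟨c, hc⟩ := isConj_iff.1 (isConj_cycProd_shift w)
    rw [← hc, hφ]
  rw [sum_pow_coeff_mul_cyc, sum_eq_sum_fixedPoints hQ (fun x : R => by simp)
    (fun w => (∏ i, a.coeff (w i)) * φ (cycProd w))
    (fun q w => shift_invariant (Φ := fun w => (∏ i, a.coeff (w i)) * φ (cycProd w)) hinv
      (Multiplicative.toAdd q) w)]
  refine Finset.sum_bij' (fun w _ => w 0) (fun h _ => fun _ => h) (fun _ _ => Finset.mem_univ _)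
    (fun h _ => Finset.mem_filter.2 ⟨Finset.mem_univ _, fun q => rfl⟩)
    (fun w hw => funext fun i => ?_) (fun _ _ => rfl) fun w hw => ?_
  · have := congrFun ((Finset.mem_filter.1 hw).2 (Multiplicative.ofAdd i)) 0
    change w (0 + i) = w 0 at this
    rw [zero_add] at this
    exact this.symm
  · have hwc : ∀ i, w i = w 0 := fun i => by
      have := congrFun ((Finset.mem_filter.1 hw).2 (Multiplicative.ofAdd i)) 0
      change w (0 + i) = w 0 at this
      rwa [zero_add] at this
    simp only [hwc, Finset.prod_const, Finset.card_univ, ZMod.card]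
    congr 2
    have h1 : ∀ i, (fun i : ℕ => w (i : ZMod (p ^ n))) (i + 1) = (fun i : ℕ => w (i : ZMod (p ^ n))) i :=
      fun i => by simp only [hwc]
    have h2 := rangeProd_periodic (u := fun i : ℕ => w (i : ZMod (p ^ n))) (d := 1) h1 (p ^ n)
    rw [mul_one] at h2
    rw [cycProd, h2]
    show (1 * w ((0 : ℕ) : ZMod (p ^ n))) ^ p ^ n = _
    rw [one_mul, hwc]

variable {M : Ideal AlgInt} [M.IsMaximal]

/-- An element with `a ^ p ^ n = a` for arbitrarily large `n` has zero sum against every class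
function supported on `p`-singular elements. -/
theorem sum_mul_eq_zero_of_pow_eq [Fintype G] (hpM : (p : AlgInt) ∈ M) {a : MonoidAlgebra ℂ G}
    (ha : SCoeff M a) (h : ∀ n₀, ∃ n, n₀ ≤ n ∧ a ^ p ^ n = a) {φ : G → ℂ}
    (hφc : ∀ g h : G, φ (h * g * h⁻¹) = φ g) (hφS : ∀ g, MemLocalRing M (φ g))
    (hφ : ∀ g, IsPRegular p g → φ g = 0) : ∑ g, a.coeff g * φ g = 0 := by
  refine eq_zero_of_forall_div_pow hpM fun N => ?_
  obtain ⟨n, hn, hna⟩ := h (N + (Nat.card G).factorization p)
  haveI : NeZero (p ^ n) := ⟨pow_ne_zero n hp.out.ne_zero⟩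
  refine ⟨n - (Nat.card G).factorization p, by omega, ?_⟩
  rw [show ∑ g, a.coeff g * φ g = ∑ g, (a ^ p ^ n).coeff g * φ g by rw [hna],
    sum_pow_coeff_mul_cyc]
  refine necklace _ (fun w => MemLocalRing.mul (MemLocalRing.prod _ fun i _ => ha _) (hφS _))
    (fun w => ?_) _ fun w j hj hw hne => ?_
  · rw [show (∏ i, a.coeff ((fun i => w (i + 1)) i)) = ∏ i, a.coeff (w i) from
      Equiv.prod_comp (Equiv.addRight (1 : ZMod (p ^ n))) fun i => a.coeff (w i)]
    obtain ⟨c, hc⟩ := isConj_iff.1 (isConj_cycProd_shift w)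
    rw [← hc, hφc]
  · by_contra hlt
    refine hne ?_
    rw [cycProd_periodic hj w hw, hφ _ (isPRegular_pow_of_le _ (by omega)), mul_zero]

end Words

end Cfsg.Agent.Blocks
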