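import Cfsg.Agent.Lib.Blocks.PPartDefect
import Cfsg.Agent.Lib.Blocks.SecondMain

/-!
# Values of height zero characters at defect classes
-/

set_option linter.style.haveILetI false
set_option linter.unusedSectionVars false

namespace Cfsg.Agent.Blocks

open Cfsg

universe u

variable {G : Type u} [Group G] [Finite G] {M : Ideal AlgInt} [M.IsMaximal]
variable {p : ℕ} [hp : Fact p.Prime] (hpM : (p : AlgInt) ∈ M) {B : Set (IrrCharacter G)}
include hpM

theorem not_memLocalIdeal_index_div (hB : IsPBlock M B) {y : G} (hy : IsDefectClass M B y)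
    {χ : IrrCharacter G} (hχ : χ ∈ B) (h0 : blockHeight p B χ.1 = 0) :
    MemLocalRing M (((Subgroup.centralizer ({y} : Set G)).index : ℂ) / χ.1 1) ∧
      ¬ MemLocalIdeal M (((Subgroup.centralizer ({y} : Set G)).index : ℂ) / χ.1 1) := by
  have hdeg := (blockHeight_eq_zero_iff hpM hB hy hχ).1 h0
  rw [Char.apply_one_eq_degree]
  refine ⟨(memLocalRing_natCast_div_iff hpM Subgroup.index_ne_zero_of_finite
    (Char.degree_pos χ).ne').2 hdeg.le, fun h => ?_⟩
  have := (memLocalIdeal_natCast_div_iff hpM Subgroup.index_ne_zero_of_finite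
    (Char.degree_pos χ).ne').1 h
  omega

/-- A height zero character does not vanish modulo `M` on the section of the defect group at a
defect class. -/
theorem not_memLocalIdeal_char_mul (hB : IsPBlock M B) {y : G} (hy : IsDefectClass M B y)
    {χ : IrrCharacter G} (hχ : χ ∈ B) (h0 : blockHeight p B χ.1 = 0) {x : G} (hc : Commute x y)
    (hx : ∃ k, orderOf x = p ^ k) : ¬ MemLocalIdeal M (χ.1 (x * y)) := by
  intro h
  obtain ⟨k, hk⟩ := hx
  have h1 : MemLocalIdeal M (χ.1 y) := (memLocalIdeal_iff_of_sub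
    (memLocalIdeal_char_mul_sub hpM (Char.irr_isCharacter χ) hc hk)).1 h
  obtain ⟨hR, -⟩ := not_memLocalIdeal_index_div hpM hB hy hχ h0
  refine hy.2.2 χ hχ ?_
  rw [centralChar, mul_div_right_comm]
  exact MemLocalIdeal.mul_left hR h1

/-- Central elements of a defect group at a defect class give classes with unit central
character. -/
theorem not_memLocalIdeal_centralChar_mul (hB : IsPBlock M B) {y : G} (hy : IsDefectClass M B y)
    {P : Subgroup G} (hP : SylIn p (Subgroup.centralizer ({y} : Set G)) P) {x : G} (hxP : x ∈ P)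
    (hxc : ∀ w ∈ P, x * w = w * x) {χ : IrrCharacter G} (hχ : χ ∈ B) :
    ¬ MemLocalIdeal M (centralChar χ.1 (x * y)) := by
  obtain ⟨χ₀, hχ₀, h0⟩ := exists_height_zero hpM hB
  rw [memLocalIdeal_centralChar_iff hB hχ hχ₀]
  obtain ⟨k, hk⟩ := IsPGroup.iff_orderOf.1 (SylIn.isPGroup hP) ⟨x, hxP⟩
  rw [← Subgroup.orderOf_coe] at hk
  have hc : Commute x y := (le_centralizer_singleton.1 hP.1) x hxP
  set C := Subgroup.centralizer ({y} : Set G)
  set C' := Subgroup.centralizer ({x * y} : Set G)
  have hxz : x ∈ Subgroup.zpowers (x * y) :=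
    IsPPart.mem_zpowers (isPPart_mul hc ⟨k, hk⟩ (IsDefectClass.isPRegular hpM hB hy))
  have hle : C' ≤ C := by
    intro u hu
    have h1 : Commute u (x * y) := Subgroup.mem_centralizer_singleton_iff.1 hu
    obtain ⟨i, hi⟩ := Subgroup.mem_zpowers_iff.1 hxz
    have h2 : Commute u x := hi ▸ h1.zpow_right i
    refine Subgroup.mem_centralizer_singleton_iff.2 ?_
    have h3 := h2.inv_right.mul_right h1
    rwa [inv_mul_cancel_left] at h3
  have hPC' : P ≤ C' := by
    intro w hw
    refine Subgroup.mem_centralizer_singleton_iff.2 ?_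
    exact (show Commute w x from (hxc w hw).symm).mul_right ((le_centralizer_singleton.1 hP.1) w hw)
  have hval : C'.index.factorization p = C.index.factorization p := by
    have h1 := factorization_index (p := p) C
    have h2 := factorization_index (p := p) C'
    have h3 : (Nat.card P).factorization p ≤ (Nat.card C').factorization p :=
      (Nat.factorization_le_iff_dvd Nat.card_pos.ne' Nat.card_pos.ne').2
        (Subgroup.card_dvd_of_le hPC') p
    rw [hP.2, hp.out.factorization_pow, Finsupp.single_eq_same] at h3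
    have h4 : (Nat.card C').factorization p ≤ (Nat.card C).factorization p :=
      (Nat.factorization_le_iff_dvd Nat.card_pos.ne' Nat.card_pos.ne').2
        (Subgroup.card_dvd_of_le hle) p
    omega
  simp only [C, C'] at hval
  intro hI
  rw [centralChar, mul_div_right_comm, Char.apply_one_eq_degree] at hI
  have hdeg := (blockHeight_eq_zero_iff hpM hB hy hχ₀).1 h0
  rcases MemLocalIdeal.mem_or_mem ((memLocalRing_natCast_div_iff hpM
    Subgroup.index_ne_zero_of_finite (Char.degree_pos χ₀).ne').2 (by omega))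
    (memLocalRing_irr χ₀ _) hI with h | h
  · have := (memLocalIdeal_natCast_div_iff hpM Subgroup.index_ne_zero_of_finite
      (Char.degree_pos χ₀).ne').1 h
    omega
  · exact not_memLocalIdeal_char_mul hpM hB hy hχ₀ h0 hc ⟨k, hk⟩ h

/-- The `p`-sections on which a height zero character does not vanish. -/
theorem exists_conj_mem_defectGroup_iff (hB : IsPBlock M B) {D : Subgroup G}
    (hD : IsDefectGroup p M B D) {χ : IrrCharacter G} (hχ : χ ∈ B)
    (h0 : blockHeight p B χ.1 = 0) {x : G} (hx : ∃ k, orderOf x = p ^ k) :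
    (∃ g : G, g * x * g⁻¹ ∈ D) ↔
      ∃ u : G, (∃ z : G, IsPPart p u z ∧ IsConj x z) ∧ χ.1 u ≠ 0 := by
  constructor
  · rintro ⟨g, hg⟩
    obtain ⟨y, hy, hyD⟩ := isDefectGroup_iff.1 hD
    have hc : Commute (g * x * g⁻¹) y := (le_centralizer_singleton.1 hyD.1) _ hg
    obtain ⟨k, hk⟩ := hx
    have hk' : orderOf (g * x * g⁻¹) = p ^ k := by
      rw [show g * x * g⁻¹ = MulAut.conj g x from rfl, MulEquiv.orderOf_eq, hk]
    exact ⟨g * x * g⁻¹ * y, ⟨g * x * g⁻¹, isPPart_mul hc ⟨k, hk'⟩
      (IsDefectClass.isPRegular hpM hB hy), isConj_iff.2 ⟨g, rfl⟩⟩,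
      ne_zero_of_not_memLocalIdeal
        (not_memLocalIdeal_char_mul hpM hB hy hχ h0 hc ⟨k, hk'⟩)⟩
  · rintro ⟨u, ⟨z, hz, hxz⟩, hu⟩
    by_contra hno
    refine hu (eq_zero_of_not_mem_defectGroup hpM hz fun D' hD' hzD' => hno ?_)
    rw [← block_eq hB hχ] at hD'
    obtain ⟨a, rfl⟩ := defectGroup_conj hpM hB hD hD'
    obtain ⟨c, rfl⟩ := isConj_iff.1 hxz
    refine ⟨a * c, ?_⟩
    rw [mem_map_conj]
    convert hzD' using 1
    group

/-- An induced block has defect zero exactly when the inducing block has. -/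
theorem IsInducedBlock.blockDefect_eq_zero_iff {H : Subgroup G} {b : Set (IrrCharacter H)}
    (hind : IsInducedBlock M H b B) : blockDefect p b = 0 ↔ blockDefect p B = 0 := by
  obtain ⟨D, hD⟩ := exists_defectGroup (p := p) hind.1
  have hb := card_defectGroup hpM hind.1 hD
  constructor
  · intro h
    rw [h, pow_zero] at hb
    obtain ⟨P, hP⟩ := exists_defectGroup (p := p) hind.2.1
    have hB := card_defectGroup hpM hind.2.1 hP
    by_contra hne
    haveI : Nontrivial P := Finite.one_lt_card_iff_nontrivial.1 (by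
      rw [hB]; exact Nat.one_lt_pow hne hp.out.one_lt)
    haveI := (IsDefectGroup.isPGroup hP).center_nontrivial
    obtain ⟨⟨z, hz⟩, hz1⟩ := exists_ne (1 : Subgroup.center P)
    obtain ⟨g, hg, -⟩ := IsInducedBlock.exists_conj_center hpM hind hD hP z.2
      (fun w hw => congrArg Subtype.val (Subgroup.mem_center_iff.1 hz ⟨w, hw⟩).symm)
    rw [Subgroup.card_eq_one.1 hb, Subgroup.map_bot, Subgroup.mem_bot, mul_inv_eq_one] at hg
    exact hz1 (Subtype.ext (Subtype.ext (mul_left_cancel (hg.trans (mul_one g).symm))))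
  · intro h
    obtain ⟨E, hE, hle⟩ := IsInducedBlock.exists_defectGroup_ge hpM hind hD
    have hE1 := card_defectGroup hpM hind.2.1 hE
    rw [h, pow_zero, Subgroup.card_eq_one] at hE1
    rw [hE1, le_bot_iff, Subgroup.map_eq_bot_iff_of_injective _ H.subtype_injective] at hle
    rw [hle, Subgroup.card_bot] at hb
    have := congrArg (fun n => n.factorization p) hb
    simpa [hp.out.factorization_pow] using this.symm

end Cfsg.Agent.Blocks
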