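import Cfsg.Agent.Lib.Blocks.LocalRankTwo
import Mathlib.Algebra.Algebra.Operations
import Mathlib.Tactic.Module
import Mathlib.Tactic.LinearCombination

/-!
# Local symmetric algebras with at most four trace functions (Külshammer)

* `comm_of_local_symmetric`: a local symmetric algebra whose space of trace functions has dimension
  at most four is commutative.
* `sdim_data`: a block algebra with one simple module and an `m`-dimensional space of trace
  functions, `m ≤ 4`, has dimension `m n²` and a projective left ideal of dimension `n m`.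
-/

namespace Cfsg.Agent.Blocks.LocalSymmetric

open LocalRankTwo
open Module (finrank)

set_option linter.style.haveILetI false

variable {k R : Type*} [Field k] [Ring R] [Algebra k R]

/-- The linear algebra of the cube of the radical. -/
theorem cube_zero {V : Type*} [AddCommGroup V] [Module k V] {a b c d : k} {p q p' q' : V}
    (hbc : b = c + 1) (e1 : a • p' = a • p) (e2 : a • q' = b • p) (e3 : b • p' = c • p)
    (e4 : b • q' = d • p) (e5 : c • p' = a • q) (e6 : c • q' = b • q) (e7 : d • p' = c • q)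
    (e8 : d • q' = d • q) : p = 0 ∧ q = 0 := by
  have key : ∀ {u : V}, b • u = c • u → u = 0 := fun {u} h => by
    have h1 : (b - c) • u = 0 := by rw [sub_smul, h, sub_self]
    rwa [hbc, add_sub_cancel_left, one_smul] at h1
  by_cases ha : a = 0
  · subst ha
    by_cases hd : d = 0
    · subst hd
      by_cases hb : b = 0
      · subst hb
        have hc : c ≠ 0 := fun h => by rw [h, zero_add] at hbc; exact zero_ne_one hbc
        simp only [zero_smul] at e3 e7
        exact ⟨(smul_eq_zero.1 e3.symm).resolve_left hc, (smul_eq_zero.1 e7.symm).resolve_left hc⟩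
      · simp only [zero_smul] at e2 e4
        have hq' : q' = 0 := (smul_eq_zero.1 e4).resolve_left hb
        rw [hq', smul_zero] at e6
        exact ⟨(smul_eq_zero.1 e2.symm).resolve_left hb, (smul_eq_zero.1 e6.symm).resolve_left hb⟩
    · have hqq : q' = q := smul_right_injective V hd e8
      subst hqq
      have hq : q' = 0 := key e6.symm
      rw [hq, smul_zero] at e4
      exact ⟨(smul_eq_zero.1 e4.symm).resolve_left hd, hq⟩
  · have hpp : p' = p := smul_right_injective V ha e1
    subst hpp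
    have hp : p' = 0 := key e3
    rw [hp, smul_zero] at e5
    exact ⟨hp, (smul_eq_zero.1 e5.symm).resolve_left ha⟩

variable [FiniteDimensional k R]

/-- A local symmetric algebra with at most four trace functions is commutative. -/
theorem comm_of_local_symmetric {ε : R} {C N : Submodule k R} (hεC : ε ∈ C)
    (hεl : ∀ x ∈ C, ε * x = x) (hεr : ∀ x ∈ C, x * ε = x)
    (hdec : ∀ x ∈ C, ∃ c : k, x - c • ε ∈ N) (hNC : N ≤ C) (hεN : ε ∉ N)
    (hNmul : N * N ≤ N) (hNJ : ∀ x ∈ N, x ∈ Ring.jacobson R)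
    (τ : R →ₗ[k] k) (htr : ∀ x y, τ (x * y) = τ (y * x))
    (hnd : ∀ x ∈ C, x ≠ 0 → ∃ y ∈ C, τ (x * y) ≠ 0) {m : ℕ} (hm : m ≤ 4)
    (hrank : ∀ T : Submodule k R, T ≤ C → (∀ a b, a ∈ C → b ∈ C → a * b - b * a ∈ T) →
      finrank k C ≤ finrank k T + m) :
    ∀ a ∈ C, ∀ b ∈ C, a * b = b * a := by
  classical
  -- reduction to `N`
  have hcomm : ∀ a ∈ C, ∀ b ∈ C, ∃ a' ∈ N, ∃ b' ∈ N, a * b - b * a = a' * b' - b' * a' := by
    intro a ha b hb
    obtain ⟨α, hα⟩ := hdec a ha
    obtain ⟨β, hβ⟩ := hdec b hb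
    refine ⟨_, hα, _, hβ, ?_⟩
    simp only [sub_mul, mul_sub, smul_mul_assoc, mul_smul_comm, hεl a ha, hεr a ha, hεl b hb,
      hεr b hb, hεl ε hεC, smul_sub, smul_smul, mul_comm α β]
    abel
  suffices hN : ∀ a ∈ N, ∀ b ∈ N, a * b - b * a = 0 by
    intro a ha b hb
    obtain ⟨a', ha', b', hb', h⟩ := hcomm a ha b hb
    exact sub_eq_zero.1 (h.trans (hN a' ha' b' hb'))
  -- powers of `N`
  have hN2 : N ^ 2 = N * N := pow_two N
  have hdesc : ∀ j, N ^ (j + 2) ≤ N ^ (j + 1) := fun j => by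
    induction j with
    | zero => rw [pow_two, pow_one]; exact hNmul
    | succ j ih =>
      rw [pow_succ N (j + 2), pow_succ N (j + 1)]
      exact mul_le_mul_left ih N
  have hanti : ∀ i j, 1 ≤ i → i ≤ j → N ^ j ≤ N ^ i := by
    intro i j hi hij
    induction j, hij using Nat.le_induction with
    | base => exact le_rfl
    | succ j hj ih =>
      obtain ⟨j', rfl⟩ := Nat.exists_eq_add_of_le (hi.trans hj)
      rw [add_comm 1 j'] at ih ⊢
      exact (hdesc j').trans ih
  have hrad : ∀ j, N ^ j ≤ radPow k R j := fun j => by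
    induction j with
    | zero =>
      intro x _
      rw [mem_radPow, Submodule.pow_zero, Ideal.one_eq_top]
      exact Submodule.mem_top
    | succ j ih =>
      rw [pow_succ, Submodule.mul_le]
      intro a ha b hb
      rw [mem_radPow, Submodule.pow_succ]
      exact Ideal.mul_mem_mul (mem_radPow.1 (ih ha)) (hNJ b hb)
  obtain ⟨L0, hL0⟩ := exists_radPow_eq_bot k R
  have hnil : N ^ (L0 + 1) = ⊥ := by
    refine le_bot_iff.1 ((hrad _).trans ?_)
    intro x hx
    have h : x ∈ radPow k R L0 := by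
      rw [mem_radPow] at hx ⊢
      rw [Submodule.pow_succ] at hx
      exact Ideal.mul_le_left hx
    rwa [hL0] at h
  have hstop : ∀ i, N ^ i ≤ N ^ (i + 1) → N ^ i = ⊥ := by
    intro i hi
    have : ∀ j, N ^ i ≤ N ^ (i + j) := fun j => by
      induction j with
      | zero => exact le_rfl
      | succ j ih =>
        refine hi.trans ?_
        rw [pow_succ, ← Nat.add_assoc, pow_succ N (i + j)]
        exact mul_le_mul_left ih N
    refine le_bot_iff.1 ((this (L0 + 1)).trans ?_)
    rw [pow_add, hnil]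
    exact le_of_eq (Submodule.mul_bot _)
  -- commutators with the square
  have hsq : ∀ j, (∀ a ∈ N, ∀ b ∈ N, a * b - b * a ∈ N ^ (j + 2)) →
      ∀ r ∈ N * N, ∀ b ∈ N, r * b - b * r ∈ N ^ (j + 3) := by
    intro j hj r hr b hb
    induction hr using Submodule.mul_induction_on' with
    | mem_mul_mem c hc d hd =>
      rw [show c * d * b - b * (c * d) = c * (d * b - b * d) + (c * b - b * c) * d by
        simp only [mul_sub, sub_mul, mul_assoc]; abel]
      refine add_mem ?_ ?_
      · rw [pow_succ']; exact Submodule.mul_mem_mul hc (hj d hd b hb)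
      · rw [pow_succ]; exact Submodule.mul_mem_mul (hj c hc b hb) hd
    | add r _ s _ ihr ihs =>
      rw [show (r + s) * b - b * (r + s) = (r * b - b * r) + (s * b - b * s) by
        simp only [add_mul, mul_add]; abel]
      exact add_mem ihr ihs
  have hbase : ∀ a ∈ N, ∀ b ∈ N, a * b - b * a ∈ N ^ 2 := fun a ha b hb => by
    rw [hN2]; exact sub_mem (Submodule.mul_mem_mul ha hb) (Submodule.mul_mem_mul hb ha)
  -- one generator
  have hone : ∀ x ∈ N, N ≤ Submodule.span k {x} ⊔ N * N → ∀ a ∈ N, ∀ b ∈ N, a * b - b * a = 0 := by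
    intro x hx hgen
    have hall : ∀ j, ∀ a ∈ N, ∀ b ∈ N, a * b - b * a ∈ N ^ (j + 2) := fun j => by
      induction j with
      | zero => exact hbase
      | succ j ih =>
        intro a ha b hb
        obtain ⟨u, hu, r, hr, rfl⟩ := Submodule.mem_sup.1 (hgen ha)
        obtain ⟨α, rfl⟩ := Submodule.mem_span_singleton.1 hu
        obtain ⟨v, hv, s, hs, rfl⟩ := Submodule.mem_sup.1 (hgen hb)
        obtain ⟨β, rfl⟩ := Submodule.mem_span_singleton.1 hv
        rw [show (α • x + r) * (β • x + s) - (β • x + s) * (α • x + r) =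
            -(s * (α • x) - (α • x) * s) + (r * (β • x + s) - (β • x + s) * r) by
          simp only [add_mul, mul_add, smul_mul_assoc, mul_smul_comm]
          module]
        exact add_mem (neg_mem (hsq j ih s hs _ (N.smul_mem α hx))) (hsq j ih r hr _ hb)
    intro a ha b hb
    have h := hanti (L0 + 1) (L0 + 2) (by omega) (by omega) (hall L0 a ha b hb)
    rwa [hnil, Submodule.mem_bot] at h
  by_contra hnc
  -- the span of the commutators
  set K : Submodule k R :=
    Submodule.span k {z | ∃ a ∈ N, ∃ b ∈ N, z = a * b - b * a} with hKdef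
  have hKmem : ∀ a ∈ N, ∀ b ∈ N, a * b - b * a ∈ K := fun a ha b hb =>
    Submodule.subset_span ⟨a, ha, b, hb, rfl⟩
  have hKne : K ≠ ⊥ := fun h => hnc fun a ha b hb => by
    have := hKmem a ha b hb
    rwa [h, Submodule.mem_bot] at this
  have hKN2 : K ≤ N ^ 2 := Submodule.span_le.2 (by rintro _ ⟨a, ha, b, hb, rfl⟩; exact hbase a ha b hb)
  have hKτ : K ≤ LinearMap.ker τ := Submodule.span_le.2 (by
    rintro _ ⟨a, -, b, -, rfl⟩
    simp [htr a b])
  -- the last power
  have hex : ∃ j, N ^ (j + 1) = ⊥ := ⟨L0, hnil⟩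
  set L := Nat.find hex with hLdef
  have hL : N ^ (L + 1) = ⊥ := Nat.find_spec hex
  have hN3 : 3 ≤ L ∧ N ^ L ≠ ⊥ ∧ K ⊓ N ^ L = ⊥ := by
    have hL2 : 2 ≤ L := by
      by_contra hlt
      exact hKne (le_bot_iff.1 (hKN2.trans ((hanti (L + 1) 2 (by omega) (by omega)).trans hL.le)))
    have hLne : N ^ L ≠ ⊥ := fun h => by
      have := Nat.find_min' hex (m := L - 1) (by rwa [show L - 1 + 1 = L by omega])
      omega
    have hinf : K ⊓ N ^ L = ⊥ := by
      refine (Submodule.eq_bot_iff _).2 fun s hs => ?_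
      by_contra hs0
      have hsN : s ∈ N := by simpa using hanti 1 L le_rfl (by omega) hs.2
      obtain ⟨y, hy, hy0⟩ := hnd s (hNC hsN) hs0
      obtain ⟨c, hc⟩ := hdec y hy
      have h0 : s * (y - c • ε) = 0 := by
        have h := Submodule.mul_mem_mul hs.2 hc
        rwa [← pow_succ, hL, Submodule.mem_bot] at h
      rw [mul_sub, sub_eq_zero, mul_smul_comm, hεr s (hNC hsN)] at h0
      rw [h0, map_smul, show τ s = 0 from hKτ hs.1, smul_zero] at hy0
      exact hy0 rfl
    refine ⟨?_, hLne, hinf⟩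
    by_contra hlt
    refine hKne ?_
    rw [← hinf, eq_comm, inf_eq_left, show L = 2 by omega]
    exact hKN2
  obtain ⟨hL3, hLne, hinf⟩ := hN3
  -- dimensions
  have hdimC : finrank k C = finrank k N + 1 := by
    have hsup : C = Submodule.span k {ε} ⊔ N := by
      refine le_antisymm (fun x hx => ?_)
        (sup_le ((Submodule.span_singleton_le_iff_mem _ _).2 hεC) hNC)
      obtain ⟨c, hc⟩ := hdec x hx
      exact Submodule.mem_sup.2 ⟨c • ε, Submodule.smul_mem _ _ (Submodule.mem_span_singleton_self ε),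
        _, hc, add_sub_cancel _ _⟩
    have h := Submodule.finrank_sup_add_finrank_inf_eq (Submodule.span k {ε}) N
    have hinf' : Submodule.span k {ε} ⊓ N = ⊥ := by
      refine (Submodule.eq_bot_iff _).2 fun x hx => ?_
      obtain ⟨c, rfl⟩ := Submodule.mem_span_singleton.1 hx.1
      rcases eq_or_ne c 0 with rfl | hc
      · exact zero_smul _ _
      · exact absurd (by simpa [smul_smul, inv_mul_cancel₀ hc] using N.smul_mem c⁻¹ hx.2) hεN
    rw [← hsup, hinf', finrank_bot, finrank_span_singleton (show ε ≠ 0 from fun h0 => hεN (by rw [h0]; exact N.zero_mem))] at h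
    omega
  have hKC : K ≤ C := (hKN2.trans (hN2.le.trans hNmul)).trans hNC
  have hdimK : finrank k N + 1 ≤ finrank k K + m := hdimC ▸ hrank K hKC fun a b ha hb => by
    obtain ⟨a', ha', b', hb', h⟩ := hcomm a ha b hb
    rw [h]; exact hKmem a' ha' b' hb'
  have hKL : finrank k K + 1 ≤ finrank k ↥(K ⊔ N ^ L) := by
    have h := Submodule.finrank_sup_add_finrank_inf_eq K (N ^ L)
    rw [hinf, finrank_bot] at h
    have : 0 < finrank k ↥(N ^ L) := Nat.pos_of_ne_zero fun h0 => hLne (Submodule.finrank_eq_zero.1 h0)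
    omega
  have hKLle : K ⊔ N ^ L ≤ N ^ 2 := sup_le hKN2 (hanti 2 L (by omega) (by omega))
  -- two generators
  obtain ⟨x, hx, hx2⟩ : ∃ x ∈ N, x ∉ N * N := by
    by_contra h
    push Not at h
    refine hnc (hone 0 N.zero_mem fun a ha => Submodule.mem_sup_right (h a ha))
  have hlt1 : N * N < Submodule.span k {x} ⊔ N * N :=
    lt_of_le_of_ne le_sup_right fun h => hx2 (h.symm ▸ Submodule.mem_sup_left (Submodule.mem_span_singleton_self x))
  obtain ⟨y, hy, hy2⟩ : ∃ y ∈ N, y ∉ Submodule.span k {x} ⊔ N * N := by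
    by_contra h
    push Not at h
    exact hnc (hone x hx h)
  have hle1 : Submodule.span k {y} ⊔ (Submodule.span k {x} ⊔ N * N) ≤ N :=
    sup_le ((Submodule.span_singleton_le_iff_mem _ _).2 hy)
      (sup_le ((Submodule.span_singleton_le_iff_mem _ _).2 hx) hNmul)
  have hlt2 : Submodule.span k {x} ⊔ N * N < Submodule.span k {y} ⊔ (Submodule.span k {x} ⊔ N * N) :=
    lt_of_le_of_ne le_sup_right fun h => hy2 (h.symm ▸ Submodule.mem_sup_left (Submodule.mem_span_singleton_self y))
  have hd1 := Submodule.finrank_lt_finrank_of_lt hlt1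
  have hd2 := Submodule.finrank_lt_finrank_of_lt hlt2
  have hd3 := Submodule.finrank_mono hle1
  have hd4 := Submodule.finrank_mono hKLle
  rw [hN2] at hd4
  have hgen : N ≤ Submodule.span k {y} ⊔ (Submodule.span k {x} ⊔ N * N) :=
    (Submodule.eq_of_le_of_finrank_le hle1 (by omega)).ge
  have hgenN : ∀ a ∈ N, ∃ α β : k, ∃ r ∈ N * N, a = α • x + β • y + r := fun a ha => by
    obtain ⟨u, hu, v, hv, rfl⟩ := Submodule.mem_sup.1 (hgen ha)
    obtain ⟨β, rfl⟩ := Submodule.mem_span_singleton.1 hu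
    obtain ⟨w, hw, r, hr, rfl⟩ := Submodule.mem_sup.1 hv
    obtain ⟨α, rfl⟩ := Submodule.mem_span_singleton.1 hw
    exact ⟨α, β, r, hr, by abel⟩
  have hN2eq : N ^ 2 ≤ K ⊔ N ^ L :=
    (Submodule.eq_of_le_of_finrank_le hKLle (by rw [hN2]; omega)).ge
  set z : R := x * y - y * x with hz
  have hsq0 := hsq 0 hbase
  have hKz : K ≤ Submodule.span k {z} ⊔ N ^ 3 := Submodule.span_le.2 (by
    rintro _ ⟨a, ha, b, hb, rfl⟩
    obtain ⟨α, β, r, hr, hae⟩ := hgenN a ha
    obtain ⟨γ, δ, s, hs, hbe⟩ := hgenN b hb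
    have hlin : α • x + β • y ∈ N := add_mem (N.smul_mem α hx) (N.smul_mem β hy)
    rw [show a * b - b * a = (α * δ - β * γ) • z +
        (-(s * (α • x + β • y) - (α • x + β • y) * s) + (r * b - b * r)) by
      rw [hae, hbe, hz]
      simp only [add_mul, mul_add, smul_mul_assoc, mul_smul_comm]
      module]
    exact add_mem (Submodule.mem_sup_left (Submodule.smul_mem _ _ (Submodule.mem_span_singleton_self z)))
      (Submodule.mem_sup_right (add_mem (neg_mem (hsq0 s hs _ hlin)) (hsq0 r hr _ hb))))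
  have hN2z : N ^ 2 ≤ Submodule.span k {z} ⊔ N ^ 3 :=
    hN2eq.trans (sup_le hKz (le_trans (hanti 3 L (by omega) hL3) le_sup_right))
  have hz3 : z ∉ N ^ 3 := fun h => by
    have h2 : N ^ 2 ≤ N ^ (2 + 1) := hN2z.trans (sup_le ((Submodule.span_singleton_le_iff_mem _ _).2 h) le_rfl)
    exact hLne (le_bot_iff.1 ((hanti 2 L (by omega) (by omega)).trans (hstop 2 h2).le))
  have hco : ∀ u ∈ N, ∀ v ∈ N, ∃ c : k, ∃ r ∈ N ^ 3, u * v = c • z + r := fun u hu v hv => by
    obtain ⟨w, hw, r, hr, h⟩ := Submodule.mem_sup.1 (hN2z (hN2 ▸ Submodule.mul_mem_mul hu hv))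
    obtain ⟨c, rfl⟩ := Submodule.mem_span_singleton.1 hw
    exact ⟨c, r, hr, h.symm⟩
  obtain ⟨a, r1, hr1, hxx⟩ := hco x hx x hx
  obtain ⟨b, r2, hr2, hxy⟩ := hco x hx y hy
  obtain ⟨c, r3, hr3, hyx⟩ := hco y hy x hx
  obtain ⟨d, r4, hr4, hyy⟩ := hco y hy y hy
  have hbc : b = c + 1 := by
    by_contra hne
    refine hz3 ?_
    have h1 : (b - c - 1) • z = r3 - r2 := by
      have h := congrArg₂ (· - ·) hxy hyx
      simp only [← hz] at h
      rw [sub_smul, sub_smul, one_smul]
      conv_lhs => arg 2; rw [h]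
      abel
    have h2 := (N ^ 3).smul_mem (b - c - 1)⁻¹ (h1 ▸ sub_mem hr3 hr2)
    rwa [smul_smul, inv_mul_cancel₀ (fun h => hne (by linear_combination h)), one_smul] at h2
  -- the cube
  let π : R →ₗ[k] R ⧸ N ^ 4 := (N ^ 4).mkQ
  have hπ4 : ∀ u ∈ N ^ 4, π u = 0 := fun u hu => (Submodule.Quotient.mk_eq_zero _).2 hu
  have hπr : ∀ r ∈ N ^ 3, ∀ w ∈ N, π (r * w) = 0 ∧ π (w * r) = 0 := fun r hr w hw =>
    ⟨hπ4 _ (by rw [pow_succ]; exact Submodule.mul_mem_mul hr hw),
      hπ4 _ (by rw [pow_succ']; exact Submodule.mul_mem_mul hw hr)⟩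
  have hassoc : ∀ {u v w : R} {c₁ c₂ : k} {s t : R}, u ∈ N → w ∈ N → s ∈ N ^ 3 → t ∈ N ^ 3 →
      u * v = c₁ • z + s → v * w = c₂ • z + t → c₁ • π (z * w) = c₂ • π (u * z) := by
    intro u v w c₁ c₂ s t hu hw hs ht h1 h2
    have h : (u * v) * w = u * (v * w) := mul_assoc u v w
    rw [h1, h2, add_mul, mul_add, smul_mul_assoc, mul_smul_comm] at h
    have := congrArg π h
    rwa [map_add, map_add, map_smul, map_smul, (hπr s hs w hw).1, (hπr t ht u hu).2, add_zero,
      add_zero] at this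
  obtain ⟨hp, hq⟩ := cube_zero hbc (hassoc hx hx hr1 hr1 hxx hxx) (hassoc hx hy hr1 hr2 hxx hxy)
    (hassoc hx hx hr2 hr3 hxy hyx) (hassoc hx hy hr2 hr4 hxy hyy)
    (hassoc hy hx hr3 hr1 hyx hxx) (hassoc hy hy hr3 hr2 hyx hxy)
    (hassoc hy hx hr4 hr3 hyy hyx) (hassoc hy hy hr4 hr4 hyy hyy)
  have h34 : N ^ 3 ≤ N ^ (3 + 1) := by
    rw [pow_succ' N 2, Submodule.mul_le]
    intro u hu v hv
    obtain ⟨α, β, r, hr, rfl⟩ := hgenN u hu
    obtain ⟨w, hw, s, hs, rfl⟩ := Submodule.mem_sup.1 (hN2z hv)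
    obtain ⟨γ, rfl⟩ := Submodule.mem_span_singleton.1 hw
    rw [← Submodule.Quotient.mk_eq_zero]
    show π _ = 0
    have h1 : π (r * (γ • z + s)) = 0 := hπ4 _ (by
      rw [show (4 : ℕ) = 2 + 2 from rfl, pow_add, hN2]
      exact Submodule.mul_mem_mul hr (hN2 ▸ hv))
    have h2 : π ((α • x + β • y) * s) = 0 :=
      (hπr s hs _ (add_mem (N.smul_mem α hx) (N.smul_mem β hy))).2
    rw [add_mul, map_add, h1, add_zero, mul_add, map_add, h2, add_zero, add_mul, map_add,
      smul_mul_assoc, smul_mul_assoc, mul_smul_comm, mul_smul_comm, map_smul, map_smul, map_smul,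
      map_smul, hp, hq, smul_zero, smul_zero, smul_zero, add_zero]
  exact hLne (le_bot_iff.1 ((hanti 3 L (by omega) hL3).trans (hstop 3 h34).le))

/-- A block algebra with one simple module and an `m`-dimensional space of trace functions,
`m ≤ 4`. -/
theorem sdim_data [IsAlgClosed k] {e0 : R} (he : IsIdempotentElem e0) (hne : e0 ≠ 0)
    (hc : ∀ x, Commute e0 x) (F V : Submodule k (R →ₗ[k] k))
    (hF : ∀ τ, τ ∈ F ↔ (∀ x y, τ (x * y) = τ (y * x)) ∧ ∀ x, τ (x * e0) = τ x)
    (τ₀ : R →ₗ[k] k) (htr : ∀ x y, τ₀ (x * y) = τ₀ (y * x))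
    (hnd : ∀ x : R, x ≠ 0 → ∃ y, τ₀ (x * y) ≠ 0)
    {m : ℕ} (hm : m ≤ 4) (hFm : finrank k F = m) (hV : finrank k V ≤ 1)
    (hVtr : ∀ (n : ℕ) (π : R →ₐ[k] Matrix (Fin n) (Fin n) k), π e0 = 1 → trFun π ∈ V) :
    ∃ n, finrank k (LinearMap.range (LinearMap.mulRight k e0)) = m * n ^ 2 ∧
      ∃ ε : R, IsIdempotentElem ε ∧
        finrank k (LinearMap.range (LinearMap.mulRight k ε)) = n * m := by
  classical
  obtain ⟨n, π, hn, hπ, hπ0, hker⟩ := exists_simple_quotient he hne hc hV hVtr
  haveI : NeZero n := ⟨hn.ne'⟩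
  -- lift the first matrix unit
  obtain ⟨ε, hε, hπε, hε0⟩ : ∃ ε : R, IsIdempotentElem ε ∧ π ε = Matrix.single 0 0 1 ∧
      ε * e0 = ε := by
    let f : R →+* Matrix (Fin n) (Fin n) k × (R ⧸ Ring.jacobson R) :=
      π.toRingHom.prod (Ideal.Quotient.mk (Ring.jacobson R))
    have hnil : ∀ x ∈ RingHom.ker f, IsNilpotent x := fun x hx =>
      isNilpotent_of_mem k (Ideal.Quotient.eq_zero_iff_mem.1 (congrArg Prod.snd hx))
    obtain ⟨a, ha⟩ := hπ (Matrix.single 0 0 1)
    have hid : IsIdempotentElem (f (a * e0)) := by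
      refine Prod.ext ?_ ?_
      · show π (a * e0) * π (a * e0) = π (a * e0)
        rw [map_mul, ha, hπ0, mul_one, Matrix.single_mul_single_same, one_mul]
      · show Ideal.Quotient.mk _ (a * e0) * Ideal.Quotient.mk _ (a * e0) = Ideal.Quotient.mk _ (a * e0)
        rw [← map_mul, Ideal.Quotient.mk_eq_mk_iff_sub_mem]
        have hx : π ((a * e0) * (a * e0) - a * e0) = 0 := by
          simp [map_mul, ha, hπ0, Matrix.single_mul_single_same]
        have := hker _ hx
        rwa [sub_mul, mul_assoc (a * e0), mul_assoc a e0 e0, he.eq] at this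
    obtain ⟨e', he', hfe⟩ := exists_isIdempotentElem_eq_of_ker_isNilpotent f hnil _ ⟨_, rfl⟩ hid
    refine ⟨e' * e0, he'.mul_of_commute (hc e').symm he, ?_, by rw [mul_assoc, he.eq]⟩
    have h1 : π e' = π (a * e0) := congrArg Prod.fst hfe
    rw [map_mul, hπ0, mul_one, h1, map_mul, hπ0, mul_one, ha]
  -- lifts of the matrix units of the first row and column
  choose U hU using fun j : Fin n => hπ (Matrix.single j 0 1)
  choose W hW using fun j : Fin n => hπ (Matrix.single 0 j 1)
  obtain ⟨v, hv⟩ : ∃ v : Fin n → R, v = fun j => ε * W j := ⟨_, rfl⟩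
  set w := ∑ j, U j * ε * v j with hw
  have hπv : ∀ j, π (v j) = Matrix.single 0 j 1 := fun j => by
    rw [hv, map_mul, hπε, hW, Matrix.single_mul_single_same, one_mul]
  have hπw : π w = 1 := by
    simp only [hw, map_sum, map_mul, hπε, hU, hπv, Matrix.single_mul_single_same, mul_one]
    ext a b
    rw [Matrix.sum_apply, Finset.sum_eq_single a (fun i _ hi => by simp [Matrix.single_apply, hi])
      (fun h => absurd (Finset.mem_univ a) h), Matrix.one_apply]
    simp [Matrix.single_apply]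
  have hwe : w * e0 = w := by
    rw [hw, Finset.sum_mul]
    refine Finset.sum_congr rfl fun j _ => ?_
    simp only [hv, mul_assoc]
    rw [← (hc (W j)).eq, ← mul_assoc ε e0, hε0]
  have hunit : IsUnit (w + (1 - e0)) := by
    have h : w + (1 - e0) = 1 + (w - e0) * e0 := by rw [sub_mul, hwe, he.eq]; abel
    rw [h]
    exact (isNilpotent_of_mem k (hker _ (by rw [map_sub, hπw, hπ0, sub_self]))).isUnit_one_add
  obtain ⟨z, hz⟩ := hunit
  set r : R := ↑z⁻¹
  have hrw : r * w = e0 := by
    have h : r * (w + (1 - e0)) * e0 = e0 := by rw [← hz, Units.inv_mul, one_mul]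
    rwa [mul_assoc, add_mul, hwe, sub_mul, one_mul, he.eq, sub_self, add_zero] at h
  have hπr : π r = 1 := by
    have h := congrArg π (Units.inv_mul z)
    rwa [map_mul, hz, map_add, map_sub, hπw, map_one, hπ0, sub_self, add_zero, mul_one] at h
  obtain ⟨u, hu⟩ : ∃ u : Fin n → R, u = fun j => r * (U j * ε) := ⟨_, rfl⟩
  have hπu : ∀ j, π (u j) = Matrix.single j 0 1 := fun j => by
    rw [hu, map_mul, map_mul, hπr, one_mul, hU, hπε, Matrix.single_mul_single_same, one_mul]
  have huv : ∑ j, u j * v j = e0 := by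
    rw [← hrw, hw, Finset.mul_sum]
    exact Finset.sum_congr rfl fun j _ => by simp only [hu, mul_assoc]
  have hue : ∀ j, u j * ε = u j := fun j => by simp only [hu, mul_assoc, hε.eq]
  have hve : ∀ j, ε * v j = v j := fun j => by simp only [hv, ← mul_assoc, hε.eq]
  have he0u : ∀ j, e0 * u j = u j := fun j => by
    rw [(hc (u j)).eq]; simp only [hu, mul_assoc, hε0]
  set C := LinearMap.range (LinearMap.mulLeftRight k (ε, ε)) with hC
  have hmemC : ∀ x, x ∈ C ↔ ε * x * ε = x := fun x => by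
    constructor
    · rintro ⟨y, rfl⟩
      simp only [LinearMap.mulLeftRight_apply, mul_assoc, hε.eq]
      rw [← mul_assoc ε ε, hε.eq]
    · exact fun h => ⟨x, by simp [LinearMap.mulLeftRight_apply, h]⟩
  have hεC : ε ∈ C := (hmemC ε).2 (by rw [hε.eq, hε.eq])
  have hεl : ∀ x ∈ C, ε * x = x := fun x hx => by
    rw [← (hmemC x).1 hx, ← mul_assoc, ← mul_assoc, hε.eq]
  have hεr : ∀ x ∈ C, x * ε = x := fun x hx => by
    rw [← (hmemC x).1 hx, mul_assoc, hε.eq]
  have hCmul : ∀ {a b}, a ∈ C → b ∈ C → a * b ∈ C := fun {a b} ha hb => (hmemC _).2 (by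
    rw [← mul_assoc, hεl a ha, mul_assoc, hεr b hb])
  have hsand : ∀ i x l, v i * x * u l ∈ C := fun i x l => by
    rw [hmemC, ← mul_assoc, ← mul_assoc, hve, mul_assoc, hue]
  have hτ : ∀ τ ∈ F, ∀ x, τ x = ∑ j, τ (v j * x * u j) := fun τ hτ x => by
    rw [← ((hF τ).1 hτ).2 x, ← huv, Finset.mul_sum, map_sum]
    exact Finset.sum_congr rfl fun j _ => by rw [← mul_assoc, ((hF τ).1 hτ).1, ← mul_assoc]
  -- restriction to the corner
  let res : F →ₗ[k] Module.Dual k C := (LinearMap.lcomp k k C.subtype).comp F.subtype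
  have hres : Function.Injective res := by
    rw [injective_iff_map_eq_zero]
    intro τ h
    refine Subtype.ext (LinearMap.ext fun x => ?_)
    rw [hτ τ.1 τ.2]
    exact Finset.sum_eq_zero fun j _ => LinearMap.congr_fun h ⟨_, hsand j x j⟩
  have hrange : ∀ σ : Module.Dual k C, (∀ (a b : R) (ha : a * b ∈ C) (hb : b * a ∈ C),
      a ∈ C → b ∈ C → σ ⟨a * b, ha⟩ = σ ⟨b * a, hb⟩) → σ ∈ LinearMap.range res := by
    intro σ hσ
    let pC : R →ₗ[k] C := (LinearMap.mulLeftRight k (ε, ε)).rangeRestrict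
    have hpC : ∀ x (hx : x ∈ C), pC x = ⟨x, hx⟩ := fun x hx => Subtype.ext ((hmemC x).1 hx)
    have hσ' : ∀ a b, a ∈ C → b ∈ C → σ (pC (a * b)) = σ (pC (b * a)) := fun a b ha hb => by
      rw [hpC _ (hCmul ha hb), hpC _ (hCmul hb ha)]
      exact hσ a b _ _ ha hb
    let τ : R →ₗ[k] k := ∑ j, σ ∘ₗ pC ∘ₗ LinearMap.mulLeftRight k (v j, u j)
    have hτa : ∀ x, τ x = ∑ j, σ (pC (v j * x * u j)) := fun x => by
      simp [τ, LinearMap.mulLeftRight_apply]
    have htr' : ∀ x y, τ (x * y) = τ (y * x) := by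
      have key : ∀ x y, τ (x * y) = ∑ j, ∑ l, σ (pC ((v j * x * u l) * (v l * y * u j))) := by
        intro x y
        rw [hτa]
        refine Finset.sum_congr rfl fun j _ => ?_
        rw [← map_sum, ← map_sum]
        congr 2
        calc v j * (x * y) * u j = v j * x * e0 * (y * u j) := by
              rw [mul_assoc (v j * x), ← mul_assoc e0, (hc y).eq, mul_assoc y, he0u]
              simp only [mul_assoc]
          _ = _ := by
              rw [← huv, Finset.mul_sum, Finset.sum_mul]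
              exact Finset.sum_congr rfl fun l _ => by simp only [mul_assoc]
      intro x y
      rw [key, key, Finset.sum_comm]
      exact Finset.sum_congr rfl fun j _ => Finset.sum_congr rfl fun l _ =>
        hσ' _ _ (hsand _ _ _) (hsand _ _ _)
    have htF : τ ∈ F := (hF τ).2 ⟨htr', fun x => by
      simp only [hτa]
      exact Finset.sum_congr rfl fun j _ => by rw [← mul_assoc, mul_assoc (v j * x), he0u]⟩
    refine ⟨⟨τ, htF⟩, LinearMap.ext fun c => ?_⟩
    show τ c.1 = σ c
    rw [hτa]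
    refine Eq.trans ?_ (congrArg σ ((hpC c.1 c.2).trans (Subtype.coe_eta c c.2)))
    have h1 : ∀ j, σ (pC (v j * c.1 * u j)) = σ (pC (c.1 * u j * v j * ε)) := fun j => by
      have hA : v j * ε ∈ C := by rw [hmemC, ← mul_assoc, hve, mul_assoc, hε.eq]
      have hB : c.1 * u j ∈ C := by rw [hmemC, ← mul_assoc, hεl _ c.2, mul_assoc, hue]
      rw [show v j * c.1 * u j = (v j * ε) * (c.1 * u j) by
        simp only [mul_assoc]; rw [← mul_assoc ε c.1, hεl _ c.2], hσ' _ _ hA hB, ← mul_assoc]
    simp only [h1]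
    rw [← map_sum, ← map_sum]
    congr 2
    rw [← Finset.sum_mul, show ∑ j, c.1 * u j * v j = c.1 * e0 by
      rw [← huv, Finset.mul_sum]; exact Finset.sum_congr rfl fun j _ => mul_assoc _ _ _,
      mul_assoc, (hc ε).eq, hε0, hεr _ c.2]
  have hdim : ∀ T : Submodule k R, T ≤ C → (∀ a b, a ∈ C → b ∈ C → a * b - b * a ∈ T) →
      finrank k C ≤ finrank k T + m := by
    intro T hTC hT
    set T' : Subspace k C := T.comap C.subtype
    have h1 := Subspace.finrank_add_finrank_dualAnnihilator_eq T'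
    have h2 : finrank k T' = finrank k T := (Submodule.comapSubtypeEquivOfLe hTC).finrank_eq
    have h3 : finrank k T'.dualAnnihilator ≤ m := by
      rw [← hFm, ← LinearMap.finrank_range_of_inj hres]
      refine Submodule.finrank_mono fun σ hσ => hrange σ fun a b hab hba ha hb => ?_
      rw [← sub_eq_zero, ← map_sub]
      exact (Submodule.mem_dualAnnihilator σ).1 hσ _ (hT a b ha hb)
    omega
  -- the radical of the corner
  set N : Submodule k R := C ⊓ LinearMap.ker π.toLinearMap with hN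
  have hCe : ∀ x ∈ C, x * e0 = x := fun x hx => by
    rw [← (hmemC x).1 hx, mul_assoc, hε0]
  have hNJ : ∀ x ∈ N, x ∈ Ring.jacobson R := fun x hx => by
    rw [← hCe x hx.1]; exact hker x hx.2
  have hdec : ∀ x ∈ C, ∃ c : k, x - c • ε ∈ N := fun x hx => by
    refine ⟨π x 0 0, sub_mem hx (C.smul_mem _ hεC), ?_⟩
    show π (x - π x 0 0 • ε) = 0
    have h : π x = Matrix.single 0 0 (π x 0 0) := by
      conv_lhs => rw [← (hmemC x).1 hx, map_mul, map_mul, hπε, Matrix.single_mul_mul_single]
      simp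
    rw [map_sub, map_smul, hπε, h, Matrix.single_apply_same, Matrix.smul_single, smul_eq_mul,
      mul_one, sub_self]
  have hεN : ε ∉ N := fun h => by
    have := congrFun (congrFun (hπε.symm.trans h.2) 0) 0
    simp at this
  have hNmul : N * N ≤ N := Submodule.mul_le.2 fun a ha b hb =>
    ⟨hCmul ha.1 hb.1, by
      show π (a * b) = 0
      rw [map_mul, show π a = 0 from ha.2, zero_mul]⟩
  have hndC : ∀ x ∈ C, x ≠ 0 → ∃ y ∈ C, τ₀ (x * y) ≠ 0 := fun x hx hx0 => by
    obtain ⟨y, hy⟩ := hnd x hx0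
    refine ⟨ε * y * ε, (hmemC _).2 ?_, ?_⟩
    · rw [← mul_assoc, ← mul_assoc, hε.eq, mul_assoc, hε.eq]
    · rwa [show x * (ε * y * ε) = x * y * ε by rw [← mul_assoc, ← mul_assoc, hεr x hx], htr,
        ← mul_assoc, hεl x hx]
  have hcomm := comm_of_local_symmetric hεC hεl hεr hdec inf_le_left hεN hNmul hNJ τ₀ htr hndC hm hdim
  have hCm : finrank k C = m := by
    have h1 := LinearMap.finrank_le_finrank_of_injective hres
    rw [hFm, Subspace.dual_finrank_eq] at h1
    have h2 := hdim ⊥ bot_le fun a b ha hb => by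
      rw [Submodule.mem_bot, sub_eq_zero, hcomm a ha b hb]
    rw [finrank_bot] at h2
    omega
  -- the matrix `v a * u i` is the identity modulo the radical
  have hD : ∀ a i, v a * u i - (if a = i then ε else 0) ∈ N := by
    intro a i
    refine ⟨sub_mem ?_ ?_, ?_⟩
    · have h := hsand a 1 i
      rwa [mul_one] at h
    · split_ifs
      · exact hεC
      · exact zero_mem _
    · show π (v a * u i - (if a = i then ε else 0)) = 0
      rw [map_sub, map_mul, hπv, hπu]
      split_ifs with h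
      · subst h; rw [Matrix.single_mul_single_same, one_mul, hπε, sub_self]
      · rw [Matrix.single_mul_single_of_ne _ _ _ _ h, map_zero, sub_zero]
  obtain ⟨M0, hM0⟩ := exists_radPow_eq_bot k R
  have hcol : ∀ c : Fin n → R, (∀ i, c i ∈ radPow k R 0 ∧ ε * c i = c i) → ∑ i, u i * c i = 0 →
      ∀ i, c i = 0 := by
    intro c hc' h0
    have hall : ∀ j, ∀ i, c i ∈ radPow k R j := fun j => by
      induction j with
      | zero => exact fun i => (hc' i).1
      | succ j ih =>
        intro a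
        have h1 : ∑ i, (v a * u i) * c i = 0 := by
          rw [← mul_zero (v a), ← h0, Finset.mul_sum]
          exact Finset.sum_congr rfl fun i _ => mul_assoc _ _ _
        have h2 : c a = -∑ i, (v a * u i - if a = i then ε else 0) * c i := by
          rw [eq_neg_iff_add_eq_zero]
          simp only [sub_mul, Finset.sum_sub_distrib, ite_mul, zero_mul, Finset.sum_ite_eq,
            Finset.mem_univ, if_true, h1, (hc' a).2]
          abel
        rw [h2]
        refine neg_mem (Submodule.sum_mem _ fun i _ => ?_)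
        rw [mem_radPow, Ideal.IsTwoSided.pow_succ]
        exact Ideal.mul_mem_mul (hNJ _ (hD a i)) (mem_radPow.1 (ih i))
    intro i
    have := hall M0 i
    rwa [hM0] at this
  have hrow : ∀ c : Fin n → R, (∀ i, c i ∈ radPow k R 0 ∧ c i * ε = c i) → ∑ i, c i * v i = 0 →
      ∀ i, c i = 0 := by
    intro c hc' h0
    have hall : ∀ j, ∀ i, c i ∈ radPow k R j := fun j => by
      induction j with
      | zero => exact fun i => (hc' i).1
      | succ j ih =>
        intro a
        have h1 : ∑ i, c i * (v i * u a) = 0 := by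
          rw [← zero_mul (u a), ← h0, Finset.sum_mul]
          exact Finset.sum_congr rfl fun i _ => (mul_assoc _ _ _).symm
        have h2 : c a = -∑ i, c i * (v i * u a - if i = a then ε else 0) := by
          rw [eq_neg_iff_add_eq_zero]
          simp only [mul_sub, Finset.sum_sub_distrib, mul_ite, mul_zero, Finset.sum_ite_eq',
            Finset.mem_univ, if_true, h1, (hc' a).2]
          abel
        rw [h2]
        refine neg_mem (Submodule.sum_mem _ fun i _ => ?_)
        rw [mem_radPow, Submodule.pow_succ]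
        exact Ideal.mul_mem_mul (mem_radPow.1 (ih i)) (hNJ _ (hD i a))
    intro i
    have := hall M0 i
    rwa [hM0] at this
  have htop : ∀ x : R, x ∈ radPow k R 0 := fun x => by
    rw [mem_radPow, Submodule.pow_zero, Ideal.one_eq_top]; exact Submodule.mem_top
  refine ⟨n, ?_, ε, hε, ?_⟩
  · set A := LinearMap.range (LinearMap.mulRight k e0) with hA
    have hmemA : ∀ x, x ∈ A ↔ x * e0 = x := fun x =>
      ⟨fun ⟨y, hy⟩ => by rw [← hy]; simp [mul_assoc, he.eq], fun h => ⟨x, by simpa using h⟩⟩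
    let Ψ : (Fin n → Fin n → C) →ₗ[k] R :=
      ∑ i, ∑ l, LinearMap.mulLeftRight k (u i, v l) ∘ₗ C.subtype ∘ₗ LinearMap.proj l ∘ₗ LinearMap.proj i
    have hΨ : ∀ c, Ψ c = ∑ i, ∑ l, u i * (c i l).1 * v l := fun c => by
      simp [Ψ, LinearMap.mulLeftRight_apply]
    have hΨr : LinearMap.range Ψ = A := by
      refine le_antisymm ?_ fun x hx => ⟨fun i l => ⟨_, hsand i x l⟩, ?_⟩
      · rintro _ ⟨c, rfl⟩
        rw [hmemA, hΨ, Finset.sum_mul]
        refine Finset.sum_congr rfl fun i _ => ?_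
        rw [Finset.sum_mul]
        refine Finset.sum_congr rfl fun l _ => ?_
        simp only [hv, mul_assoc]
        rw [← (hc (W l)).eq, ← mul_assoc ε e0, hε0]
      · rw [hΨ]
        have : ∑ i, ∑ l, u i * (v i * x * u l) * v l = (∑ i, u i * v i) * x * ∑ l, u l * v l := by
          rw [Finset.sum_mul, Finset.sum_mul]
          exact Finset.sum_congr rfl fun i _ => by rw [Finset.mul_sum]; simp only [mul_assoc]
        rw [this, huv, (hc x).eq, mul_assoc, he.eq, (hmemA x).1 hx]
    have hΨi : Function.Injective Ψ := by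
      rw [injective_iff_map_eq_zero]
      intro c hc0
      rw [hΨ] at hc0
      have h1 : ∑ i, u i * (∑ l, (c i l).1 * v l) = 0 := by
        rw [← hc0]
        exact Finset.sum_congr rfl fun i _ => by
          rw [Finset.mul_sum]; exact Finset.sum_congr rfl fun l _ => (mul_assoc _ _ _).symm
      have h2 := hcol _ (fun i => ⟨htop _, by
        rw [Finset.mul_sum]
        exact Finset.sum_congr rfl fun l _ => by rw [← mul_assoc, hεl _ (c i l).2]⟩) h1
      funext a b
      exact Subtype.ext (hrow (fun l => (c a l).1) (fun l => ⟨htop _, hεr _ (c a l).2⟩) (h2 a) b)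
    rw [← hΨr, LinearMap.finrank_range_of_inj hΨi, Module.finrank_pi_fintype]
    simp [Module.finrank_pi_fintype, hCm]
    ring
  · set A := LinearMap.range (LinearMap.mulRight k ε) with hA
    have hmemA : ∀ x, x ∈ A ↔ x * ε = x := fun x =>
      ⟨fun ⟨y, hy⟩ => by rw [← hy]; simp [mul_assoc, hε.eq], fun h => ⟨x, by simpa using h⟩⟩
    let Ψ : (Fin n → C) →ₗ[k] R :=
      ∑ i, LinearMap.mulLeft k (u i) ∘ₗ C.subtype ∘ₗ LinearMap.proj i
    have hΨ : ∀ c, Ψ c = ∑ i, u i * (c i).1 := fun c => by simp [Ψ]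
    have hΨr : LinearMap.range Ψ = A := by
      refine le_antisymm ?_ fun x hx => ⟨fun i => ⟨v i * x, ?_⟩, ?_⟩
      · rintro _ ⟨c, rfl⟩
        rw [hmemA, hΨ, Finset.sum_mul]
        exact Finset.sum_congr rfl fun i _ => by rw [mul_assoc, hεr _ (c i).2]
      · rw [hmemC, ← mul_assoc, hve, mul_assoc, (hmemA x).1 hx]
      · rw [hΨ]
        have : ∑ i, u i * (v i * x) = e0 * x := by
          rw [← huv, Finset.sum_mul]; simp only [mul_assoc]
        rw [this, (hc x).eq, ← (hmemA x).1 hx, mul_assoc, hε0]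
    have hΨi : Function.Injective Ψ := by
      rw [injective_iff_map_eq_zero]
      intro c hc0
      rw [hΨ] at hc0
      funext i
      exact Subtype.ext (hcol (fun i => (c i).1) (fun i => ⟨htop _, hεl _ (c i).2⟩) hc0 i)
    rw [← hΨr, LinearMap.finrank_range_of_inj hΨi, Module.finrank_pi_fintype]
    simp [hCm]

end Cfsg.Agent.Blocks.LocalSymmetric
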