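import Cfsg.Agent.Lib.BrauerPairs.MinimalRank
import Mathlib.GroupTheory.Sylow
import Mathlib.LinearAlgebra.Dual.Lemmas

/-!
# Projective left ideals of a group algebra

* `card_dvd_finrank_range_mulRight`: for an idempotent `ε` of `k[G]` over a field of characteristic
  `p` and a `p`-subgroup `H`, the order of `H` divides the dimension of `k[G] ε`.
-/

namespace Cfsg.Agent.Blocks.ProjDim

set_option linter.style.haveILetI false

open Module (finrank)

variable {k : Type*} [Field k] {p : ℕ} [Fact p.Prime] [CharP k p]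

section Generate

variable {V : Type*} [AddCommGroup V] [Module k V] {H : Type*} [Group H]

/-- The sum of the images of `act h - 1`. -/
noncomputable def augSub (act : H →* Module.End k V) : Submodule k V :=
  ⨆ h, LinearMap.range (act h - 1)

theorem sub_mem_augSub (act : H →* Module.End k V) (h : H) (v : V) :
    act h v - v ∈ augSub act :=
  Submodule.mem_iSup_of_mem h ⟨v, by simp⟩

/-- A module over a `p`-group is generated by any complement of the augmentation submodule. -/
theorem finrank_le_card_mul [Fintype H] [FiniteDimensional k V] (hH : IsPGroup p H)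
    (act : H →* Module.End k V) :
    finrank k V ≤ Fintype.card H * finrank k (V ⧸ augSub act) := by
  classical
  obtain ⟨S, hS⟩ := Submodule.exists_isCompl (augSub act)
  have hdim : finrank k S = finrank k (V ⧸ augSub act) :=
    (Submodule.quotientEquivOfIsCompl _ _ hS).finrank_eq.symm
  let Φ : (H → S) →ₗ[k] V := ∑ h, act h ∘ₗ S.subtype ∘ₗ LinearMap.proj h
  have hΦ : ∀ c, Φ c = ∑ h, act h (c h : V) := fun c => by simp [Φ]
  have hΦtop : LinearMap.range Φ = ⊤ := by
    by_contra hne
    have hSle : ∀ (h : H) (s : S), act h (s : V) ∈ LinearMap.range Φ := fun h s =>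
      ⟨Pi.single h s, by
        rw [hΦ, Finset.sum_eq_single h]
        · simp
        · intro b _ hb; simp [Pi.single_eq_of_ne hb]
        · intro hh; exact absurd (Finset.mem_univ _) hh⟩
    have hstab : ∀ (g : H) (v : V), v ∈ LinearMap.range Φ → act g v ∈ LinearMap.range Φ := by
      rintro g _ ⟨c, rfl⟩
      rw [hΦ, map_sum]
      refine Submodule.sum_mem _ fun h _ => ?_
      rw [show act g (act h (c h : V)) = act (g * h) (c h : V) by rw [map_mul]; rfl]
      exact hSle _ _
    let A : Submodule k (Module.Dual k V) := (LinearMap.range Φ).dualAnnihilator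
    let actA : H →* Module.End k A :=
      { toFun := fun g =>
          ((act g⁻¹).dualMap.comp A.subtype).codRestrict A fun φ => by
            refine (Submodule.mem_dualAnnihilator _).2 fun v hv => ?_
            exact (Submodule.mem_dualAnnihilator _).1 φ.2 _ (hstab _ _ hv)
        map_one' := LinearMap.ext fun φ => Subtype.ext (LinearMap.ext fun v => by simp)
        map_mul' := fun g h => LinearMap.ext fun φ => Subtype.ext (LinearMap.ext fun v => by simp) }
    have hA : A ≠ ⊥ := fun h => by
      have h1 := Subspace.finrank_add_finrank_dualAnnihilator_eq (LinearMap.range Φ)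
      rw [show (LinearMap.range Φ).dualAnnihilator = ⊥ from h, finrank_bot, add_zero] at h1
      exact hne (Submodule.eq_top_of_finrank_eq h1)
    obtain ⟨φ₀, hφ₀A, hφ₀⟩ := Submodule.exists_mem_ne_zero_of_ne_bot hA
    have hne0 : (⟨φ₀, hφ₀A⟩ : A) ≠ 0 := fun h => hφ₀ (congrArg Subtype.val h)
    obtain ⟨c, hc0, hfix⟩ :=
      BrauerPairs.MinimalRank.exists_fixed_combination (k := k) (p := p) (V := A) hH actA ⟨φ₀, hφ₀A⟩ hne0
    set φ : A := ∑ h, c h • actA h ⟨φ₀, hφ₀A⟩
    refine hc0 (Subtype.ext (LinearMap.ext fun v => ?_))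
    have hv : v ∈ augSub act ⊔ S := hS.sup_eq_top ▸ Submodule.mem_top
    obtain ⟨j, hj, s, hs, rfl⟩ := Submodule.mem_sup.1 hv
    have hs0 : (φ : Module.Dual k V) s = 0 :=
      (Submodule.mem_dualAnnihilator _).1 φ.2 _ (by simpa using hSle 1 ⟨s, hs⟩)
    have hj0 : augSub act ≤ LinearMap.ker (φ : Module.Dual k V) := by
      refine iSup_le fun h => ?_
      rintro _ ⟨u, rfl⟩
      show (φ : Module.Dual k V) ((act h - 1) u) = 0
      rw [LinearMap.sub_apply, map_sub, sub_eq_zero]
      have := LinearMap.congr_fun (congrArg Subtype.val (hfix h⁻¹)) u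
      simpa [actA] using this
    rw [map_add, hs0, show (φ : Module.Dual k V) j = 0 from hj0 hj, add_zero]
    rfl
  calc finrank k V = finrank k (LinearMap.range Φ) := by rw [hΦtop, finrank_top]
    _ ≤ finrank k (H → S) := LinearMap.finrank_range_le Φ
    _ = _ := by rw [Module.finrank_pi_fintype, Finset.sum_const, Finset.card_univ, smul_eq_mul, hdim]

end Generate

variable {G : Type*} [Group G] [Finite G]

/-- The order of a `p`-subgroup divides the dimension of `k[G] ε`, `ε` idempotent. -/
theorem card_dvd_finrank_range_mulRight {H : Subgroup G} (hH : IsPGroup p H)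
    {ε : MonoidAlgebra k G} (hε : IsIdempotentElem ε) :
    Nat.card H ∣ finrank k (LinearMap.range (LinearMap.mulRight k ε)) := by
  classical
  letI := Fintype.ofFinite G
  letI := Fintype.ofFinite H
  haveI : FiniteDimensional k (MonoidAlgebra k G) := Module.Finite.of_basis (MonoidAlgebra.basis G k)
  set ε' : (MonoidAlgebra k G) := 1 - ε with hε'def
  have hε' : IsIdempotentElem ε' := hε.one_sub
  set W : (MonoidAlgebra k G) → Submodule k (MonoidAlgebra k G) := fun e => LinearMap.range (LinearMap.mulRight k e) with hW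
  have hstab : ∀ (e : (MonoidAlgebra k G)) (g : G), ∀ x ∈ W e, MonoidAlgebra.single g (1 : k) * x ∈ W e := by
    rintro e g _ ⟨y, rfl⟩
    exact ⟨MonoidAlgebra.single g 1 * y, by simp [mul_assoc]⟩
  let actW : ∀ e : (MonoidAlgebra k G), H →* Module.End k (W e) := fun e =>
    { toFun := fun h => ((LinearMap.mulLeft k (MonoidAlgebra.single (h : G) (1 : k))).comp
        (W e).subtype).codRestrict (W e) fun x => hstab e h x x.2
      map_one' := LinearMap.ext fun x => Subtype.ext (by
        simp [← MonoidAlgebra.one_def])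
      map_mul' := fun g h => LinearMap.ext fun x => Subtype.ext (by
        show MonoidAlgebra.single ((g : G) * h) (1 : k) * (x : MonoidAlgebra k G) =
          MonoidAlgebra.single (g : G) (1 : k) * (MonoidAlgebra.single (h : G) (1 : k) * (x : MonoidAlgebra k G))
        rw [← mul_assoc, MonoidAlgebra.single_mul_single, one_mul]) }
  let r : Quotient (QuotientGroup.rightRel H) → G := Quotient.out
  -- representatives of the cosets generate modulo the augmentation
  let q : ∀ e : (MonoidAlgebra k G), (MonoidAlgebra k G) →ₗ[k] (W e ⧸ augSub (actW e)) := fun e =>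
    (augSub (actW e)).mkQ ∘ₗ (LinearMap.mulRight k e).rangeRestrict
  have hq : ∀ (e : (MonoidAlgebra k G)) (g : G), q e (MonoidAlgebra.single g 1) =
      q e (MonoidAlgebra.single (r ⟦g⟧) 1) := by
    intro e g
    have hrel : g * (r ⟦g⟧)⁻¹ ∈ H := QuotientGroup.rightRel_apply.1
      (Quotient.eq.1 (Quotient.out_eq (⟦g⟧ : Quotient (QuotientGroup.rightRel H))))
    refine (Submodule.Quotient.eq _).2 ?_
    have h := sub_mem_augSub (actW e) ⟨_, hrel⟩
      ((LinearMap.mulRight k e).rangeRestrict (MonoidAlgebra.single (r ⟦g⟧) 1))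
    refine (congrArg (· ∈ augSub (actW e)) (Subtype.ext ?_)).mp h
    show MonoidAlgebra.single (g * (r ⟦g⟧)⁻¹) (1 : k) * (MonoidAlgebra.single (r ⟦g⟧) 1 * e) -
        MonoidAlgebra.single (r ⟦g⟧) 1 * e =
      MonoidAlgebra.single g 1 * e - MonoidAlgebra.single (r ⟦g⟧) 1 * e
    rw [← mul_assoc, MonoidAlgebra.single_mul_single, one_mul, inv_mul_cancel_right]
  let ψ : (Quotient (QuotientGroup.rightRel H) → k) →ₗ[k]
      (W ε ⧸ augSub (actW ε)) × (W ε' ⧸ augSub (actW ε')) :=
    ((q ε).prod (q ε')) ∘ₗ ∑ Q, (LinearMap.proj Q).smulRight (MonoidAlgebra.single (r Q) (1 : k))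
  have hψ : Function.Surjective ψ := by
    rintro ⟨a, b⟩
    obtain ⟨⟨w, y, rfl⟩, rfl⟩ := Submodule.Quotient.mk_surjective _ a
    obtain ⟨⟨w', y', rfl⟩, rfl⟩ := Submodule.Quotient.mk_surjective _ b
    set z : (MonoidAlgebra k G) := y * ε + y' * ε' with hz
    have hz1 : z * ε = y * ε := by
      rw [hz, add_mul, mul_assoc, hε.eq, mul_assoc, hε'def, sub_mul, one_mul, hε.eq, sub_self,
        mul_zero, add_zero]
    have hz2 : z * ε' = y' * ε' := by
      rw [hz, add_mul, mul_assoc, mul_assoc, hε'.eq, hε'def, mul_sub, mul_one, hε.eq, sub_self,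
        mul_zero, zero_add]
    refine ⟨fun Q => ∑ g ∈ Finset.univ.filter (fun g : G => (⟦g⟧ : Quotient _) = Q), z.coeff g, ?_⟩
    have key : ∀ e : (MonoidAlgebra k G), q e z = q e (∑ Q, (∑ g ∈ Finset.univ.filter
        (fun g : G => (⟦g⟧ : Quotient (QuotientGroup.rightRel H)) = Q), z.coeff g) •
          MonoidAlgebra.single (r Q) (1 : k)) := by
      intro e
      conv_lhs => rw [Blocks.eq_sum_single z]
      rw [map_sum, map_sum, ← Finset.sum_fiberwise Finset.univ
        (fun g : G => (⟦g⟧ : Quotient (QuotientGroup.rightRel H)))]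
      refine Finset.sum_congr rfl fun Q _ => ?_
      rw [map_smul, Finset.sum_smul]
      refine Finset.sum_congr rfl fun g hg => ?_
      rw [← (Finset.mem_filter.1 hg).2, ← hq, ← map_smul, MonoidAlgebra.smul_single, smul_eq_mul,
        mul_one]
    have k1 := key ε
    have k2 := key ε'
    simp only [ψ, LinearMap.comp_apply, LinearMap.prod_apply, LinearMap.sum_apply,
      LinearMap.smulRight_apply, LinearMap.proj_apply]
    refine Prod.ext ?_ ?_
    · exact k1.symm.trans (congrArg (Submodule.Quotient.mk) (Subtype.ext hz1))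
    · exact k2.symm.trans (congrArg (Submodule.Quotient.mk) (Subtype.ext hz2))
  -- counting
  have hcod := LinearMap.finrank_le_finrank_of_surjective hψ
  rw [Module.finrank_prod, Module.finrank_pi, Fintype.card_eq_nat_card] at hcod
  have hindex : Nat.card H * Nat.card (Quotient (QuotientGroup.rightRel H)) = Nat.card G := by
    rw [Nat.card_congr (QuotientGroup.quotientRightRelEquivQuotientLeftRel H)]
    exact H.card_mul_index
  have htot : finrank k (W ε) + finrank k (W ε') = Nat.card G := by
    have hc : IsCompl (W ε) (W ε') := by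
      constructor
      · rw [Submodule.disjoint_def]
        rintro x ⟨y, rfl⟩ ⟨y', hy'⟩
        simp only [LinearMap.mulRight_apply] at hy' ⊢
        have h := congrArg (· * ε) hy'
        simp only [mul_assoc, hε.eq, hε'def, sub_mul, one_mul, sub_self, mul_zero] at h
        exact h.symm
      · rw [codisjoint_iff, Submodule.eq_top_iff']
        intro x
        exact Submodule.mem_sup.2 ⟨x * ε, ⟨x, rfl⟩, x * ε', ⟨x, rfl⟩, by
          rw [← mul_add, hε'def, add_sub_cancel, mul_one]⟩
    rw [Submodule.finrank_add_eq_of_isCompl hc,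
      Module.finrank_eq_card_basis (MonoidAlgebra.basis G k), Nat.card_eq_fintype_card]
  have hu := finrank_le_card_mul hH (actW ε)
  have hu' := finrank_le_card_mul hH (actW ε')
  rw [Fintype.card_eq_nat_card] at hu hu'
  refine ⟨finrank k (W ε ⧸ augSub (actW ε)), ?_⟩
  show finrank k (W ε) = _
  have := Nat.mul_le_mul_left (Nat.card H) hcod
  rw [hindex, mul_add] at this
  omega

end Cfsg.Agent.Blocks.ProjDim
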