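import Cfsg.Agent.Lib.Blocks.LocalRing
import Mathlib.Algebra.MonoidAlgebra.Basic
import Mathlib.GroupTheory.PGroup
import Mathlib.RingTheory.Artinian.Module

/-!
# Group algebras: coefficients, central elements, reduction modulo `M`
-/

set_option linter.style.haveILetI false
set_option linter.unusedSectionVars false

namespace Cfsg.Agent.Blocks

open Cfsg MonoidAlgebra

section General

variable {R : Type*} [CommRing R] {G : Type*} [Group G] [Finite G]

/-- The group algebra element with a given coefficient function. -/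
noncomputable def ofFun (f : G → R) : MonoidAlgebra R G :=
  MonoidAlgebra.ofCoeff (Finsupp.equivFunOnFinite.symm f)

@[simp] theorem coeff_ofFun (f : G → R) (g : G) : (ofFun f).coeff g = f g := by simp [ofFun]

theorem alg_ext {z w : MonoidAlgebra R G} (h : ∀ g, z.coeff g = w.coeff g) : z = w :=
  MonoidAlgebra.ext (Finsupp.ext h)

theorem eq_sum_single [Fintype G] (z : MonoidAlgebra R G) :
    z = ∑ x, MonoidAlgebra.single x (z.coeff x) := by
  classical
  refine alg_ext fun g => ?_
  simp [Finsupp.single_apply]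

theorem coeff_single_mul' (a : G) (r : R) (z : MonoidAlgebra R G) (g : G) :
    (MonoidAlgebra.single a r * z).coeff g = r * z.coeff (a⁻¹ * g) := by
  classical
  haveI := Fintype.ofFinite G
  simp [MonoidAlgebra.coeff_mul, Finsupp.sum_fintype, Finsupp.single_apply,
    mul_eq_one_iff_eq_inv, ← eq_inv_mul_iff_mul_eq]

theorem coeff_mul_single' (z : MonoidAlgebra R G) (a : G) (r : R) (g : G) :
    (z * MonoidAlgebra.single a r).coeff g = z.coeff (g * a⁻¹) * r := by
  classical
  haveI := Fintype.ofFinite G
  conv_lhs => rw [eq_sum_single z, Finset.sum_mul]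
  simp [MonoidAlgebra.single_mul_single, Finsupp.single_apply, ← eq_mul_inv_iff_mul_eq]

theorem coeff_mul_eq_sum [Fintype G] (z w : MonoidAlgebra R G) (g : G) :
    (z * w).coeff g = ∑ x, z.coeff x * w.coeff (x⁻¹ * g) := by
  conv_lhs => rw [eq_sum_single z, Finset.sum_mul]
  simp [coeff_single_mul']

theorem coeff_mul_eq_sum' [Fintype G] (z w : MonoidAlgebra R G) (g : G) :
    (z * w).coeff g = ∑ y, z.coeff (g * y⁻¹) * w.coeff y := by
  conv_lhs => rw [eq_sum_single w, Finset.mul_sum]
  simp [coeff_mul_single']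

/-- The coefficient function is constant on conjugacy classes. -/
def IsCentralElt (z : MonoidAlgebra R G) : Prop :=
  ∀ g h : G, z.coeff (h * g * h⁻¹) = z.coeff g

theorem isCentralElt_ofFun {f : G → R} (hf : ∀ g h : G, f (h * g * h⁻¹) = f g) :
    IsCentralElt (ofFun f) := fun g h => by simp [hf g h]

theorem IsCentralElt.apply_mul_comm {z : MonoidAlgebra R G} (hz : IsCentralElt z) (a b : G) :
    z.coeff (a * b) = z.coeff (b * a) := by
  have := hz (b * a) a
  rwa [show a * (b * a) * a⁻¹ = a * b by group] at this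

theorem IsCentralElt.apply_of_isConj {z : MonoidAlgebra R G} (hz : IsCentralElt z) {a b : G}
    (h : IsConj a b) : z.coeff a = z.coeff b := by
  obtain ⟨c, rfl⟩ := isConj_iff.1 h
  exact (hz a c).symm

theorem IsCentralElt.commute {z : MonoidAlgebra R G} (hz : IsCentralElt z)
    (w : MonoidAlgebra R G) : Commute z w := by
  haveI := Fintype.ofFinite G
  refine alg_ext fun g => ?_
  rw [coeff_mul_eq_sum', coeff_mul_eq_sum]
  exact Finset.sum_congr rfl fun y _ => by rw [mul_comm, IsCentralElt.apply_mul_comm hz g y⁻¹]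

theorem isCentralElt_iff_commute {z : MonoidAlgebra R G} :
    IsCentralElt z ↔ ∀ a : G, Commute z (MonoidAlgebra.single a 1) := by
  refine ⟨fun hz a => IsCentralElt.commute hz _, fun h g a => ?_⟩
  have := congrArg (fun t => MonoidAlgebra.coeff t (a * g)) (h a).eq
  simp only [coeff_mul_single', coeff_single_mul', mul_one, one_mul, inv_mul_cancel_left] at this
  exact this

theorem isCentralElt_zero : IsCentralElt (0 : MonoidAlgebra R G) := fun g h => by simp

theorem isCentralElt_one : IsCentralElt (1 : MonoidAlgebra R G) :=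
  isCentralElt_iff_commute.2 fun a => Commute.one_left _

theorem IsCentralElt.add {z w : MonoidAlgebra R G} (hz : IsCentralElt z) (hw : IsCentralElt w) :
    IsCentralElt (z + w) := fun g h => by simp [hz g h, hw g h]

theorem IsCentralElt.neg {z : MonoidAlgebra R G} (hz : IsCentralElt z) : IsCentralElt (-z) :=
  isCentralElt_iff_commute.2 fun a => (IsCentralElt.commute hz _).neg_left

theorem IsCentralElt.sub {z w : MonoidAlgebra R G} (hz : IsCentralElt z) (hw : IsCentralElt w) :
    IsCentralElt (z - w) := sub_eq_add_neg z w ▸ IsCentralElt.add hz (IsCentralElt.neg hw)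

theorem IsCentralElt.smul {z : MonoidAlgebra R G} (c : R) (hz : IsCentralElt z) :
    IsCentralElt (c • z) := fun g h => by simp [hz g h]

theorem IsCentralElt.mul {z w : MonoidAlgebra R G} (hz : IsCentralElt z) (hw : IsCentralElt w) :
    IsCentralElt (z * w) :=
  isCentralElt_iff_commute.2 fun _ =>
    (IsCentralElt.commute hz _).mul_left (IsCentralElt.commute hw _)

theorem IsCentralElt.pow {z : MonoidAlgebra R G} (hz : IsCentralElt z) (n : ℕ) :
    IsCentralElt (z ^ n) :=
  isCentralElt_iff_commute.2 fun _ => (IsCentralElt.commute hz _).pow_left n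

theorem IsCentralElt.sum {ι : Type*} (s : Finset ι) {f : ι → MonoidAlgebra R G}
    (h : ∀ i ∈ s, IsCentralElt (f i)) : IsCentralElt (∑ i ∈ s, f i) :=
  Finset.sum_induction f _ (fun _ _ => IsCentralElt.add) isCentralElt_zero h

open Classical in
/-- The sum of the conjugates of `g`. -/
noncomputable def classSum (R : Type*) [CommRing R] {G : Type*} [Group G] [Finite G] (g : G) :
    MonoidAlgebra R G :=
  ofFun fun x => if IsConj g x then 1 else 0

open Classical in
@[simp] theorem coeff_classSum (g x : G) :
    (classSum R g).coeff x = if IsConj g x then 1 else 0 := by simp [classSum]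

theorem isCentralElt_classSum (g : G) : IsCentralElt (classSum R g) := by
  classical
  intro a h
  have h1 : IsConj a (h * a * h⁻¹) := isConj_iff.2 ⟨h, rfl⟩
  simp only [coeff_classSum, show IsConj g (h * a * h⁻¹) ↔ IsConj g a from
    ⟨fun h' => h'.trans h1.symm, fun h' => h'.trans h1⟩]

/-- A central element is a combination of class sums. -/
theorem IsCentralElt.eq_sum_classSum [Fintype (ConjClasses G)] {z : MonoidAlgebra R G}
    (hz : IsCentralElt z) : z = ∑ C : ConjClasses G, z.coeff C.out • classSum R C.out := by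
  classical
  refine alg_ext fun g => ?_
  have hout : ∀ C : ConjClasses G, IsConj C.out g ↔ C = ConjClasses.mk g := by
    intro C
    rw [← ConjClasses.mk_eq_mk_iff_isConj]
    exact ⟨fun h => (Quotient.out_eq C).symm.trans h, fun h => (Quotient.out_eq C).trans h⟩
  simp only [MonoidAlgebra.coeff_sum, Finsupp.coe_finsetSum, Finset.sum_apply, coeff_smul,
    Finsupp.coe_smul, Pi.smul_apply, coeff_classSum, hout, smul_eq_mul, mul_ite, mul_one,
    mul_zero, Finset.sum_ite_eq', Finset.mem_univ, if_true]
  exact IsCentralElt.apply_of_isConj hz ((hout _).2 rfl).symm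

end General

section Coefficients

variable {G : Type*} [Group G] [Finite G] {M : Ideal AlgInt}

variable (M) in
/-- All coefficients are local integers. -/
def SCoeff (z : MonoidAlgebra ℂ G) : Prop := ∀ g, MemLocalRing M (z.coeff g)

variable (M) in
/-- All coefficients lie in the local ideal. -/
def MCoeff (z : MonoidAlgebra ℂ G) : Prop := ∀ g, MemLocalIdeal M (z.coeff g)

theorem MCoeff.scoeff {z : MonoidAlgebra ℂ G} (h : MCoeff M z) : SCoeff M z :=
  fun g => memLocalRing_of_memLocalIdeal (h g)

variable [M.IsPrime]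

theorem scoeff_zero : SCoeff M (0 : MonoidAlgebra ℂ G) := fun g => by
  simpa using memLocalRing_zero (M := M)

theorem mcoeff_zero : MCoeff M (0 : MonoidAlgebra ℂ G) := fun g => by
  simpa using memLocalIdeal_zero (M := M)

theorem scoeff_single (a : G) {r : ℂ} (hr : MemLocalRing M r) :
    SCoeff M (MonoidAlgebra.single a r) := fun g => by
  classical
  simp only [coeff_single, Finsupp.single_apply]
  split_ifs
  exacts [hr, memLocalRing_zero]

theorem scoeff_one : SCoeff M (1 : MonoidAlgebra ℂ G) := scoeff_single 1 memLocalRing_one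

theorem scoeff_ofFun {f : G → ℂ} (hf : ∀ g, MemLocalRing M (f g)) : SCoeff M (ofFun f) :=
  fun g => by simpa using hf g

theorem scoeff_classSum (g : G) : SCoeff M (classSum ℂ g) := fun x => by
  classical
  simp only [coeff_classSum]
  split_ifs
  exacts [memLocalRing_one, memLocalRing_zero]

theorem SCoeff.add {z w : MonoidAlgebra ℂ G} (hz : SCoeff M z) (hw : SCoeff M w) :
    SCoeff M (z + w) := fun g => by simpa using MemLocalRing.add (hz g) (hw g)

theorem SCoeff.neg {z : MonoidAlgebra ℂ G} (hz : SCoeff M z) : SCoeff M (-z) := fun g => by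
  simpa using MemLocalRing.neg (hz g)

theorem SCoeff.sub {z w : MonoidAlgebra ℂ G} (hz : SCoeff M z) (hw : SCoeff M w) :
    SCoeff M (z - w) := fun g => by simpa using MemLocalRing.sub (hz g) (hw g)

theorem SCoeff.smul {z : MonoidAlgebra ℂ G} {c : ℂ} (hc : MemLocalRing M c) (hz : SCoeff M z) :
    SCoeff M (c • z) := fun g => by simpa using MemLocalRing.mul hc (hz g)

theorem SCoeff.mul {z w : MonoidAlgebra ℂ G} (hz : SCoeff M z) (hw : SCoeff M w) :
    SCoeff M (z * w) := fun g => by
  haveI := Fintype.ofFinite G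
  rw [coeff_mul_eq_sum]
  exact MemLocalRing.sum _ fun x _ => MemLocalRing.mul (hz x) (hw _)

theorem SCoeff.pow {z : MonoidAlgebra ℂ G} (hz : SCoeff M z) (n : ℕ) : SCoeff M (z ^ n) := by
  induction n with
  | zero => rw [pow_zero]; exact scoeff_one
  | succ n ih => rw [pow_succ]; exact SCoeff.mul ih hz

theorem SCoeff.sum {ι : Type*} (s : Finset ι) {f : ι → MonoidAlgebra ℂ G}
    (h : ∀ i ∈ s, SCoeff M (f i)) : SCoeff M (∑ i ∈ s, f i) :=
  Finset.sum_induction f _ (fun _ _ => SCoeff.add) scoeff_zero h

theorem MCoeff.add {z w : MonoidAlgebra ℂ G} (hz : MCoeff M z) (hw : MCoeff M w) :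
    MCoeff M (z + w) := fun g => by simpa using MemLocalIdeal.add (hz g) (hw g)

theorem MCoeff.sub {z w : MonoidAlgebra ℂ G} (hz : MCoeff M z) (hw : MCoeff M w) :
    MCoeff M (z - w) := fun g => by simpa using MemLocalIdeal.sub (hz g) (hw g)

theorem MCoeff.mul_right {z w : MonoidAlgebra ℂ G} (hz : MCoeff M z) (hw : SCoeff M w) :
    MCoeff M (z * w) := fun g => by
  haveI := Fintype.ofFinite G
  rw [coeff_mul_eq_sum]
  exact MemLocalIdeal.sum _ fun x _ => MemLocalIdeal.mul_right (hz x) (hw _)

theorem MCoeff.mul_left {z w : MonoidAlgebra ℂ G} (hz : SCoeff M z) (hw : MCoeff M w) :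
    MCoeff M (z * w) := fun g => by
  haveI := Fintype.ofFinite G
  rw [coeff_mul_eq_sum]
  exact MemLocalIdeal.sum _ fun x _ => MemLocalIdeal.mul_left (hz x) (hw _)

end Coefficients

section Reduction

variable {G : Type*} [Group G] [Finite G] (M : Ideal AlgInt) [M.IsMaximal]

/-- Coefficientwise reduction modulo `M`. -/
noncomputable def redA (z : MonoidAlgebra ℂ G) : MonoidAlgebra (AlgInt ⧸ M) G :=
  ofFun fun g => red M (z.coeff g)

variable {M}

@[simp] theorem coeff_redA (z : MonoidAlgebra ℂ G) (g : G) :
    (redA M z).coeff g = red M (z.coeff g) := by simp [redA]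

theorem redA_zero : redA M (0 : MonoidAlgebra ℂ G) = 0 := alg_ext fun g => by simp

theorem redA_single (a : G) (r : ℂ) :
    redA M (MonoidAlgebra.single a r) = MonoidAlgebra.single a (red M r) := alg_ext fun g => by
  classical
  simp only [coeff_redA, coeff_single, Finsupp.single_apply]
  split_ifs <;> simp

theorem redA_one : redA M (1 : MonoidAlgebra ℂ G) = 1 := by
  rw [MonoidAlgebra.one_def, redA_single, red_one, MonoidAlgebra.one_def]

theorem redA_add {z w : MonoidAlgebra ℂ G} (hz : SCoeff M z) (hw : SCoeff M w) :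
    redA M (z + w) = redA M z + redA M w := alg_ext fun g => by simp [red_add (hz g) (hw g)]

theorem redA_sub {z w : MonoidAlgebra ℂ G} (hz : SCoeff M z) (hw : SCoeff M w) :
    redA M (z - w) = redA M z - redA M w := alg_ext fun g => by simp [red_sub (hz g) (hw g)]

theorem redA_smul {z : MonoidAlgebra ℂ G} {c : ℂ} (hc : MemLocalRing M c) (hz : SCoeff M z) :
    redA M (c • z) = red M c • redA M z := alg_ext fun g => by simp [red_mul hc (hz g)]

theorem redA_mul {z w : MonoidAlgebra ℂ G} (hz : SCoeff M z) (hw : SCoeff M w) :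
    redA M (z * w) = redA M z * redA M w := alg_ext fun g => by
  haveI := Fintype.ofFinite G
  rw [coeff_redA, coeff_mul_eq_sum, coeff_mul_eq_sum,
    red_sum _ fun x _ => MemLocalRing.mul (hz x) (hw _)]
  exact Finset.sum_congr rfl fun x _ => by rw [red_mul (hz x) (hw _), coeff_redA, coeff_redA]

theorem redA_pow {z : MonoidAlgebra ℂ G} (hz : SCoeff M z) (n : ℕ) :
    redA M (z ^ n) = redA M z ^ n := by
  induction n with
  | zero => rw [pow_zero, pow_zero, redA_one]
  | succ n ih => rw [pow_succ, pow_succ, redA_mul (SCoeff.pow hz n) hz, ih]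

theorem redA_classSum (g : G) : redA M (classSum ℂ g) = classSum (AlgInt ⧸ M) g :=
  alg_ext fun x => by
    classical
    simp only [coeff_redA, coeff_classSum]
    split_ifs <;> simp

theorem redA_eq_zero_iff {z : MonoidAlgebra ℂ G} (hz : SCoeff M z) :
    redA M z = 0 ↔ MCoeff M z := by
  refine ⟨fun h g => ?_, fun h => alg_ext fun g => by simp [red_eq_zero_of_mem (h g)]⟩
  rw [← red_eq_zero_iff (hz g), ← coeff_redA, h]
  rfl

theorem redA_eq_iff {z w : MonoidAlgebra ℂ G} (hz : SCoeff M z) (hw : SCoeff M w) :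
    redA M z = redA M w ↔ MCoeff M (z - w) := by
  rw [← redA_eq_zero_iff (SCoeff.sub hz hw), redA_sub hz hw, sub_eq_zero]

theorem isCentralElt_redA {z : MonoidAlgebra ℂ G} (hz : IsCentralElt z) :
    IsCentralElt (redA M z) := fun g h => by simp [hz g h]

end Reduction

section PGroupSums

/-- Summing an invariant function over a set with a `p`-group action, only fixed points matter
modulo `p`. -/
theorem sum_eq_sum_fixedPoints {p : ℕ} [Fact p.Prime] {Q : Type*} [Group Q] [Finite Q]
    (hQ : IsPGroup p Q) {α : Type*} [Fintype α] [MulAction Q α] {N : Type*} [AddCommGroup N]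
    (hN : ∀ a : N, p • a = 0) (f : α → N) (hf : ∀ (q : Q) (a : α), f (q • a) = f a)
    [DecidablePred (· ∈ MulAction.fixedPoints Q α)] :
    ∑ a, f a = ∑ a ∈ Finset.univ.filter (· ∈ MulAction.fixedPoints Q α), f a := by
  classical
  rw [← Finset.sum_filter_add_sum_filter_not Finset.univ (· ∈ MulAction.fixedPoints Q α) f,
    add_eq_left]
  rw [← Finset.sum_fiberwise (Finset.univ.filter fun a => ¬ a ∈ MulAction.fixedPoints Q α)
    (fun a => (Quotient.mk'' a : MulAction.orbitRel.Quotient Q α)) f]
  refine Finset.sum_eq_zero fun C _ => ?_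
  induction C using Quotient.inductionOn' with | _ b => ?_
  by_cases hb : b ∈ MulAction.fixedPoints Q α
  · refine Finset.sum_eq_zero fun a ha => absurd ?_ (Finset.mem_filter.1 (Finset.mem_filter.1 ha).1).2
    obtain ⟨q, hq⟩ := Quotient.eq''.1 (Finset.mem_filter.1 ha).2
    rw [← hq]
    simpa only [hb q] using hb
  obtain ⟨k, hk⟩ := IsPGroup.card_orbit hQ b
  have hk0 : k ≠ 0 := fun h => hb (MulAction.mem_fixedPoints_iff_card_orbit_eq_one.2
    (by rw [← Nat.card_eq_fintype_card, hk, h, pow_zero]))
  have hset : ((Finset.univ.filter fun a => ¬ a ∈ MulAction.fixedPoints Q α).filter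
      fun a => (Quotient.mk'' a : MulAction.orbitRel.Quotient Q α) = Quotient.mk'' b) =
      (MulAction.orbit Q b).toFinset := by
    ext a
    simp only [Finset.mem_filter, Finset.mem_univ, true_and, Set.mem_toFinset, Quotient.eq'']
    refine ⟨fun h => h.2, fun h => ⟨fun ha => hb ?_, h⟩⟩
    obtain ⟨q, rfl⟩ := h
    rw [show b = q • b from (inv_smul_smul q b).symm.trans (ha q⁻¹)]
    exact ha
  rw [hset, Finset.sum_congr rfl (g := fun _ => f b) fun a ha => ?_, Finset.sum_const]
  · have hc : (MulAction.orbit Q b).toFinset.card = p ^ k := by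
      rw [← hk, Nat.card_eq_fintype_card, Set.toFinset_card]
    rw [hc, ← Nat.sub_add_cancel (Nat.pos_of_ne_zero hk0), pow_succ, mul_nsmul, hN, ]
  · obtain ⟨q, rfl⟩ := Set.mem_toFinset.1 ha
    exact hf q b

end PGroupSums

end Cfsg.Agent.Blocks
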