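import Cfsg.Agent.Lib.Blocks.FirstMain
import Cfsg.Agent.Lib.Blocks.PPart
import Cfsg.Agent.Lib.Char.Descend
import Cfsg.Agent.Lib.Char.Congruence

/-!
# `p`-parts of classes with unit central character and centres of defect groups
-/

namespace Cfsg.Agent.Blocks

open scoped ComplexConjugate

set_option linter.style.haveILetI false
set_option linter.unusedSectionVars false

universe u

variable {G : Type u} [Group G] [Finite G] {M : Ideal AlgInt} [M.IsMaximal]
variable {p : ℕ} [hp : Fact p.Prime]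

/-- A character is constant modulo `M` on multiplying by a commuting `p`-element. -/
theorem memLocalIdeal_char_mul_sub (hpM : (p : AlgInt) ∈ M) {χ : G → ℂ} (hχ : IsCharacter G χ)
    {x s : G} (hc : Commute x s) {k : ℕ} (hx : orderOf x = p ^ k) :
    MemLocalIdeal M (χ (x * s) - χ s) := by
  haveI := charP_residue hpM
  set N := (Nat.card G).factorization p
  have hint : ∀ a, MemLocalRing M (χ a) := fun a =>
    memLocalRing_of_isIntegral (CharInt.isIntegral_char hχ a)
  have key : ∀ a, red M (χ a) ^ p ^ N = red M (χ (a ^ p ^ N)) := by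
    intro a
    obtain ⟨γ, hγ⟩ := Char.exists_char_pow_sub hp.out hχ a N
    rw [← red_pow (hint a), red_eq_iff (MemLocalRing.pow (hint a) _) (hint _), hγ]
    exact MemLocalIdeal.mul_right (memLocalIdeal_p hpM) (memLocalRing_coe γ)
  rw [← red_eq_iff (hint _) (hint _), ← sub_eq_zero]
  apply eq_zero_of_pow_eq_zero (n := p ^ N)
  rw [sub_pow_char_pow, key, key, Char.pow_pPart_eq hp.out hc hx N le_rfl, sub_self]

variable (hpM : (p : AlgInt) ∈ M)
include hpM

/-- In a block whose defect group `Q` is normal, a class with unit central character has `p`-part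
in `Q`. -/
theorem isPPart_mem_of_normal {B : Set (IrrCharacter G)} (hB : IsPBlock M B) {Q : Subgroup G}
    [Q.Normal] (hQ : IsDefectGroup p M B Q) {χ : IrrCharacter G} (hχ : χ ∈ B) {h z : G}
    (hh : ¬ MemLocalIdeal M (centralChar χ.1 h)) (hz : IsPPart p h z) : z ∈ Q := by
  classical
  haveI := Fintype.ofFinite G
  haveI := Fintype.ofFinite Q
  have hQp := IsDefectGroup.isPGroup hQ
  -- a member of the block is trivial on `Q`
  obtain ⟨ψ, hψ, hψQ⟩ : ∃ ψ ∈ B, Char.TrivOn Q ψ.1 := by
    by_contra hno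
    push Not at hno
    have h0 : ∑ u : Q, blockCoeff B (u : G) = 0 := by
      simp only [blockCoeff_eq_sum, ← Finset.mul_sum]
      rw [Finset.sum_comm, Finset.sum_eq_zero, mul_zero]
      intro ψ hψ
      have := Char.sum_coset_eq_zero_of_not_trivOn Q ψ (hno ψ (Finset.mem_filter.1 hψ).2) 1
      simp only [one_mul] at this
      rw [← Finset.mul_sum, ← map_sum, this, map_zero, mul_zero]
    rw [Finset.sum_eq_single (1 : Q)] at h0
    · have hpos : (0 : ℕ) < ∑ ψ ∈ Finset.univ.filter (· ∈ B), Char.degree ψ ^ 2 :=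
        Finset.sum_pos (fun ψ _ => pow_pos (Char.degree_pos ψ) 2)
          ⟨χ, Finset.mem_filter.2 ⟨Finset.mem_univ _, hχ⟩⟩
      simp only [Subgroup.coe_one, blockCoeff_eq_sum, Char.apply_one_eq_degree, map_natCast,
        mul_eq_zero, inv_eq_zero, Nat.cast_eq_zero, Nat.card_pos.ne', false_or] at h0
      simp only [← pow_two] at h0
      exact hpos.ne' (by exact_mod_cast h0)
    · intro u _ hu
      obtain ⟨k, hk⟩ := IsPGroup.iff_orderOf.1 hQp u
      refine blockCoeff_eq_zero hpM hB fun hr => hu ?_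
      refine Subtype.ext ((isPRegular_mul_iff (p := p) (g := 1) (Commute.one_left _)
        (by simp [IsPRegular, hp.out.ne_one]) ⟨k, by rw [Subgroup.orderOf_coe, hk]⟩).1 ?_)
      rwa [one_mul]
    · exact fun h => absurd (Finset.mem_univ _) h
  have hh' : ¬ MemLocalIdeal M (centralChar ψ.1 h) :=
    fun hI => hh ((memLocalIdeal_centralChar_iff hB hχ hψ h).2 hI)
  obtain ⟨η, hη⟩ := Char.exists_descend Q ψ hψQ
  -- the descended character has defect zero
  obtain ⟨g, hg, hgQ⟩ := isDefectGroup_iff.1 hQ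
  have hdeg : Char.degree η = Char.degree ψ := by
    apply Nat.cast_injective (R := ℂ)
    rw [← Char.apply_one_eq_degree, ← Char.apply_one_eq_degree, ← hη 1, QuotientGroup.mk_one]
  have h1 := factorization_index_le_degree hpM ψ (hg.2.2 ψ hψ)
  have h2 := factorization_index (p := p) (Subgroup.centralizer ({g} : Set G))
  have h3 : (Nat.card (G ⧸ Q)).factorization p + (Nat.card Q).factorization p =
      (Nat.card G).factorization p := by
    rw [Subgroup.card_eq_card_quotient_mul_card_subgroup Q,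
      Nat.factorization_mul Nat.card_pos.ne' Nat.card_pos.ne', Finsupp.add_apply]
  have h4 : (Nat.card Q).factorization p =
      (Nat.card (Subgroup.centralizer ({g} : Set G))).factorization p := by
    rw [hgQ.2, hp.out.factorization_pow, Finsupp.single_eq_same]
  haveI := Fintype.ofFinite (G ⧸ Q)
  have hdz : blockOf M η.1 = {η} := by
    rw [blockOf_eq_singleton_iff hpM]
    refine le_antisymm ((Nat.factorization_le_iff_dvd (Char.degree_pos η).ne'
      Nat.card_pos.ne').2 ?_ p) (by rw [hdeg]; omega)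
    rw [← Char.charDegree_eq_degree]
    exact Char.charDegree_dvd_card η
  -- so it vanishes at singular elements
  have hreg : IsPRegular p ((h : G) : G ⧸ Q) := by
    by_contra hsing
    have := blockCoeff_eq_zero hpM (isPBlock_blockOf η) hsing
    rw [blockCoeff_eq_sum, hdz] at this
    simp [Finset.filter_eq', irr_one_ne_zero η, hη] at this
    refine ne_zero_of_not_memLocalIdeal hh' ?_
    rw [centralChar, this, mul_zero, zero_div]
  obtain ⟨y, hzy, hc, ⟨k, hk⟩, hy⟩ := hz
  have hzmem : z ∈ Subgroup.zpowers h := IsPPart.mem_zpowers ⟨y, hzy, hc, ⟨k, hk⟩, hy⟩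
  refine (QuotientGroup.eq_one_iff z).1 ?_
  refine eq_one_of_orderOf_dvd_coprime (a := p ^ k) (b := orderOf ((h : G) : G ⧸ Q)) ?_ ?_ ?_
  · rw [← hk]; exact orderOf_map_dvd (QuotientGroup.mk' Q) z
  · obtain ⟨i, rfl⟩ := Subgroup.mem_zpowers_iff.1 hzmem
    rw [orderOf_dvd_iff_pow_eq_one, QuotientGroup.mk_zpow, ← zpow_natCast, zpow_comm,
      zpow_natCast, pow_orderOf_eq_one, one_zpow]
  · exact Nat.Coprime.pow_left _ ((Nat.Prime.coprime_iff_not_dvd hp.out).2 hreg)

/-- A class with unit central character meets `C(P)` in an element with `p`-part in `Z(P)`. -/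
theorem exists_conj_isPPart_mem {B : Set (IrrCharacter G)} (hB : IsPBlock M B) {P : Subgroup G}
    (hP : IsDefectGroup p M B P) {g : G} {χ : IrrCharacter G} (hχ : χ ∈ B)
    (hg : ¬ MemLocalIdeal M (centralChar χ.1 g)) :
    ∃ x : G, IsConj g x ∧ x ∈ Subgroup.centralizer (P : Set G) ∧
      ∀ z : G, IsPPart p x z → z ∈ P ∧ ∀ w ∈ P, z * w = w * z := by
  obtain ⟨b, hb, hbD⟩ := exists_block_normalizer hpM hB hP
  obtain ⟨ξ, hξ⟩ := block_nonempty hb.1
  obtain ⟨k, hgk, hk⟩ := IsInducedBlock.exists_unit_class hb hξ hχ hg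
  obtain ⟨k', hkk', hk'C⟩ := exists_conj_mem_centralizer hpM
    (Q := P.subgroupOf (Subgroup.normalizer (P : Set G))) (IsDefectGroup.isPGroup hbD) hk
  rw [← centralChar_of_isConj ξ hkk'] at hk
  have hcent : (k' : G) ∈ Subgroup.centralizer (P : Set G) := fun w hw =>
    congrArg Subtype.val (hk'C (⟨w, Subgroup.le_normalizer hw⟩ : Subgroup.normalizer (P : Set G)) hw)
  refine ⟨k', hgk.trans ?_, hcent, fun z hz => ?_⟩
  · exact (Subgroup.normalizer (P : Set G)).subtype.map_isConj hkk'
  have hzk : z ∈ Subgroup.zpowers (k' : G) := IsPPart.mem_zpowers hz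
  have hzC : z ∈ Subgroup.centralizer (P : Set G) := Subgroup.zpowers_le.2 hcent hzk
  refine ⟨?_, fun w hw => (hzC w hw).symm⟩
  obtain ⟨z', hz'⟩ := exists_isPPart (p := p) k'
  have hz'' : IsPPart p (k' : G) (z' : G) := by
    obtain ⟨y, hy1, hy2, ⟨j, hj⟩, hy3⟩ := hz'
    exact ⟨y, congrArg Subtype.val hy1, congrArg Subtype.val hy2,
      ⟨j, by rw [Subgroup.orderOf_coe, hj]⟩, by rwa [Subgroup.orderOf_coe]⟩
  rw [IsPPart.unique hz hz'']
  exact isPPart_mem_of_normal hpM hb.1 hbD hξ hk hz'

/-- Every element of the centre of a defect group is the `p`-part of a class with unit central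
character. -/
theorem exists_unit_class_of_center {B : Set (IrrCharacter G)} (hB : IsPBlock M B)
    {P : Subgroup G} (hP : IsDefectGroup p M B P) {x : G} (hx : x ∈ P)
    (hxc : ∀ w ∈ P, x * w = w * x) :
    ∃ s χ, χ ∈ B ∧ IsPPart p (x * s) x ∧ ¬ MemLocalIdeal M (centralChar χ.1 (x * s)) := by
  obtain ⟨s, hs, hsP⟩ := isDefectGroup_iff.1 hP
  obtain ⟨χ, hχ, h0⟩ := exists_height_zero hpM hB
  obtain ⟨k, hk⟩ := IsPGroup.iff_orderOf.1 (SylIn.isPGroup hsP) ⟨x, hx⟩
  rw [← Subgroup.orderOf_coe] at hk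
  have hc : Commute x s := (le_centralizer_singleton.1 hsP.1) x hx
  refine ⟨s, χ, hχ, isPPart_mul hc ⟨k, hk⟩ (IsDefectClass.isPRegular hpM hB hs), fun hI => ?_⟩
  set C := Subgroup.centralizer ({s} : Set G)
  set C' := Subgroup.centralizer ({x * s} : Set G)
  have hxz : x ∈ Subgroup.zpowers (x * s) :=
    IsPPart.mem_zpowers (isPPart_mul hc ⟨k, hk⟩ (IsDefectClass.isPRegular hpM hB hs))
  have hle : C' ≤ C := by
    intro u hu
    have h1 : Commute u (x * s) := Subgroup.mem_centralizer_singleton_iff.1 hu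
    obtain ⟨i, hi⟩ := Subgroup.mem_zpowers_iff.1 hxz
    have h2 : Commute u x := hi ▸ h1.zpow_right i
    refine Subgroup.mem_centralizer_singleton_iff.2 ?_
    have h3 := h2.inv_right.mul_right h1
    rwa [inv_mul_cancel_left] at h3
  have hPC' : P ≤ C' := by
    intro w hw
    refine Subgroup.mem_centralizer_singleton_iff.2 ?_
    exact (show Commute w x from (hxc w hw).symm).mul_right ((le_centralizer_singleton.1 hsP.1) w hw)
  have hm : ¬ p ∣ C'.relIndex C := by
    intro hd
    have h1 : (Nat.card P).factorization p ≤ (Nat.card C').factorization p :=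
      (Nat.factorization_le_iff_dvd Nat.card_pos.ne' Nat.card_pos.ne').2
        (Subgroup.card_dvd_of_le hPC') p
    rw [hsP.2, hp.out.factorization_pow, Finsupp.single_eq_same] at h1
    have h2 : Nat.card C' * C'.relIndex C = Nat.card C := by
      rw [← Nat.card_congr (Subgroup.subgroupOfEquivOfLe hle).toEquiv]
      exact Subgroup.card_mul_index _
    have hne : C'.relIndex C ≠ 0 := fun h => by rw [h, mul_zero] at h2; exact Nat.card_pos.ne' h2.symm
    have h3 := congrArg (fun n => n.factorization p) h2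
    simp only [Nat.factorization_mul Nat.card_pos.ne' hne, Finsupp.add_apply] at h3
    have h4 := hp.out.factorization_pos_of_dvd hne hd
    omega
  have hidx : C'.index = C'.relIndex C * C.index := (Subgroup.relIndex_mul_index hle).symm
  have hdeg := (blockHeight_eq_zero_iff hpM hB hs hχ).1 h0
  have hR : MemLocalRing M ((C.index : ℂ) / (Char.degree χ : ℂ)) :=
    (memLocalRing_natCast_div_iff hpM Subgroup.index_ne_zero_of_finite (Char.degree_pos χ).ne').2
      hdeg.le
  have key : centralChar χ.1 (x * s) = (C'.relIndex C : ℂ) * centralChar χ.1 s +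
      (C'.relIndex C : ℂ) * ((C.index : ℂ) / (Char.degree χ : ℂ)) *
        (χ.1 (x * s) - χ.1 s) := by
    rw [centralChar, centralChar, hidx, Nat.cast_mul, ← Char.apply_one_eq_degree]
    ring
  have h5 : MemLocalIdeal M ((C'.relIndex C : ℂ) * centralChar χ.1 s) := by
    have h6 := MemLocalIdeal.mul_left (MemLocalRing.mul (memLocalRing_natCast (C'.relIndex C)) hR)
      (memLocalIdeal_char_mul_sub hpM (Char.irr_isCharacter χ) hc hk)
    have := MemLocalIdeal.sub hI h6
    rwa [key, add_sub_cancel_right] at this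
  rcases MemLocalIdeal.mem_or_mem (memLocalRing_natCast _) (memLocalRing_centralChar χ s) h5
    with h | h
  · exact hm ((memLocalIdeal_natCast_iff hpM _).1 h)
  · exact hs.2.2 χ hχ h

/-- Central elements of the defect group of an induced block come from the centre of the inducing
one's. -/
theorem IsInducedBlock.exists_conj_center {H : Subgroup G} {b : Set (IrrCharacter H)}
    {B : Set (IrrCharacter G)} (hind : IsInducedBlock M H b B) {D : Subgroup H}
    (hD : IsDefectGroup p M b D) {P : Subgroup G} (hP : IsDefectGroup p M B P) {x : G}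
    (hx : x ∈ P) (hxc : ∀ w ∈ P, x * w = w * x) :
    ∃ g : G, g * x * g⁻¹ ∈ D.map H.subtype ∧
      ∀ w ∈ D.map H.subtype, (g * x * g⁻¹) * w = w * (g * x * g⁻¹) := by
  obtain ⟨s, χ, hχ, hxs, hu⟩ := exists_unit_class_of_center hpM hind.2.1 hP hx hxc
  obtain ⟨ξ, hξ⟩ := block_nonempty hind.1
  obtain ⟨k, hgk, hk⟩ := IsInducedBlock.exists_unit_class hind hξ hχ hu
  obtain ⟨k', hkk', -, hk'⟩ := exists_conj_isPPart_mem hpM hind.1 hD hξ hk
  obtain ⟨z, hz⟩ := exists_isPPart (p := p) k'
  obtain ⟨hzD, hzc⟩ := hk' z hz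
  have hzG : IsPPart p (k' : G) (z : G) := by
    obtain ⟨y, hy1, hy2, ⟨j, hj⟩, hy3⟩ := hz
    exact ⟨y, congrArg Subtype.val hy1, congrArg Subtype.val hy2,
      ⟨j, by rw [Subgroup.orderOf_coe, hj]⟩, by rwa [Subgroup.orderOf_coe]⟩
  obtain ⟨g, hg⟩ := isConj_iff.1 (hgk.trans (H.subtype.map_isConj hkk'))
  have h1 := IsPPart.conj hxs g
  rw [hg] at h1
  refine ⟨g, ?_, ?_⟩ <;> rw [IsPPart.unique h1 hzG]
  · exact ⟨z, hzD, rfl⟩
  · rintro _ ⟨w, hw, rfl⟩
    exact congrArg Subtype.val (hzc w hw)

end Cfsg.Agent.Blocks
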