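import Cfsg.Agent.Lib.Blocks.InducedHeight
import Cfsg.Agent.Lib.Blocks.PPartDefect
import Cfsg.Agent.Lib.Char.HeightZeroInduced

/-!
# Height zero characters and subsections
-/

namespace Cfsg.Agent.Blocks

open scoped ComplexConjugate

set_option linter.style.haveILetI false
set_option linter.unusedSectionVars false

universe u

variable {G : Type u} [Group G] [Fintype G] {M : Ideal AlgInt} [M.IsMaximal]
  {p : ℕ} [hp : Fact p.Prime]

theorem isCentralElt_regElt_of_classFun {f : G → ℂ} (hf : IsClassFunction G f) :
    IsCentralElt (Char.regElt p f) := by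
  classical
  refine isCentralElt_ofFun fun g h => ?_
  rw [show orderOf (h * g * h⁻¹) = orderOf g from
    orderOf_injective (MulAut.conj h).toMonoidHom (MulAut.conj h).injective g,
    show (h * g * h⁻¹)⁻¹ = h * g⁻¹ * h⁻¹ by group, hf g⁻¹ h]

/-- A block part has the same `ω_ξ (regElt _)` for `ξ` in the block. -/
theorem omega_regElt_blockPart (hpM : (p : AlgInt) ∈ M) {b : Set (IrrCharacter G)}
    (hb : IsPBlock M b) {ξ : IrrCharacter G} (hξ : ξ ∈ b) {f : G → ℂ} (hf : IsClassFunction G f) :
    omega ξ.1 (Char.regElt p (blockPart b f)) = omega ξ.1 (Char.regElt p f) := by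
  classical
  have hne := ne_zero_of_not_memLocalIdeal (not_memLocalIdeal_ordCompl (p := p) hpM
    (n := Nat.card G) Nat.card_pos.ne')
  have key : Char.regInner p (blockPart b f) ξ.1 = Char.regInner p f ξ.1 := by
    have h2 : blockPart b f =
        ∑ η ∈ Finset.univ.filter (· ∈ b), classInner f η.1 • η.1 := by
      funext g
      rw [Char.blockPart_apply]
      simp [Finset.sum_apply]
    have hlin : ∀ (s : Finset (IrrCharacter G)), Char.regFun p (∑ η ∈ s, classInner f η.1 • η.1) =
        ∑ η ∈ s, classInner f η.1 • Char.regFun p η.1 := by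
      intro s
      funext g
      by_cases hg : p ∣ orderOf g <;> simp [Char.regFun, hg, Finset.sum_apply]
    conv_rhs => rw [Char.eq_sum_classInner_smul hf]
    rw [h2, Char.regInner, Char.regInner, Char.classInner_smul_left, Char.classInner_smul_left,
      hlin, hlin, Char.classInner_sum_left, Char.classInner_sum_left]
    congr 1
    refine Finset.sum_subset (Finset.subset_univ _) fun η _ hη => ?_
    rw [Char.classInner_smul_left, Char.classInner_regFun_of_not_sameBlock hpM hp.out, mul_zero]
    exact fun hs => not_sameBlock_of_mem hb hξ (by simpa using hη) (SameBlock.symm hs)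
  have h1 := Char.regInner_div_eq_omega (p := p) hp.out (blockPart b f) ξ
  have h3 := Char.regInner_div_eq_omega (p := p) hp.out f ξ
  rw [key, h3] at h1
  exact (mul_left_cancel₀ (inv_ne_zero hne) h1).symm

/-- For a height zero character and an inducing block of `C(x)`, the block part of the
translate by `x` is nonzero at some regular element (Broué–Puig). -/
theorem exists_blockPart_translate_ne_zero (hpM : (p : AlgInt) ∈ M) {x : G} {k : ℕ}
    (hx : orderOf x = p ^ k) {B : Set (IrrCharacter G)} {χ : IrrCharacter G} (hχ : χ ∈ B)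
    (h0 : blockHeight p B χ.1 = 0)
    {b : Set (IrrCharacter (Subgroup.centralizer ({x} : Set G)))}
    (hb : IsInducedBlock M (Subgroup.centralizer ({x} : Set G)) b B) :
    ∃ y : Subgroup.centralizer ({x} : Set G), ¬ p ∣ orderOf y ∧
      blockPart b (fun c : Subgroup.centralizer ({x} : Set G) => χ.1 (x * (c : G))) y ≠ 0 := by
  classical
  haveI := Fintype.ofFinite (Subgroup.centralizer ({x} : Set G))
  by_contra hno
  push Not at hno
  obtain ⟨ξ, hξ⟩ := block_nonempty hb.1
  set θ : Subgroup.centralizer ({x} : Set G) → ℂ := fun c => χ.1 (x * (c : G)) with hθdef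
  have hθ : IsClassFunction (Subgroup.centralizer ({x} : Set G)) θ := fun c a => by
    have hc : x * (a : G) = (a : G) * x := (Subgroup.mem_centralizer_singleton_iff.1 a.2).symm
    show χ.1 (x * ((a : G) * c * (a : G)⁻¹)) = χ.1 (x * c)
    rw [← irr_classFun χ (x * c) a]
    rw [← mul_assoc, ← mul_assoc, hc]
    group
  have hz : omega ξ.1 (Char.regElt p θ) = 0 := by
    rw [← omega_regElt_blockPart hpM hb.1 hξ hθ,
      show Char.regElt p (blockPart b θ) = 0 from alg_ext fun g => ?_, omega_zero]
    by_cases hg : p ∣ orderOf g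
    · simp [Char.regElt, hg]
    · simp [Char.regElt, hg, hno g⁻¹ (by rwa [orderOf_inv])]
  refine not_memLocalIdeal_omega_resH_regElt hpM hb hξ hχ h0 ?_
  have hd : MemLocalIdeal M (omega ξ.1
      (resH (Subgroup.centralizer ({x} : Set G)) (Char.regElt p χ.1) - Char.regElt p θ)) := by
    refine memLocalIdeal_omega ξ (IsCentralElt.sub
      (isCentralElt_resH (Char.isCentralElt_regElt χ)) (isCentralElt_regElt_of_classFun hθ))
      fun g => ?_
    simp only [MonoidAlgebra.coeff_sub, Finsupp.sub_apply, coeff_resH, Char.regElt, coeff_ofFun,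
      Subgroup.orderOf_coe]
    by_cases hg : p ∣ orderOf g
    · simp [hg, memLocalIdeal_zero]
    · simp only [hg, if_false, hθdef, InvMemClass.coe_inv]
      have hc : Commute x ((g : G)⁻¹) := Commute.inv_right
        (Subgroup.mem_centralizer_singleton_iff.1 g.2).symm
      rw [← Char.memLocalIdeal_neg_iff, neg_sub]
      exact memLocalIdeal_char_mul_sub hpM (Char.irr_isCharacter χ) hc hx
  rwa [omega_sub, hz, sub_zero] at hd

end Cfsg.Agent.Blocks
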