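import Cfsg.Agent.Lib.Blocks.Brauer
import Cfsg.Agent.Lib.Char.HeightZero

/-!
# Induced blocks and height zero characters

If `b` induces `B` then `omega_ξ (resH z) ≡ omega_χ z` on local central elements; applied to
`z = regElt χ` this gives the theorems of Okuyama and Blau.
-/

namespace Cfsg.Agent.Blocks

open scoped ComplexConjugate

set_option linter.style.haveILetI false
set_option linter.unusedSectionVars false

universe u

variable {G : Type u} [Group G] [Fintype G] {M : Ideal AlgInt} [M.IsMaximal]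
  {p : ℕ} [hp : Fact p.Prime] {H : Subgroup G}

omit hp in
theorem memLocalIdeal_omega_resH_sub {b : Set (IrrCharacter H)} {B : Set (IrrCharacter G)}
    (hind : IsInducedBlock M H b B) {ξ : IrrCharacter H} (hξ : ξ ∈ b) {χ : IrrCharacter G}
    (hχ : χ ∈ B) {z : MonoidAlgebra ℂ G} (hz : IsCentralElt z) (hzS : SCoeff M z) :
    MemLocalIdeal M (omega ξ.1 (resH H z) - omega χ.1 z) := by
  classical
  haveI := Fintype.ofFinite (ConjClasses G)
  have h : omega ξ.1 (resH H z) =
      ∑ C : ConjClasses G, z.coeff C.out * inducedCentralChar H ξ.1 C.out := by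
    conv_lhs => rw [IsCentralElt.eq_sum_classSum hz, resH_sum, omega_sum]
    exact Finset.sum_congr rfl fun C _ => by rw [resH_smul, omega_smul, omega_resH_classSum]
  rw [h, omega_eq_sum_classes χ hz, ← Finset.sum_sub_distrib]
  refine MemLocalIdeal.sum _ fun C _ => ?_
  rw [← mul_sub]
  exact MemLocalIdeal.mul_left (hzS _) (hind.2.2 ξ hξ χ hχ _)

omit hp in
theorem not_memLocalIdeal_omega_resH_blockIdem {b : Set (IrrCharacter H)}
    {B : Set (IrrCharacter G)} (hind : IsInducedBlock M H b B) {ξ : IrrCharacter H} (hξ : ξ ∈ b)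
    (hpM : ((p : ℕ) : AlgInt) ∈ M) [Fact p.Prime] :
    ¬ MemLocalIdeal M (omega ξ.1 (resH H (blockIdem B))) := by
  obtain ⟨χ, hχ⟩ := block_nonempty hind.2.1
  intro h
  have h1 := MemLocalIdeal.sub h (memLocalIdeal_omega_resH_sub hind hξ hχ
    (isCentralElt_blockIdem B) (scoeff_blockIdem hind.2.1))
  rw [sub_sub_cancel, omega_blockIdem, if_pos hχ] at h1
  exact not_memLocalIdeal_one h1

variable [Fintype H]

/-- The `p'`-part of the order, as a unit. -/
theorem not_memLocalIdeal_ordCompl (hpM : (p : AlgInt) ∈ M) {n : ℕ} (hn : n ≠ 0) :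
    ¬ MemLocalIdeal M ((n / p ^ n.factorization p : ℕ) : ℂ) := by
  rw [memLocalIdeal_natCast_iff hpM]
  exact Nat.not_dvd_ordCompl hp.out hn

theorem omega_regElt (hpM : (p : AlgInt) ∈ M) (χ ψ : IrrCharacter G) :
    omega ψ.1 (Char.regElt p χ.1) =
      ((Nat.card G / p ^ (Nat.card G).factorization p : ℕ) : ℂ) *
        (Char.regInner p χ.1 ψ.1 / ψ.1 1) := by
  have hne := ne_zero_of_not_memLocalIdeal (not_memLocalIdeal_ordCompl (p := p) hpM
    (n := Nat.card G) Nat.card_pos.ne')
  rw [Char.regInner_div_eq_omega hp.out, ← mul_assoc, mul_inv_cancel₀ hne, one_mul]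

theorem not_memLocalIdeal_omega_regElt_iff (hpM : (p : AlgInt) ∈ M) (χ ψ : IrrCharacter G) :
    MemLocalIdeal M (omega ψ.1 (Char.regElt p χ.1)) ↔
      MemLocalIdeal M (Char.regInner p χ.1 ψ.1 / ψ.1 1) := by
  rw [omega_regElt hpM]
  have hu := not_memLocalIdeal_ordCompl (p := p) hpM (n := Nat.card G) Nat.card_pos.ne'
  exact ⟨fun h => (MemLocalIdeal.mem_or_mem (memLocalRing_natCast _)
    (Char.memLocalRing_regInner_div hpM hp.out χ ψ) h).resolve_left hu,
    fun h => MemLocalIdeal.mul_left (memLocalRing_natCast _) h⟩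

/-- Nonvanishing mod `M` forces the same block and height zero. -/
theorem height_zero_of_omega_regElt (hpM : (p : AlgInt) ∈ M) {B : Set (IrrCharacter G)}
    (hB : IsPBlock M B) {χ ψ : IrrCharacter G} (hψ : ψ ∈ B)
    (h : ¬ MemLocalIdeal M (omega ψ.1 (Char.regElt p χ.1))) :
    χ ∈ B ∧ blockHeight p B χ.1 = 0 := by
  obtain ⟨n, hn⟩ := Char.exists_int_regInner (p := p) hp.out χ ψ
  rw [not_memLocalIdeal_omega_regElt_iff hpM, hn, Char.apply_one_eq_degree,
    Char.memLocalIdeal_intCast_div_iff hpM n (Char.degree_pos ψ).ne'] at h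
  have hχ : χ ∈ B := by
    by_contra hχ
    rw [Char.regInner, Char.classInner_smul_left, Char.classInner_regFun_of_not_sameBlock hpM
      hp.out (fun hs => not_sameBlock_of_mem hB hψ hχ (SameBlock.symm hs)), mul_zero] at hn
    exact h (by simp [show n = 0 by exact_mod_cast hn.symm])
  exact ⟨hχ, (Char.blockHeight_eq_zero_iff_regInner hpM hp.out hB hχ hψ hn).2 h⟩

theorem omega_regElt_of_height_zero (hpM : (p : AlgInt) ∈ M) {B : Set (IrrCharacter G)}
    (hB : IsPBlock M B) {χ ψ : IrrCharacter G} (hχ : χ ∈ B) (hψ : ψ ∈ B)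
    (h0 : blockHeight p B χ.1 = 0) :
    ¬ MemLocalIdeal M (omega ψ.1 (Char.regElt p χ.1)) := by
  obtain ⟨n, hn⟩ := Char.exists_int_regInner (p := p) hp.out χ ψ
  rw [not_memLocalIdeal_omega_regElt_iff hpM, hn, Char.apply_one_eq_degree,
    Char.memLocalIdeal_intCast_div_iff hpM n (Char.degree_pos ψ).ne']
  exact (Char.blockHeight_eq_zero_iff_regInner hpM hp.out hB hχ hψ hn).1 h0

theorem not_memLocalIdeal_omega_resH_regElt (hpM : (p : AlgInt) ∈ M) {b : Set (IrrCharacter H)}
    {B : Set (IrrCharacter G)} (hind : IsInducedBlock M H b B) {ξ : IrrCharacter H} (hξ : ξ ∈ b)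
    {χ : IrrCharacter G} (hχ : χ ∈ B) (h0 : blockHeight p B χ.1 = 0) :
    ¬ MemLocalIdeal M (omega ξ.1 (resH H (Char.regElt p χ.1))) := fun h =>
  omega_regElt_of_height_zero hpM hind.2.1 hχ hχ h0 (by
    have := MemLocalIdeal.sub h (memLocalIdeal_omega_resH_sub hind hξ hχ
      (Char.isCentralElt_regElt (p := p) χ) (Char.scoeff_regElt χ))
    rwa [sub_sub_cancel] at this)

theorem resH_regElt_eq (χ : IrrCharacter G) (η : IrrCharacter H)
    (hη : η.1 = fun h : H => χ.1 h) : resH H (Char.regElt p χ.1) = Char.regElt p η.1 := by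
  refine alg_ext fun h => ?_
  simp [Char.regElt, hη, Subgroup.orderOf_coe]

/-- Okuyama's theorem. -/
theorem okuyama (hpM : (p : AlgInt) ∈ M) (χ : IrrCharacter G) (η : IrrCharacter H)
    (hη : η.1 = fun h : H => χ.1 h)
    (hχ0 : blockHeight p (blockOf M χ.1) χ.1 = 0)
    (hη0 : blockHeight p (blockOf M η.1) η.1 = 0)
    {e : Set (IrrCharacter H)} (he : InducedBlockDefined M H e) :
    IsInducedBlock M H e (blockOf M χ.1) ↔ e = blockOf M η.1 := by
  constructor
  · intro h
    obtain ⟨ξ, hξ⟩ := block_nonempty h.1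
    have h1 := not_memLocalIdeal_omega_resH_regElt hpM h hξ (mem_blockOf_self χ) hχ0
    rw [resH_regElt_eq χ η hη] at h1
    exact block_eq h.1 (height_zero_of_omega_regElt hpM h.1 hξ h1).1
  · rintro rfl
    obtain ⟨B', hB'⟩ := he
    obtain ⟨ψ, hψ⟩ := block_nonempty hB'.2.1
    have h1 := omega_regElt_of_height_zero hpM (isPBlock_blockOf (M := M) η) (mem_blockOf_self η)
      (mem_blockOf_self η) hη0
    have h2 : ¬ MemLocalIdeal M (omega ψ.1 (Char.regElt p χ.1)) := fun h => h1 (by
      have := MemLocalIdeal.add (memLocalIdeal_omega_resH_sub hB' (mem_blockOf_self η) hψ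
        (Char.isCentralElt_regElt (p := p) χ) (Char.scoeff_regElt χ)) h
      rwa [sub_add_cancel, resH_regElt_eq χ η hη] at this)
    rwa [← block_eq hB'.2.1 (height_zero_of_omega_regElt hpM hB'.2.1 hψ h2).1]

/-- Blau's theorem. -/
theorem blau (hpM : (p : AlgInt) ∈ M) {b : Set (IrrCharacter H)} {B : Set (IrrCharacter G)}
    (hind : IsInducedBlock M H b B) {χ : IrrCharacter G} (hχ : χ ∈ B)
    (h0 : blockHeight p B χ.1 = 0) :
    ∃ η ∈ b, blockHeight p b η.1 = 0 ∧
      ∃ n : ℕ, classInner (fun h : H => χ.1 h) η.1 = (n : ℂ) ∧ ¬ p ∣ n := by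
  classical
  obtain ⟨ξ, hξ⟩ := block_nonempty hind.1
  have h1 := not_memLocalIdeal_omega_resH_regElt hpM hind hξ hχ h0
  obtain ⟨m, hm, hm'⟩ := Char.IsCharacter.exists_decomp
    (Char.IsCharacter.restrict (Char.irr_isCharacter χ) H)
  have hdec : resH H (Char.regElt p χ.1) =
      ∑ η : IrrCharacter H, (m η : ℂ) • Char.regElt p η.1 := by
    refine alg_ext fun h => ?_
    have := congrFun hm h⁻¹
    simp only [InvMemClass.coe_inv, Finset.sum_apply, Pi.smul_apply, smul_eq_mul] at this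
    simp only [coeff_resH, MonoidAlgebra.coeff_sum, Finsupp.coe_finsetSum, Finset.sum_apply,
      MonoidAlgebra.coeff_smul, Finsupp.coe_smul, Pi.smul_apply, Char.regElt, coeff_ofFun,
      Subgroup.orderOf_coe, smul_eq_mul]
    by_cases hd : p ∣ orderOf h
    · simp [hd]
    · simp [hd, this]
  rw [hdec, omega_sum] at h1
  obtain ⟨η, hη⟩ : ∃ η : IrrCharacter H,
      ¬ MemLocalIdeal M (omega ξ.1 ((m η : ℂ) • Char.regElt p η.1)) := by
    by_contra hno
    push Not at hno
    exact h1 (MemLocalIdeal.sum _ fun η _ => hno η)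
  rw [omega_smul] at hη
  obtain ⟨hηb, hη0⟩ := height_zero_of_omega_regElt hpM hind.1 hξ fun h =>
    hη (MemLocalIdeal.mul_left (memLocalRing_natCast _) h)
  refine ⟨η, hηb, hη0, m η, hm' η, fun hd => hη ?_⟩
  exact MemLocalIdeal.mul_right ((memLocalIdeal_natCast_iff hpM _).2 hd)
    (memLocalRing_omega ξ (Char.isCentralElt_regElt η) (Char.scoeff_regElt η))

omit hp in
/-- Some member of the induced block lies over each member of the inducing block. -/
theorem exists_lying_over [Fact p.Prime] (hpM : (p : AlgInt) ∈ M) {b : Set (IrrCharacter H)}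
    {B : Set (IrrCharacter G)} (hind : IsInducedBlock M H b B) {ξ : IrrCharacter H} (hξ : ξ ∈ b) :
    ∃ χ ∈ B, classInner (fun h : H => χ.1 h) ξ.1 ≠ 0 := by
  classical
  by_contra hno
  push Not at hno
  refine not_memLocalIdeal_omega_resH_blockIdem hind hξ hpM ?_
  have hz : ∀ χ ∈ B, ∑ h : H, conj (χ.1 (h : G)) * ξ.1 h = 0 := by
    intro χ hχ
    have h := congrArg conj (hno χ hχ)
    simp only [classInner, map_mul, map_inv₀, map_natCast, map_sum, Complex.conj_conj, map_zero,
      mul_eq_zero, inv_eq_zero, Nat.cast_eq_zero, Nat.card_pos.ne', false_or] at h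
    exact h
  have h0 : chiL ξ.1 (resH H (blockIdem B)) = 0 := by
    simp only [chiL_eq_sum, coeff_resH, coeff_blockIdem, blockCoeff_eq_sum, Finset.mul_sum,
      Finset.sum_mul]
    rw [Finset.sum_comm]
    refine Finset.sum_eq_zero fun χ hχ => ?_
    simp only [mul_assoc, ← Finset.mul_sum]
    rw [hz χ (Finset.mem_filter.1 hχ).2, mul_zero, mul_zero]
  rw [omega, h0, zero_div]
  exact memLocalIdeal_zero

end Cfsg.Agent.Blocks
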