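import Cfsg.Agent.Lib.Blocks.Core
import Cfsg.Agent.Lib.Blocks.ModReduction
import Cfsg.Agent.Lib.Char.BrauerPermChar

/-!
# An involution of the character table acting on a union of 2-blocks

If an involutive symmetry of the character table stabilises a union of 2-blocks without fixing
any of its characters, then modulo `M` its symmetric class functions are norms, so they vanish at
every fixed class.
-/

set_option linter.style.haveILetI false
set_option linter.unusedSectionVars false

namespace Cfsg.Agent.Blocks

open Cfsg Matrix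
open scoped ComplexConjugate

universe u

section LinearAlgebra

variable {k : Type*} [Field k] {κ : Type*} [Fintype κ] [DecidableEq κ]

/-- The permutation matrix of `τ`. -/
def permMat {R : Type*} [Zero R] [One R] (τ : κ → κ) : Matrix κ κ R :=
  Matrix.of fun a b => if τ a = b then 1 else 0

omit [Fintype κ] in
theorem map_permMat {R S : Type*} [Semiring R] [Semiring S] (f : R →+* S) (τ : κ → κ) :
    (permMat τ : Matrix κ κ R).map f = permMat τ := by
  ext a b
  simp only [permMat, Matrix.map_apply, Matrix.of_apply]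
  split_ifs <;> simp

theorem permMat_mul {R : Type*} [Semiring R] (τ : κ → κ) (N : Matrix κ κ R) :
    permMat τ * N = Matrix.of fun a b => N (τ a) b := by
  ext a b
  simp [permMat, Matrix.mul_apply]

theorem permMat_mulVec {R : Type*} [Semiring R] (τ : κ → κ) (v : κ → R) :
    (permMat τ).mulVec v = fun a => v (τ a) := by
  funext a
  simp [permMat, Matrix.mulVec, dotProduct]

theorem mul_permMat {R : Type*} [Semiring R] {τ : κ → κ} (hτ : Function.Involutive τ)
    (N : Matrix κ κ R) : N * permMat τ = Matrix.of fun a b => N a (τ b) := by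
  ext a b
  rw [Matrix.mul_apply, Finset.sum_eq_single (τ b)]
  · simp [permMat, hτ b]
  · intro c _ hc
    have : τ c ≠ b := fun h => hc (by rw [← h, hτ c])
    simp [permMat, this]
  · simp

/-- Symmetric vectors in the image of a commuting idempotent of even rank `2 r` are norms, if
the antisymmetrisation has rank `r` on it. -/
theorem eq_zero_at_fixed_of_rank [CharP k 2] {τ : κ → κ} (hτ : Function.Involutive τ)
    {P : Matrix κ κ k} (hcomm : permMat τ * P = P * permMat τ)
    (hr : 2 * ((1 - permMat τ) * P).rank = P.rank) {v : κ → k} (hv : P.mulVec v = v)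
    (hsym : ∀ a, v (τ a) = v a) {c : κ} (hc : τ c = c) : v c = 0 := by
  set T : Matrix κ κ k := permMat τ with hT
  set L := (1 - T).mulVecLin with hL
  set U := LinearMap.range P.mulVecLin with hU
  set W := LinearMap.range ((1 - T) * P).mulVecLin with hW
  have hT2 : T * T = 1 := by
    rw [hT, permMat_mul]
    ext a b
    simp [permMat, hτ a, Matrix.one_apply]
  have h2 : (1 - T) * (1 - T) = 0 := by
    haveI : CharP (Matrix κ κ k) 2 := by
      haveI : Nonempty κ := ⟨c⟩
      infer_instance
    rw [sub_mul, mul_sub, mul_sub, one_mul, mul_one, one_mul, hT2]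
    have : (1 : Matrix κ κ k) + 1 = 0 := by rw [one_add_one_eq_two]; exact CharTwo.two_eq_zero
    calc 1 - T - (T - 1) = (1 + 1) - (T + T) := by abel
      _ = (1 + 1) - (1 + 1) * T := by rw [add_mul, one_mul]
      _ = 0 := by rw [this, zero_mul, sub_zero]
  let Φ := L ∘ₗ U.subtype
  have hΦ : LinearMap.range Φ = W := by
    rw [LinearMap.range_comp, Submodule.range_subtype, hU, ← LinearMap.range_comp,
      ← Matrix.mulVecLin_mul]
  have hle : W ≤ (LinearMap.ker Φ).map U.subtype := by
    rintro _ ⟨y, rfl⟩
    have hmem : ((1 - T) * P).mulVecLin y ∈ U := by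
      refine ⟨(1 - T).mulVec y, ?_⟩
      rw [Matrix.mulVecLin_apply, Matrix.mulVecLin_apply, Matrix.mulVec_mulVec]
      congr 1
      rw [mul_sub, sub_mul, one_mul, mul_one, hcomm]
    refine ⟨⟨_, hmem⟩, ?_, rfl⟩
    show (1 - T).mulVec (((1 - T) * P).mulVec y) = 0
    rw [Matrix.mulVec_mulVec, ← mul_assoc, h2, zero_mul, Matrix.zero_mulVec]
  have hdim : Module.finrank k ((LinearMap.ker Φ).map U.subtype) ≤ Module.finrank k W := by
    rw [Submodule.finrank_map_subtype_eq]
    have := LinearMap.finrank_range_add_finrank_ker Φ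
    rw [hΦ] at this
    rw [Matrix.rank, Matrix.rank, ← hU, ← hW] at hr
    omega
  have hvW : v ∈ W := by
    rw [Submodule.eq_of_le_of_finrank_le hle hdim]
    refine ⟨⟨v, v, hv⟩, ?_, rfl⟩
    show (1 - T).mulVec v = 0
    rw [Matrix.sub_mulVec, Matrix.one_mulVec, hT, permMat_mulVec]
    funext a
    simp [hsym a]
  obtain ⟨y, rfl⟩ := hvW
  rw [Matrix.mulVecLin_apply, ← Matrix.mulVec_mulVec, Matrix.sub_mulVec, Matrix.one_mulVec, hT,
    permMat_mulVec]
  simp [hc]

/-- The antisymmetrisation has rank at least the number of moved pairs. -/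
theorem card_moved_le_rank {F : Type*} [Field F] [LinearOrder κ] {τ : κ → κ}
    (hτ : Function.Involutive τ) :
    Fintype.card {a // a < τ a} ≤ (1 - permMat τ : Matrix κ κ F).rank := by
  classical
  set N : Matrix κ κ F := 1 - permMat τ
  have h : ((1 : Matrix κ κ F).submatrix (Subtype.val : {a // a < τ a} → κ) id) * N *
      ((1 : Matrix κ κ F).submatrix id (Subtype.val : {a // a < τ a} → κ)) = 1 := by
    ext a b
    have hne : τ a.1 ≠ b.1 := fun h => by
      have h1 := a.2
      have h2 := b.2
      rw [← h, hτ] at h2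
      exact lt_asymm h1 h2
    simp [N, Matrix.mul_apply, Matrix.one_apply, permMat, hne, Subtype.val_inj]
  calc Fintype.card {a // a < τ a}
      = (1 : Matrix {a // a < τ a} {a // a < τ a} F).rank := Matrix.rank_one.symm
    _ = (((1 : Matrix κ κ F).submatrix (Subtype.val : {a // a < τ a} → κ) id) * N *
          ((1 : Matrix κ κ F).submatrix id (Subtype.val : {a // a < τ a} → κ))).rank := by rw [h]
    _ ≤ N.rank := (Matrix.rank_mul_le_left _ _).trans (Matrix.rank_mul_le_right _ _)

theorem two_mul_card_moved [LinearOrder κ] {τ : κ → κ} (hτ : Function.Involutive τ) :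
    2 * Fintype.card {a // a < τ a} + Fintype.card {a // τ a = a} = Fintype.card κ := by
  classical
  have he : Fintype.card {a // a < τ a} = Fintype.card {a // τ a < a} :=
    Fintype.card_congr
      { toFun := fun a => ⟨τ a.1, by rw [hτ]; exact a.2⟩
        invFun := fun a => ⟨τ a.1, by rw [hτ]; exact a.2⟩
        left_inv := fun a => Subtype.ext (hτ _)
        right_inv := fun a => Subtype.ext (hτ _) }
  have h1 : (Finset.univ.filter fun a => τ a = a).card + (Finset.univ.filter fun a => a < τ a).card
      + (Finset.univ.filter fun a => τ a < a).card = Fintype.card κ := by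
    rw [← Finset.card_union_of_disjoint, ← Finset.card_union_of_disjoint, ← Finset.card_univ]
    · congr 1
      ext a
      simp only [Finset.mem_union, Finset.mem_filter, Finset.mem_univ, true_and, iff_true]
      rcases lt_trichotomy a (τ a) with h | h | h
      · exact Or.inl (Or.inr h)
      · exact Or.inl (Or.inl h.symm)
      · exact Or.inr h
    · rw [Finset.disjoint_left]
      intro a ha ha'
      simp only [Finset.mem_union, Finset.mem_filter, Finset.mem_univ, true_and] at ha ha'
      rcases ha with h | h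
      · rw [h] at ha'; exact lt_irrefl _ ha'
      · exact lt_asymm h ha'
    · rw [Finset.disjoint_left]
      intro a ha ha'
      simp only [Finset.mem_filter, Finset.mem_univ, true_and] at ha ha'
      rw [ha] at ha'; exact lt_irrefl _ ha'
  simp only [← Fintype.card_subtype] at h1
  omega

theorem matrix_rank_add_le {F : Type*} [Field F] (N N' : Matrix κ κ F) :
    (N + N').rank ≤ N.rank + N'.rank := by
  rw [Matrix.rank, Matrix.rank, Matrix.rank, Matrix.mulVecLin_add]
  refine le_trans (Submodule.finrank_mono ?_) (Submodule.finrank_add_le_finrank_add_finrank _ _)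
  rintro _ ⟨y, rfl⟩
  exact Submodule.add_mem_sup ⟨y, rfl⟩ ⟨y, rfl⟩

theorem rank_smul_eq {F : Type*} [Field F] {c : F} (hc : c ≠ 0) (N : Matrix κ κ F) :
    (c • N).rank = N.rank := by
  have hu : IsUnit (c • (1 : Matrix κ κ F)).det := by
    rw [Matrix.det_smul, Matrix.det_one, mul_one]
    exact IsUnit.mk0 _ (pow_ne_zero _ hc)
  have h := Matrix.rank_mul_eq_right_of_isUnit_det _ N hu
  rwa [Matrix.smul_mul, Matrix.one_mul] at h

theorem two_mul_rank_of_half {E : Matrix κ κ ℂ} (hE : IsIdempotentElem ((2 : ℂ)⁻¹ • E)) :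
    2 * (E.rank : ℂ) = E.trace := by
  have h := rank_eq_trace hE
  rw [rank_smul_eq (by norm_num), Matrix.trace_smul, smul_eq_mul] at h
  rw [h, ← mul_assoc, mul_inv_cancel₀ (by norm_num), one_mul]

theorem isIdempotentElem_half_mul {T E : Matrix κ κ ℂ} (hT : T * T = 1)
    (hE : IsIdempotentElem E) (h : T * E = E * T) :
    IsIdempotentElem ((2 : ℂ)⁻¹ • ((1 - T) * E)) := by
  have hc : E * (1 - T) = (1 - T) * E := by rw [mul_sub, sub_mul, mul_one, one_mul, h]
  have h1 : (1 - T) * (1 - T) = (2 : ℂ) • (1 - T) := by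
    rw [sub_mul, mul_sub, mul_sub, one_mul, mul_one, one_mul, hT, two_smul]
    abel
  show _ * _ = _
  rw [Matrix.smul_mul, Matrix.mul_smul, smul_smul,
    show (1 - T) * E * ((1 - T) * E) = (1 - T) * (E * (1 - T)) * E by simp only [mul_assoc],
    hc, show (1 - T) * ((1 - T) * E) * E = (1 - T) * (1 - T) * (E * E) by simp only [mul_assoc],
    hE.eq, h1, Matrix.smul_mul, smul_smul]
  norm_num

end LinearAlgebra

variable {G : Type u} [Group G] [Finite G] {M : Ideal AlgInt} [M.IsMaximal]

open Classical in
/-- An involutive symmetry of the character table which stabilises a union `A` of 2-blocks has a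
fixed character in `A`, if some symmetric integral combination of `A` is a unit at a fixed class. -/
theorem exists_fixed_irr_of_symmetric_unit [Fintype G] (hpM : (2 : AlgInt) ∈ M)
    {A : Set (IrrCharacter G)} (hA : SCoeff M (blockIdem A))
    (τ : Equiv.Perm (ConjClasses G)) (hτ : Function.Involutive τ)
    (π : Equiv.Perm (IrrCharacter G))
    (hπ : ∀ χ c, Char.classValue (π χ) c = Char.classValue χ (τ c))
    (hπA : ∀ χ, π χ ∈ A ↔ χ ∈ A) (a : IrrCharacter G → ℂ) (ha : ∀ χ ∈ A, a (π χ) = a χ)
    (hint : ∀ g : G, MemLocalRing M (∑ χ ∈ Finset.univ.filter (· ∈ A), a χ * χ.1 g))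
    (x : G) (hx : τ (ConjClasses.mk x) = ConjClasses.mk x)
    (hunit : ¬ MemLocalIdeal M (∑ χ ∈ Finset.univ.filter (· ∈ A), a χ * χ.1 x)) :
    ∃ χ ∈ A, π χ = χ := by
  haveI : Fact (Nat.Prime 2) := ⟨Nat.prime_two⟩
  haveI : Finite (ConjClasses G) := Finite.of_surjective _ ConjClasses.mk_surjective
  haveI := Fintype.ofFinite (ConjClasses G)
  letI : LinearOrder (ConjClasses G) :=
    LinearOrder.lift' (Fintype.equivFin (ConjClasses G)) (Fintype.equivFin (ConjClasses G)).injective
  by_contra hno
  push Not at hno
  set X : Matrix (ConjClasses G) (IrrCharacter G) ℂ :=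
    Matrix.of fun c χ => Char.classValue χ c with hX
  set Y : Matrix (IrrCharacter G) (ConjClasses G) ℂ := Matrix.of fun χ c =>
    (Nat.card (Subgroup.centralizer ({Quotient.out c} : Set G)) : ℂ)⁻¹ *
      conj (Char.classValue χ c) with hY
  have hXY : X * Y = 1 := by
    ext c d
    rw [Matrix.mul_apply, Matrix.one_apply]
    simp only [hX, hY, Matrix.of_apply, mul_left_comm (Char.classValue _ c), ← Finset.mul_sum]
    simp only [Char.classValue]
    rw [Char.sum_irr_mul_conj]
    by_cases hcd : c = d
    · subst hcd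
      rw [if_pos (IsConj.refl _), if_pos rfl,
        inv_mul_cancel₀ (Nat.cast_ne_zero.2 Nat.card_pos.ne')]
    · rw [if_neg hcd, if_neg, mul_zero]
      intro hc
      refine hcd ?_
      have := ConjClasses.mk_eq_mk_iff_isConj.2 hc
      rw [← Quotient.out_eq c, ← Quotient.out_eq d]
      exact this
  have hYX : Y * X = 1 := by
    refine (Matrix.mul_eq_one_comm_of_equiv ?_).1 hXY
    refine Fintype.equivOfCardEq ?_
    rw [← Nat.card_eq_fintype_card, ← Nat.card_eq_fintype_card, Char.card_irr]
  have hcen : ∀ c, Nat.card (Subgroup.centralizer ({Quotient.out (τ c)} : Set G)) =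
      Nat.card (Subgroup.centralizer ({Quotient.out c} : Set G)) := by
    intro c
    have h1 := Char.sum_irr_mul_conj (Quotient.out (τ c)) (Quotient.out (τ c))
    have h2 := Char.sum_irr_mul_conj (Quotient.out c) (Quotient.out c)
    rw [if_pos (IsConj.refl _)] at h1 h2
    rw [← Equiv.sum_comp π] at h2
    have h3 : ∀ χ, (π χ).1 (Quotient.out c) = χ.1 (Quotient.out (τ c)) := fun χ => hπ χ c
    simp only [h3] at h2
    exact_mod_cast h1.symm.trans h2
  set D : Matrix (IrrCharacter G) (IrrCharacter G) ℂ :=
    Matrix.diagonal fun χ => if χ ∈ A then 1 else 0 with hD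
  set P : Matrix (ConjClasses G) (ConjClasses G) ℂ := X * D * Y with hP
  have hPval : ∀ c d, P c d = ∑ χ ∈ Finset.univ.filter (· ∈ A),
      Char.classValue χ c * Y χ d := by
    intro c d
    rw [hP, Matrix.mul_apply, Finset.sum_filter]
    refine Finset.sum_congr rfl fun χ _ => ?_
    rw [hD, Matrix.mul_diagonal]
    split_ifs <;> simp [hX]
  have hPS : ∀ c d, MemLocalRing M (P c d) := by
    intro c d
    have h := sum_class_blockCoeff (p := 2) (M := M) (by exact_mod_cast hpM) A
      (Quotient.out c) (Quotient.out d)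
    have hG : (Nat.card G : ℂ) ≠ 0 := Nat.cast_ne_zero.2 Nat.card_pos.ne'
    have e : P c d = (Nat.card G : ℂ)⁻¹ *
        ((Subgroup.centralizer ({Quotient.out d} : Set G)).index : ℂ) *
          ∑ χ ∈ Finset.univ.filter (· ∈ A), χ.1 (Quotient.out c) * conj (χ.1 (Quotient.out d)) := by
      rw [hPval, Finset.mul_sum]
      refine Finset.sum_congr rfl fun χ _ => ?_
      simp only [hY, Matrix.of_apply, Char.classValue]
      rw [← Subgroup.card_mul_index (Subgroup.centralizer ({Quotient.out d} : Set G)), Nat.cast_mul]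
      have hi : (((Subgroup.centralizer ({Quotient.out d} : Set G)).index : ℕ) : ℂ) ≠ 0 :=
        Nat.cast_ne_zero.2 Subgroup.index_ne_zero_of_finite
      field_simp
    rw [e, ← h]
    exact MemLocalRing.sum _ fun g _ => by
      split_ifs
      · exact (coeff_blockIdem A _) ▸ hA _
      · exact memLocalRing_zero
  have hPP : P * P = P := by
    rw [hP, show X * D * Y * (X * D * Y) = X * (D * (Y * X) * D) * Y by simp only [Matrix.mul_assoc],
      hYX, Matrix.mul_one, hD, Matrix.diagonal_mul_diagonal]
    congr 2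
    congr 1
    funext χ
    split_ifs <;> simp
  set T : Matrix (ConjClasses G) (ConjClasses G) ℂ := permMat τ with hT
  have hTT : T * T = 1 := by
    rw [hT, permMat_mul]
    ext c d
    simp [permMat, hτ c, Matrix.one_apply]
  have hYτ : ∀ χ c, Y χ (τ c) = Y (π χ) c := by
    intro χ c
    simp only [hY, Matrix.of_apply, hπ, hcen]
  have hTP : T * P = P * T := by
    rw [hT, permMat_mul, mul_permMat hτ]
    ext c d
    simp only [Matrix.of_apply, hPval]
    refine Finset.sum_equiv π (fun χ => by simp [hπA]) fun χ _ => ?_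
    rw [hπ, ← hYτ, hτ]
  have htrP : P.trace = (Finset.univ.filter (· ∈ A)).card := by
    rw [hP, Matrix.trace_mul_cycle, hYX, Matrix.one_mul, hD, Matrix.trace_diagonal]
    simp
  have htrTP : (T * P).trace = 0 := by
    simp only [Matrix.trace, Matrix.diag, hT, permMat_mul, Matrix.of_apply, hPval]
    rw [Finset.sum_comm]
    refine Finset.sum_eq_zero fun χ hχ => ?_
    have h := congrFun (congrFun hYX χ) (π χ)
    rw [Matrix.mul_apply, Matrix.one_apply_ne fun h => hno χ (Finset.mem_filter.1 hχ).2 h.symm] at h
    rw [← h]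
    refine Finset.sum_congr rfl fun c _ => ?_
    simp only [hX, Matrix.of_apply, hπ]
    ring
  have htrT : T.trace = (Fintype.card {c // τ c = c} : ℂ) := by
    simp [Matrix.trace, hT, permMat, Fintype.card_subtype]
  -- integral versions
  let P' : Matrix (ConjClasses G) (ConjClasses G) (localInt M) :=
    Matrix.of fun c d => ⟨P c d, hPS c d⟩
  have hmapP : P'.map (localInt M).subtype = P := by ext c d; rfl
  have hmapT : (permMat τ : Matrix _ _ (localInt M)).map (localInt M).subtype = T := map_permMat _ _
  have hinj : Function.Injective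
      fun N : Matrix (ConjClasses G) (ConjClasses G) (localInt M) => N.map (localInt M).subtype :=
    Matrix.map_injective Subtype.val_injective
  have hP'P' : IsIdempotentElem P' := hinj (by
    show (P' * P').map (localInt M).subtype = P'.map (localInt M).subtype
    rw [Matrix.map_mul, hmapP, hPP])
  have hTP' : permMat τ * P' = P' * permMat τ := hinj (by
    show (permMat τ * P').map (localInt M).subtype = (P' * permMat τ).map (localInt M).subtype
    rw [Matrix.map_mul, Matrix.map_mul, hmapP, hmapT, hTP])
  set N₁ : Matrix (ConjClasses G) (ConjClasses G) (localInt M) := (1 - permMat τ) * P' with hN₁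
  set N₂ : Matrix (ConjClasses G) (ConjClasses G) (localInt M) := (1 - permMat τ) * (1 - P') with hN₂
  have hm1 : (1 - permMat τ : Matrix _ _ (localInt M)).map (localInt M).subtype = 1 - T := by
    rw [Matrix.map_sub _ (map_sub _), hmapT, Matrix.map_one _ (map_zero _) (map_one _)]
  have hN₁m : N₁.map (localInt M).subtype = (1 - T) * P := by rw [hN₁, Matrix.map_mul, hm1, hmapP]
  have hN₂m : N₂.map (localInt M).subtype = (1 - T) * (1 - P) := by
    rw [hN₂, Matrix.map_mul, hm1, Matrix.map_sub _ (map_sub _), hmapP,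
      Matrix.map_one _ (map_zero _) (map_one _)]
  have hr1 := two_mul_rank_of_half (isIdempotentElem_half_mul hTT hPP hTP)
  have hTQ : T * (1 - P) = (1 - P) * T := by rw [mul_sub, sub_mul, mul_one, one_mul, hTP]
  have hQ : IsIdempotentElem (1 - P) := IsIdempotentElem.one_sub hPP
  have hr2 := two_mul_rank_of_half (isIdempotentElem_half_mul hTT hQ hTQ)
  have hrP := rank_eq_trace (show IsIdempotentElem P from hPP)
  simp only [sub_mul, mul_sub, one_mul, mul_one, Matrix.trace_sub, Matrix.trace_one,
    htrTP, htrT, sub_zero] at hr1 hr2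
  rw [← hrP] at hr1 hr2
  have hcount := two_mul_card_moved (κ := ConjClasses G) hτ
  haveI : CharP (AlgInt ⧸ M) 2 := charP_residue (by exact_mod_cast hpM)
  set φ := redHom M
  have hlow := card_moved_le_rank (F := AlgInt ⧸ M) (κ := ConjClasses G) hτ
  have hsum : (1 - permMat τ : Matrix _ _ (localInt M)).map φ = N₁.map φ + N₂.map φ := by
    rw [← Matrix.map_add _ (map_add _)]
    congr 1
    rw [hN₁, hN₂, mul_sub, mul_one, add_sub_cancel]
  have hφ1 : (1 - permMat τ : Matrix _ _ (localInt M)).map φ = 1 - permMat τ := by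
    rw [Matrix.map_sub _ (map_sub _), map_permMat, Matrix.map_one _ (map_zero _) (map_one _)]
  have hadd := matrix_rank_add_le (N₁.map φ) (N₂.map φ)
  rw [← hsum, hφ1] at hadd
  have hu1 : (N₁.map φ).rank ≤ _ := rank_map_redHom_le N₁
  have hu2 : (N₂.map φ).rank ≤ _ := rank_map_redHom_le N₂
  have hPb : (P'.map φ).rank = _ := rank_map_redHom_of_isIdempotentElem hP'P'
  rw [hN₁m] at hu1
  rw [hN₂m] at hu2
  rw [hmapP] at hPb
  have e1 : 2 * ((1 - T) * P).rank = P.rank := by
    have : (2 : ℂ) * (((1 - T) * P).rank : ℂ) = (P.rank : ℂ) := by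
      simp only [sub_mul, one_mul]; exact hr1
    exact_mod_cast this
  have e2 : 2 * ((1 - T) * (1 - P)).rank + Fintype.card {c // τ c = c} + P.rank =
      Fintype.card (ConjClasses G) := by
    have : (2 : ℂ) * (((1 - T) * (1 - P)).rank : ℂ) + (Fintype.card {c // τ c = c} : ℂ) + (P.rank : ℂ)
        = (Fintype.card (ConjClasses G) : ℂ) := by
      simp only [sub_mul, mul_sub, one_mul, mul_one]
      linear_combination hr2
    exact_mod_cast this
  have hrank : 2 * (N₁.map φ).rank = (P'.map φ).rank := by omega
  have hcomm : permMat τ * P'.map φ = P'.map φ * permMat τ := by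
    rw [← map_permMat φ, ← Matrix.map_mul, hTP', Matrix.map_mul]
  rw [hN₁, Matrix.map_mul, hφ1] at hrank
  -- the vector
  let v : ConjClasses G → localInt M := fun c =>
    ⟨∑ χ ∈ Finset.univ.filter (· ∈ A), a χ * χ.1 (Quotient.out c), hint _⟩
  have hvX : (fun c => ((v c : localInt M) : ℂ)) = X.mulVec (fun χ => if χ ∈ A then a χ else 0) := by
    funext c
    simp only [v, Matrix.mulVec, dotProduct, hX, Matrix.of_apply, Finset.sum_filter]
    refine Finset.sum_congr rfl fun χ _ => ?_
    split_ifs <;> simp [Char.classValue, mul_comm]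
  have hPv : P'.mulVec v = v := by
    funext c
    apply Subtype.val_injective
    have h : ((P'.mulVec v c : localInt M) : ℂ) = P.mulVec (fun d => (v d : ℂ)) c := by
      simp [Matrix.mulVec, dotProduct, P']
    show ((P'.mulVec v c : localInt M) : ℂ) = _
    rw [h, hvX, hP, Matrix.mulVec_mulVec, Matrix.mul_assoc, hYX, Matrix.mul_one,
      ← Matrix.mulVec_mulVec]
    rw [show (v c : ℂ) = (fun c => ((v c : localInt M) : ℂ)) c from rfl, hvX]
    congr 2
    funext χ
    simp only [hD, Matrix.mulVec_diagonal]
    split_ifs <;> simp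
  have hsym : ∀ c, v (τ c) = v c := by
    intro c
    apply Subtype.ext
    show ∑ χ ∈ _, _ = ∑ χ ∈ _, _
    refine Finset.sum_equiv π (fun χ => by simp [hπA]) fun χ hχ => ?_
    rw [ha χ (Finset.mem_filter.1 hχ).2]
    exact congrArg _ (hπ χ c).symm
  have hzero := eq_zero_at_fixed_of_rank (k := AlgInt ⧸ M) hτ hcomm hrank
    (v := fun c => φ (v c)) (by
      funext c
      have := congrArg φ (congrFun hPv c)
      rw [← this]
      simp [Matrix.mulVec, dotProduct, map_sum, map_mul])
    (fun c => congrArg φ (hsym c)) hx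
  refine hunit ?_
  have hval : (v (ConjClasses.mk x) : ℂ) = ∑ χ ∈ Finset.univ.filter (· ∈ A), a χ * χ.1 x :=
    Finset.sum_congr rfl fun χ _ => congrArg _ (Char.classValue_mk χ x)
  rw [← hval]
  exact (red_eq_zero_iff (v (ConjClasses.mk x)).2).1 hzero

end Cfsg.Agent.Blocks
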