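import Cfsg.Agent.Lib.Blocks.Contribution
import Cfsg.Agent.Lib.BrauerPairs.CentralDefect
import Cfsg.Agent.Lib.BrauerPairs.RankOne

/-!
# `2`-blocks of defect two at a subsection of rank one

* `blockRank_eq_one_of_central_half`: a `2`-block whose defect is one more than a central
  `2`-subgroup has rank one.
* `subsection_dichotomy`: if `(x, b)` is a subsection of rank one and defect two, exactly four
  characters of `B` have height zero and the others vanish on the subsection.
* `vanishes_of_regDot_secFun`: a character vanishing on all subsections at `x` vanishes on the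
  section of `x`.
-/

namespace Cfsg.Agent.Blocks

open scoped ComplexConjugate Classical
open BrauerPairs (regDot regDot_comm regDot_eq_zero sum_regDot_mul centralLin)

set_option linter.style.haveILetI false
set_option linter.unusedSectionVars false

universe u

variable {G : Type u} [Group G] [Fintype G] {M : Ideal AlgInt} [M.IsMaximal]

theorem blockRank_eq_one_of_central_half [Fact (Nat.Prime 2)] (hpM : ((2 : ℕ) : AlgInt) ∈ M)
    {B : Set (IrrCharacter G)} (hB : IsPBlock M B) (Z : Subgroup G) (hZ : Z ≤ Subgroup.center G)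
    (hZp : IsPGroup 2 Z) (hd : 2 ^ blockDefect 2 B = 2 * Nat.card Z) : blockRank 2 B = 1 := by
  have hp : Nat.Prime 2 := Fact.out
  have hex : ∀ ν : B, ∃ c : IrrCharacter G → ℤ,
      ∀ μ, (2 * (Nat.card Z : ℂ)) * regDot 2 ν.1.1 μ.1 = c μ := fun ν => by
    obtain ⟨c, hc⟩ := BrauerPairs.exists_int_regDot hpM hp hB ν.2
    exact ⟨c, fun μ => by rw [← hc μ, hd, Nat.cast_mul, Nat.cast_ofNat]⟩
  choose c hc using hex
  have hZ0 : (Nat.card Z : ℂ) ≠ 0 := Nat.cast_ne_zero.2 Nat.card_pos.ne'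
  have hcomm : ∀ ν μ : B, c ν μ.1 = c μ ν.1 := fun ν μ => by
    have : (c ν μ.1 : ℂ) = c μ ν.1 := by rw [← hc, ← hc, regDot_comm hp]
    exact_mod_cast this
  obtain ⟨χ₀, hχ₀, h0⟩ := Blocks.exists_height_zero hpM hB
  set χ : B := ⟨χ₀, hχ₀⟩ with hχdef
  set F := Finset.univ.filter (fun ν : B => centralLin ν.1 Z hZ = centralLin χ₀ Z hZ) with hF
  have hfib : ∀ μ : B, 2 * c μ μ.1 = ∑ ν ∈ F, c μ ν.1 ^ 2 := fun μ => by
    have h := BrauerPairs.card_mul_sum_fibre hpM hp hB Z hZ hZp μ.2 μ.1.1 χ₀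
    have e : ((2 * c μ μ.1 : ℤ) : ℂ) = ((∑ ν ∈ F, c μ ν.1 ^ 2 : ℤ) : ℂ) := by
      push_cast
      rw [← hc, ← h, Finset.mul_sum, Finset.mul_sum, Finset.mul_sum]
      refine Finset.sum_congr rfl fun ν _ => ?_
      rw [← hc, regDot_comm hp ν.1 μ.1]
      ring
    exact_mod_cast e
  have hhz := fun ν : B => BrauerPairs.intCoeff_of_height_zero hpM hp hB χ.2 ν.2 h0
    (c := c χ ν.1) (by rw [hd, Nat.cast_mul, Nat.cast_ofNat]; exact hc χ ν.1)
  have hχF : χ ∈ F := Finset.mem_filter.2 ⟨Finset.mem_univ _, rfl⟩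
  have hχχ : c χ χ.1 = 1 := by
    have h := hfib χ
    have h1 := Finset.single_le_sum (f := fun ν : B => c χ ν.1 ^ 2) (fun _ _ => sq_nonneg _) hχF
    rw [← h] at h1
    have h2 : c χ χ.1 ≤ 2 := by nlinarith
    have h3 : 0 ≤ c χ χ.1 := by nlinarith [sq_nonneg (c χ χ.1)]
    have h4 := (hhz χ).2 h0
    push_cast at h4
    omega
  have hrest : ∑ ν ∈ F.erase χ, c χ ν.1 ^ 2 = 1 := by
    have h := hfib χ
    rw [← Finset.add_sum_erase _ _ hχF, hχχ] at h
    linarith
  have hsq : ∀ ν : B, 1 ≤ c χ ν.1 ^ 2 := fun ν =>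
    Int.add_one_le_iff.2 (lt_of_le_of_ne (sq_nonneg _) (pow_ne_zero 2 (hhz ν).1).symm)
  obtain ⟨ν, hν⟩ : ∃ ν, F.erase χ = {ν} := by
    refine Finset.card_eq_one.1 (le_antisymm ?_ (Finset.card_pos.2 ?_))
    · have h := Finset.sum_le_sum fun ν (_ : ν ∈ F.erase χ) => hsq ν
      rw [Finset.sum_const, hrest, nsmul_eq_mul, mul_one] at h
      exact_mod_cast h
    · rw [Finset.nonempty_iff_ne_empty]
      intro h
      rw [h, Finset.sum_empty] at hrest
      exact zero_ne_one hrest
  have hνν : c ν ν.1 = 1 := by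
    rw [hν, Finset.sum_singleton] at hrest
    have h := hfib ν
    rw [← Finset.add_sum_erase _ _ hχF, hν, Finset.sum_singleton, hcomm ν χ, hrest] at h
    have : (c ν ν.1 - 1) ^ 2 = 0 := by linarith
    have := pow_eq_zero_iff (n := 2) (by norm_num) |>.1 this
    linarith
  have hl : (blockRank 2 B : ℂ) = 1 := by
    rw [BrauerPairs.blockRank_eq_sum hpM hp hB]
    calc ∑ μ : B, classInner (Char.regFun 2 μ.1.1) μ.1.1
        = ∑ μ : B, (Nat.card Z : ℂ) *
            ∑ ν ∈ F, regDot 2 μ.1.1 ν.1.1 * regDot 2 ν.1.1 μ.1.1 :=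
          Finset.sum_congr rfl fun μ _ =>
            (BrauerPairs.card_mul_sum_fibre hpM hp hB Z hZ hZp μ.2 μ.1.1 χ₀).symm
      _ = ∑ ν ∈ F, (Nat.card Z : ℂ) * regDot 2 ν.1.1 ν.1.1 := by
          simp only [Finset.mul_sum]
          rw [Finset.sum_comm]
          refine Finset.sum_congr rfl fun ν _ => ?_
          rw [← Finset.mul_sum]
          congr 1
          rw [← sum_regDot_mul hpM hp hB ν.2 ν.1.1]
          exact Finset.sum_congr rfl fun μ _ => mul_comm _ _
      _ = 1 := by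
          rw [← Finset.add_sum_erase _ _ hχF, hν, Finset.sum_singleton]
          have e1 := hc χ χ.1
          have e2 := hc ν ν.1
          rw [hχχ, Int.cast_one] at e1
          rw [hνν, Int.cast_one] at e2
          linear_combination (1 / 2 : ℂ) * e1 + (1 / 2 : ℂ) * e2
  exact_mod_cast hl

variable {x : G} [Fintype (Subgroup.centralizer ({x} : Set G))]

theorem vanishes_of_regDot_secFun {p : ℕ} [hp : Fact p.Prime] (hpM : (p : AlgInt) ∈ M)
    (hx : ∃ k, orderOf x = p ^ k) {B : Set (IrrCharacter G)} (hB : IsPBlock M B)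
    {χ : IrrCharacter G} (hχ : χ ∈ B)
    (h0 : ∀ b : Set (IrrCharacter (Subgroup.centralizer ({x} : Set G))),
      IsInducedBlock M (Subgroup.centralizer ({x} : Set G)) b B →
        ∀ η ∈ b, regDot p (secFun x χ.1) η.1 = 0)
    {g : G} (hg : IsPPart p g x) : χ.1 g = 0 := by
  obtain ⟨s, hs, hsr⟩ := exists_regular_factor hg
  rw [IsPRegular] at hsr
  set f := secFun x χ.1 with hf
  have hfc : IsClassFunction (Subgroup.centralizer ({x} : Set G)) f := isClassFunction_secFun χ.1 (irr_classFun χ)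
  have hall : ∀ η : IrrCharacter (Subgroup.centralizer ({x} : Set G)), regDot p f η.1 = 0 := by
    intro η
    by_cases hi : IsInducedBlock M (Subgroup.centralizer ({x} : Set G)) (blockOf M η.1) B
    · exact h0 _ hi η (mem_blockOf_self η)
    · have hzero : ∀ c : (Subgroup.centralizer ({x} : Set G)), ¬ p ∣ orderOf c → blockPart (blockOf M η.1) f c = 0 := by
        intro c hc
        have hpp : IsPPart p (x * (c : G)) x :=
          isPPart_mul (Subgroup.mem_centralizer_singleton_iff.1 c.2).symm hx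
            (by show ¬ p ∣ orderOf (c : G); rwa [Subgroup.orderOf_coe])
        rw [← sum_mul_blockCoeff hfc,
          ← second_main_centralizer (h := secElt x * c) hpM hx (isPBlock_blockOf η)
            (χ := χ) (by rw [← block_eq hB hχ]; exact hi) hpp,
          chiL_inclA_mul_single]
        refine (Fintype.sum_equiv (Equiv.mulRight c) _ _ fun k => ?_).symm
        simp only [Equiv.coe_mulRight, mul_inv_cancel_right, Subgroup.coe_mul, coeff_blockIdem]
        rw [hf]
        simp only [secFun, secElt, Subgroup.coe_mul]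
        rw [mul_comm]
        congr 2
        rw [← mul_assoc, ← mul_assoc, Subgroup.mem_centralizer_singleton_iff.1 k.2]
      have h1 : regDot p (blockPart (blockOf M η.1) f) η.1 = 0 := by
        rw [regDot, classInner]
        refine mul_eq_zero_of_right _ (Finset.sum_eq_zero fun c _ => ?_)
        by_cases hc : p ∣ orderOf c
        · simp [Char.regFun, hc]
        · simp [Char.regFun, hc, hzero c hc]
      rw [hf, regDot_secFun hpM (isPBlock_blockOf η) χ (mem_blockOf_self η)]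
      rw [← h1, show blockPart (blockOf M η.1) f =
        ∑ ν ∈ Finset.univ.filter (· ∈ blockOf M η.1), classInner f ν.1 • ν.1 from funext fun c => by
          rw [Char.blockPart_apply]; simp [Finset.sum_apply], regDot, BrauerPairs.regFun_sum,
        Char.classInner_sum_left]
      simp only [Char.classInner_smul_left]
      rfl
  have hzero : Char.regFun p f = 0 := by
    rw [Char.eq_sum_classInner_smul (Char.isClassFunction_regFun p hfc)]
    refine Finset.sum_eq_zero fun η _ => ?_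
    rw [show classInner (Char.regFun p f) η.1 = 0 from hall η, zero_smul]
  have h1 := congrFun hzero s
  rw [Char.regFun, if_neg (show ¬ p ∣ orderOf s from hsr)] at h1
  rw [← hs]
  exact h1

theorem subsection_dichotomy [Fact (Nat.Prime 2)] [CharP (AlgInt ⧸ M) 2]
    (hpM : ((2 : ℕ) : AlgInt) ∈ M) (hx : orderOf x = 2) {B : Set (IrrCharacter G)}
    (hB : IsPBlock M B) {b : Set (IrrCharacter (Subgroup.centralizer ({x} : Set G)))}
    (hb : IsInducedBlock M (Subgroup.centralizer ({x} : Set G)) b B)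
    (hl : blockRank 2 b = 1) (hd : blockDefect 2 b = 2) :
    (Finset.univ.filter (fun χ : IrrCharacter G => χ ∈ B ∧ blockHeight 2 B χ.1 = 0)).card = 4 ∧
      ∀ χ ∈ B, blockHeight 2 B χ.1 ≠ 0 → ∀ η ∈ b, regDot 2 (secFun x χ.1) η.1 = 0 := by
  have hp : Nat.Prime 2 := Fact.out
  obtain ⟨φ, d, -, hφ, hsum⟩ := BrauerPairs.rank_one_data hpM hb.1 hl
  set T := Finset.univ.filter (· ∈ b) with hT
  rw [hd, finsum_mem_eq_sum_of_inter_support_eq _ (t := T) (by ext; simp [hT])] at hsum
  set r : ℂ := classInner (Char.regFun 2 φ) φ with hr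
  have hreg : ∀ η ∈ T, Char.regFun 2 η.1 = (d η : ℂ) • Char.regFun 2 φ := fun η hη => funext fun s => by
    by_cases hs : 2 ∣ orderOf s
    · simp [Char.regFun, hs]
    · simp [Char.regFun, hs, hφ η (Finset.mem_filter.1 hη).2 s hs]
  have hdot : ∀ η ∈ T, ∀ ν ∈ T, regDot 2 η.1 ν.1 = (d η : ℂ) * d ν * r := by
    intro η hη ν hν
    rw [regDot, hreg η hη, Char.classInner_smul_left, ← regDot, ← BrauerPairs.classInner_regFun_right,
      hreg ν hν, Char.classInner_smul_right, map_natCast, BrauerPairs.classInner_regFun_right,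
      mul_assoc]
    rfl
  have hr4 : r * 4 = 1 := by
    have h := BrauerPairs.blockRank_eq_sum hpM hp hb.1
    rw [hl, Nat.cast_one, ← Finset.sum_subtype T (by simp [hT])
      (fun η : IrrCharacter (Subgroup.centralizer ({x} : Set G)) => classInner (Char.regFun 2 η.1) η.1)] at h
    rw [h, show (4 : ℂ) = ((∑ η ∈ T, d η ^ 2 : ℕ) : ℂ) by rw [hsum]; norm_num, Nat.cast_sum,
      Finset.mul_sum]
    refine Finset.sum_congr rfl fun η hη => ?_
    rw [← regDot, hdot η hη η hη]
    push_cast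
    ring
  -- the coordinates
  choose mlt _ hmlt using fun χ : IrrCharacter G =>
    Char.IsCharacter.exists_decomp (Char.IsCharacter.restrict (Char.irr_isCharacter χ) (Subgroup.centralizer ({x} : Set G)))
  have hsgn : ∀ η : IrrCharacter (Subgroup.centralizer ({x} : Set G)), ∃ ε : ℤ, (ε = 1 ∨ ε = -1) ∧ secScalar η = (ε : ℂ) := fun η => by
    have h := secScalar_pow (p := 2) (k := 1) (by rw [hx, pow_one]) η
    rw [pow_one] at h
    rcases sq_eq_one_iff.1 h with h | h
    · exact ⟨1, Or.inl rfl, by simp [h]⟩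
    · exact ⟨-1, Or.inr rfl, by simp [h]⟩
  choose ε hε hεs using hsgn
  set a : IrrCharacter G → ℤ := fun χ => ∑ η ∈ T, ε η * (mlt χ η : ℤ) * d η with ha
  set m : IrrCharacter G → ℤ := fun χ => ∑ η ∈ T, (mlt χ η : ℤ) * d η with hm
  have hD : ∀ χ : IrrCharacter G, ∀ ν ∈ T,
      regDot 2 (secFun x χ.1) ν.1 = (a χ : ℂ) * d ν * r := by
    intro χ ν hν
    rw [regDot_secFun hpM hb.1 χ (Finset.mem_filter.1 hν).2, ha]
    simp only [Int.cast_sum, Finset.sum_mul]
    refine Finset.sum_congr rfl fun η hη => ?_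
    rw [classInner_secFun, hmlt χ η, hdot η hη ν hν, hεs]
    push_cast
    ring
  obtain ⟨η₀, hη₀, hη₀0⟩ := Blocks.exists_height_zero hpM hb.1
  have hη₀T : η₀ ∈ T := Finset.mem_filter.2 ⟨Finset.mem_univ _, hη₀⟩
  obtain ⟨c, hc⟩ := BrauerPairs.exists_int_regDot hpM hp hb.1 hη₀
  have hc00 := (BrauerPairs.intCoeff_of_height_zero hpM hp hb.1 hη₀ hη₀ hη₀0 (hc η₀)).2 hη₀0
  have hd0 : c η₀ = (d η₀ : ℤ) ^ 2 := by
    have h := hc η₀
    rw [hd, hdot η₀ hη₀T η₀ hη₀T] at h
    have : ((c η₀ : ℤ) : ℂ) = (((d η₀ : ℤ) ^ 2 : ℤ) : ℂ) := by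
      rw [← h]; push_cast; linear_combination ((d η₀ : ℂ) * d η₀) * hr4
    exact_mod_cast this
  have hd0odd : ¬ (2 : ℤ) ∣ (d η₀ : ℤ) := fun h => hc00 (by
    rw [hd0, sq]; exact dvd_mul_of_dvd_left (by exact_mod_cast h) _)
  have hsqsum : ∑ χ ∈ Finset.univ.filter (· ∈ B), a χ ^ 2 = 4 := by
    have h := sum_regDot_secFun hpM (k := 1) (by rw [hx, pow_one]) hb hη₀ hη₀
    rw [hdot η₀ hη₀T η₀ hη₀T, Finset.sum_congr rfl fun χ _ => by rw [hD χ η₀ hη₀T]] at h
    simp only [map_mul, map_intCast, map_natCast] at h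
    have hrr : conj r = r := by
      rw [hr, Char.conj_classInner, BrauerPairs.classInner_regFun_right]; rfl
    rw [hrr, Finset.sum_congr rfl (g := fun χ => ((a χ ^ 2 : ℤ) : ℂ) * ((d η₀ : ℂ) * d η₀ * (r * r)))
      fun χ _ => by push_cast; ring, ← Finset.sum_mul, ← Int.cast_sum] at h
    have hne : (d η₀ : ℂ) ≠ 0 := Nat.cast_ne_zero.2 fun h => hd0odd (by simp [h])
    have e : ((∑ χ ∈ Finset.univ.filter (· ∈ B), a χ ^ 2 : ℤ) : ℂ) = ((4 : ℤ) : ℂ) := by
      have hrne : r ≠ 0 := left_ne_zero_of_mul (hr4.symm ▸ one_ne_zero)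
      refine mul_right_cancel₀ (mul_ne_zero (mul_ne_zero hne hne) (mul_ne_zero hrne hrne)) ?_
      rw [h]
      push_cast
      linear_combination (-((d η₀ : ℂ) * d η₀ * r)) * hr4
    exact_mod_cast e
  have hpar : ∀ χ ∈ B, blockHeight 2 B χ.1 = 0 ↔ ¬ (2 : ℤ) ∣ a χ := by
    intro χ hχ
    obtain ⟨φ₀, hφ₀⟩ := block_nonempty hB
    obtain ⟨n, hn⟩ := Char.exists_int_regInner (p := 2) hp χ φ₀
    rw [Char.blockHeight_eq_zero_iff_regInner hpM hp hB hχ hφ₀ hn,
      ← Char.memLocalIdeal_intCast_div_iff hpM n (Char.degree_pos φ₀).ne', ← hn,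
      ← Char.apply_one_eq_degree,
      ← Char.memLocalIdeal_regInner_restrict_iff hpM hp hb hφ₀ hη₀]
    set e := (Nat.card (Subgroup.centralizer ({x} : Set G))).factorization 2
    have he : (Char.degree η₀).factorization 2 + 2 = e := by
      have h1 := Char.factorization_degree_of_height_zero hη₀ hη₀0
      have h2 : blockDefect 2 b = e - (Char.degree η₀).factorization 2 := by rw [blockDefect, h1]
      have h3 : (Char.degree η₀).factorization 2 ≤ e :=
        (Nat.factorization_le_iff_dvd (Char.degree_pos η₀).ne' Nat.card_pos.ne').2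
          (Char.degree_dvd_natCard η₀) 2
      omega
    have hres : Char.regInner 2 (fun h : (Subgroup.centralizer ({x} : Set G)) => χ.1 h) η₀.1 =
        (((2 : ℤ) ^ (e - 2) * (m χ * d η₀) : ℤ) : ℂ) := by
      rw [Char.regInner, Char.classInner_smul_left, ← regDot]
      conv_lhs => rw [regDot, Char.eq_sum_classInner_smul (Char.IsCharacter.isClassFunction
        (Char.IsCharacter.restrict (Char.irr_isCharacter χ) (Subgroup.centralizer ({x} : Set G)))), BrauerPairs.regFun_sum,
        Char.classInner_sum_left]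
      simp only [Char.classInner_smul_left]
      rw [← Finset.sum_subset (Finset.subset_univ T) fun η _ hη => by
        show _ * regDot 2 η.1 η₀.1 = 0
        rw [regDot_comm hp, regDot_eq_zero hpM hp hb.1 hη₀ (fun h => hη (by simp [hT, h])), mul_zero]]
      rw [hm]
      push_cast
      rw [Finset.sum_mul, Finset.mul_sum, Finset.mul_sum]
      refine Finset.sum_congr rfl fun η hη => ?_
      show _ * (_ * regDot 2 η.1 η₀.1) = _
      rw [hmlt χ η, hdot η hη η₀ hη₀T,
        show (Nat.card (Subgroup.centralizer ({x} : Set G))).factorization 2 = (e - 2) + 2 by omega,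
        pow_add]
      linear_combination ((2 : ℂ) ^ (e - 2) * mlt χ η * d η * d η₀) * hr4
    rw [hres, Char.apply_one_eq_degree,
      Char.memLocalIdeal_intCast_div_iff hpM _ (Char.degree_pos η₀).ne',
      show (Char.degree η₀).factorization 2 + 1 = (e - 2) + 1 by omega, pow_succ]
    have hpe : ((2 : ℕ) : ℤ) = 2 := by norm_num
    rw [hpe, mul_dvd_mul_iff_left (pow_ne_zero _ two_ne_zero)]
    have hcong : (2 : ℤ) ∣ a χ - m χ := by
      rw [ha, hm, ← Finset.sum_sub_distrib]
      refine Finset.dvd_sum fun η _ => ?_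
      rcases hε η with h | h <;> rw [h]
      · simp
      · exact ⟨-((mlt χ η : ℤ) * d η), by ring⟩
    refine not_congr ⟨fun h => ?_, fun h => dvd_mul_of_dvd_left ?_ _⟩
    · have h2 := (Int.prime_two.dvd_mul.1 h).resolve_right hd0odd
      simpa using dvd_add hcong h2
    · simpa using dvd_sub h hcong
  set S := Finset.univ.filter (fun χ : IrrCharacter G => χ ∈ B ∧ blockHeight 2 B χ.1 = 0) with hS
  set R := Finset.univ.filter (fun χ : IrrCharacter G => χ ∈ B ∧ blockHeight 2 B χ.1 ≠ 0) with hR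
  have hsplit : ∑ χ ∈ Finset.univ.filter (· ∈ B), a χ ^ 2 = ∑ χ ∈ S, a χ ^ 2 + ∑ χ ∈ R, a χ ^ 2 := by
    rw [← Finset.sum_filter_add_sum_filter_not (Finset.univ.filter (· ∈ B))
      (fun χ : IrrCharacter G => blockHeight 2 B χ.1 = 0), Finset.filter_filter,
      Finset.filter_filter]
  have hSmod : (4 : ℤ) ∣ ∑ χ ∈ R, a χ ^ 2 := Finset.dvd_sum fun χ hχ => by
    have h := (hpar χ (Finset.mem_filter.1 hχ).2.1).not.1 (Finset.mem_filter.1 hχ).2.2
    rw [not_not] at h
    obtain ⟨k, hk⟩ := h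
    exact ⟨k ^ 2, by rw [hk]; ring⟩
  have hSone : ∀ χ ∈ S, 1 ≤ a χ ^ 2 ∧ (4 : ℤ) ∣ a χ ^ 2 - 1 := fun χ hχ => by
    have h := (hpar χ (Finset.mem_filter.1 hχ).2.1).1 (Finset.mem_filter.1 hχ).2.2
    obtain ⟨k, hk | hk⟩ := Int.even_or_odd' (a χ)
    · exact absurd ⟨k, hk⟩ h
    · refine ⟨?_, k ^ 2 + k, by rw [hk]; ring⟩
      rw [hk]
      rcases le_or_gt 0 k with h1 | h1 <;> nlinarith
  have hSpos : 0 < S.card := by
    obtain ⟨χ, hχ, h0⟩ := Blocks.exists_height_zero hpM hB
    exact Finset.card_pos.2 ⟨χ, Finset.mem_filter.2 ⟨Finset.mem_univ _, hχ, h0⟩⟩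
  have hle : (S.card : ℤ) ≤ ∑ χ ∈ S, a χ ^ 2 := by
    have h := Finset.sum_le_sum fun χ hχ => (hSone χ hχ).1
    simpa using h
  have hmod : (4 : ℤ) ∣ ∑ χ ∈ S, a χ ^ 2 - S.card := by
    have h := Finset.dvd_sum fun χ hχ => (hSone χ hχ).2
    simpa [Finset.sum_sub_distrib] using h
  have hRnn : 0 ≤ ∑ χ ∈ R, a χ ^ 2 := Finset.sum_nonneg fun _ _ => sq_nonneg _
  have hcard : (S.card : ℤ) = 4 := by
    obtain ⟨u, hu⟩ := hSmod
    obtain ⟨v, hv⟩ := hmod
    omega
  refine ⟨by exact_mod_cast hcard, fun χ hχ h0 η hη => ?_⟩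
  have hR0 : ∑ χ ∈ R, a χ ^ 2 = 0 := by omega
  have h := (Finset.sum_eq_zero_iff_of_nonneg fun _ _ => sq_nonneg _).1 hR0 χ
    (Finset.mem_filter.2 ⟨Finset.mem_univ _, hχ, h0⟩)
  rw [hD χ η (Finset.mem_filter.2 ⟨Finset.mem_univ _, hη⟩), pow_eq_zero_iff (by norm_num) |>.1 h]
  simp

end Cfsg.Agent.Blocks
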