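import Cfsg.Agent.Lib.Blocks.ThirdMain

/-!
# Külshammer's formula for the principal block idempotent
-/

set_option linter.style.haveILetI false
set_option linter.unusedSectionVars false

namespace Cfsg.Agent.Blocks

open Cfsg MonoidAlgebra
open scoped ComplexConjugate

universe u

variable {G : Type u} [Group G] [Finite G] {M : Ideal AlgInt} [M.IsMaximal]
variable {p : ℕ} [hp : Fact p.Prime]

theorem omega_trivial_regSum :
    omega (Char.trivialChar G).1 (regSum p G) =
      (Nat.card {y : G // IsPRegular p y} : ℂ) := by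
  classical
  haveI := Fintype.ofFinite G
  rw [omega, chiL_eq_sum]
  simp only [Char.trivialChar_apply, mul_one, div_one, coeff_regSum]
  rw [Finset.sum_boole, Nat.card_eq_fintype_card, Fintype.card_subtype]

variable (hpM : (p : AlgInt) ∈ M)
include hpM

theorem not_memLocalIdeal_card_regular :
    ¬ MemLocalIdeal M (Nat.card {y : G // IsPRegular p y} : ℂ) := by
  rw [← omega_trivial_regSum]
  exact not_memLocalIdeal_omega_trivial_regSum hpM

theorem natCast_pow_residue (m n : ℕ) : (m : AlgInt ⧸ M) ^ p ^ n = m := by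
  haveI := charP_residue hpM
  induction n with
  | zero => simp
  | succ n ih =>
    rw [pow_succ, pow_mul, ih, ← frobenius_def (R := AlgInt ⧸ M) (p := p), map_natCast]

/-- **Külshammer's formula**. -/
theorem kulshammer {g : G} (hg : IsPRegular p g) :
    MemLocalIdeal M (blockCoeff (principalBlock M G) g -
      (Nat.card {xy : G × G // (∃ k : ℕ, orderOf xy.1 = p ^ k) ∧ ¬ p ∣ orderOf xy.2 ∧
        xy.1 * xy.2 = g} : ℂ) / (Nat.card {y : G // ¬ p ∣ orderOf y} : ℂ)) := by
  classical
  haveI := Fintype.ofFinite G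
  haveI := charP_residue hpM
  haveI : CharP (MonoidAlgebra (AlgInt ⧸ M) G) p :=
    charP_of_injective_algebraMap
      (algebraMap (AlgInt ⧸ M) (MonoidAlgebra (AlgInt ⧸ M) G)).injective p
  set R := Nat.card {y : G // IsPRegular p y} with hR
  set B := principalBlock M G
  have hB : IsPBlock M B := isPBlock_principalBlock hpM
  have heS := scoeff_blockIdem hB
  have hec := isCentralElt_blockIdem B
  have hRS : MemLocalRing M (R : ℂ) := memLocalRing_natCast R
  set z := regSum p G with hz
  have hzc : IsCentralElt z := isCentralElt_regSum p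
  have hzS : SCoeff M z := scoeff_regSum
  set d := z - (R : ℂ) • blockIdem B with hd
  have hdc : IsCentralElt d := IsCentralElt.sub hzc (IsCentralElt.smul _ hec)
  have hdS : SCoeff M d := SCoeff.sub hzS (SCoeff.smul hRS heS)
  have hnil := mcoeff_pow_of_omega hdc hdS fun ψ => by
    rw [hd, omega_sub, omega_smul, omega_blockIdem]
    by_cases hψ : ψ ∈ B
    · rw [if_pos hψ, mul_one, hR, ← omega_trivial_regSum]
      exact SameBlock.omega_sub (SameBlock.symm (mem_blockOf.1 hψ) :
          SameBlock M ψ.1 (Char.trivialChar G).1) hzc hzS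
    · rw [if_neg hψ, mul_zero, sub_zero, hz, omega_regSum_eq_zero hpM hψ]
      exact memLocalIdeal_zero
  rw [← redA_eq_zero_iff (SCoeff.pow hdS _), redA_pow hdS] at hnil
  obtain ⟨n, hn, hgn⟩ := exists_large_pow_eq (p := p) hg
    (max (Fintype.card (IrrCharacter G)) (Nat.card G))
  have hqn : n ≤ p ^ n := (Nat.lt_pow_self hp.out.one_lt).le
  have hdq : redA M d ^ p ^ n = 0 := by
    rw [← Nat.add_sub_cancel' (show Fintype.card (IrrCharacter G) ≤ p ^ n by omega), pow_add, hnil,
      zero_mul]
  have hzq : redA M z ^ p ^ n = (R : AlgInt ⧸ M) • redA M (blockIdem B) := by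
    have h1 : redA M z = redA M d + (R : AlgInt ⧸ M) • redA M (blockIdem B) := by
      rw [hd, redA_sub hzS (SCoeff.smul hRS heS), redA_smul hRS heS, red_natCast, sub_add_cancel]
    rw [h1, add_pow_char_pow_of_commute _ _ ((IsCentralElt.commute (isCentralElt_redA hdc) _)),
      hdq, zero_add, smul_pow, natCast_pow_residue hpM, ← redA_pow heS,
      blockIdem_pow B (Nat.one_le_pow _ _ hp.out.pos)]
  have key := sum_pow_prime_pow (p := p) (MonoidAlgebra.single g⁻¹ (1 : AlgInt ⧸ M) * redA M z) n
    (φ := fun h => if h = 1 then 1 else 0) (fun a b => by simp only [conj_eq_one_iff])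
  rw [((IsCentralElt.commute (isCentralElt_redA hzc) (MonoidAlgebra.single g⁻¹ 1)).symm).mul_pow,
    MonoidAlgebra.single_pow, one_pow, inv_pow, hgn, hzq, Finset.sum_eq_single (1 : G)] at key
  rotate_left
  · intro b _ hb
    simp [hb]
  · simp
  rw [coeff_single_mul', inv_inv, mul_one, one_mul, coeff_smul_apply, coeff_redA,
    coeff_blockIdem, if_pos rfl, mul_one, smul_eq_mul] at key
  simp only [coeff_single_mul', inv_inv, one_mul, coeff_redA, hz, coeff_regSum] at key
  rw [Finset.sum_congr rfl (g := fun h => if IsPRegular p (g * h) ∧ h ^ p ^ n = 1 then 1 else 0)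
    (fun h _ => by
      by_cases h1 : IsPRegular p (g * h) <;> by_cases h2 : h ^ p ^ n = 1 <;>
        simp [h1, h2, zero_pow (pow_ne_zero n hp.out.ne_zero)]), Finset.sum_boole] at key
  have hcount : (Finset.univ.filter fun h => IsPRegular p (g * h) ∧ h ^ p ^ n = 1).card =
      Nat.card {xy : G × G // (∃ k : ℕ, orderOf xy.1 = p ^ k) ∧ ¬ p ∣ orderOf xy.2 ∧
        xy.1 * xy.2 = g} := by
    rw [← Fintype.card_subtype, ← Nat.card_eq_fintype_card]
    refine Nat.card_congr ⟨fun h => ⟨(h.1⁻¹, h.1 * g), ?_, ?_, inv_mul_cancel_left _ _⟩,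
      fun xy => ⟨xy.1.1⁻¹, ?_, ?_⟩, fun h => Subtype.ext (inv_inv _), fun xy => ?_⟩
    · obtain ⟨k, -, hk⟩ := (Nat.dvd_prime_pow hp.out).1 (orderOf_dvd_of_pow_eq_one h.2.2)
      exact ⟨k, by rw [orderOf_inv, hk]⟩
    · have := h.2.1
      rw [← isPRegular_conj (p := p) h.1] at this
      rwa [mul_assoc, mul_inv_cancel_right] at this
    · rw [← isPRegular_conj (p := p) xy.1.1⁻¹]
      have h2 := xy.2.2.2
      rw [inv_inv, show xy.1.1⁻¹ * (g * xy.1.1⁻¹) * xy.1.1 = xy.1.2 from
        (by group : _ = xy.1.1⁻¹ * g).trans (inv_mul_eq_iff_eq_mul.2 h2.symm)]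
      exact xy.2.2.1
    · obtain ⟨k, hk⟩ := xy.2.1
      rw [inv_pow, inv_eq_one, ← orderOf_dvd_iff_pow_eq_one, hk]
      refine Nat.pow_dvd_pow p ?_
      have h1 : p ^ k ≤ Nat.card G := hk ▸ Nat.le_of_dvd Nat.card_pos (orderOf_dvd_natCard _)
      have h2 : k < p ^ k := Nat.lt_pow_self hp.out.one_lt
      omega
    · refine Subtype.ext (Prod.ext (inv_inv _) ?_)
      show xy.1.1⁻¹ * g = xy.1.2
      exact inv_mul_eq_iff_eq_mul.2 xy.2.2.2.symm
  rw [hcount] at key
  have hRu := not_memLocalIdeal_card_regular (G := G) hpM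
  have hRinv := memLocalRing_inv hRS hRu
  rw [show Nat.card {y : G // ¬ p ∣ orderOf y} = R from rfl, div_eq_mul_inv,
    ← red_eq_iff (memLocalRing_blockCoeff hB g) (MemLocalRing.mul (memLocalRing_natCast _) hRinv),
    red_mul (memLocalRing_natCast _) hRinv, red_natCast, ← key, red_inv hRS hRu, red_natCast]
  have hne : (R : AlgInt ⧸ M) ≠ 0 := by
    rwa [← red_natCast, Ne, red_eq_zero_iff hRS]
  field_simp

end Cfsg.Agent.Blocks
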