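import Mathlib.RingTheory.SimpleModule.IsAlgClosed
import Mathlib.RingTheory.Idempotents
import Mathlib.RingTheory.Jacobson.Semiprimary
import Mathlib.RingTheory.Artinian.Ring
import Mathlib.RingTheory.Ideal.Quotient.Operations
import Mathlib.LinearAlgebra.Matrix.Trace
import Mathlib.LinearAlgebra.Dual.Lemmas
import Mathlib.Data.Matrix.Basis
import Mathlib.LinearAlgebra.Matrix.ToLin

/-!
# A block algebra with one simple module and two-dimensional space of trace functions

* `sdim_eq_two_mul_sq`: such an algebra has dimension `2 n²`, `n` the dimension of its simple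
  module. (Its basic algebra is local and generated by one element, hence commutative.)
-/

namespace Cfsg.Agent.Blocks.LocalRankTwo

set_option linter.style.haveILetI false

variable {k R : Type*} [Field k] [Ring R] [Algebra k R] [FiniteDimensional k R]

open Module (finrank)

/-- The trace of a matrix representation, as a functional. -/
noncomputable def trFun {n : ℕ} (π : R →ₐ[k] Matrix (Fin n) (Fin n) k) : R →ₗ[k] k :=
  (Matrix.traceLinearMap (Fin n) k k).comp π.toLinearMap

/-- The `m`-th power of the radical, as a subspace. -/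
noncomputable def radPow (k : Type*) (R : Type*) [Field k] [Ring R] [Algebra k R] (m : ℕ) :
    Submodule k R :=
  Submodule.restrictScalars k (Ring.jacobson R ^ m : Ideal R)

theorem mem_radPow {m : ℕ} {x : R} : x ∈ radPow k R m ↔ x ∈ Ring.jacobson R ^ m := Iff.rfl

theorem isArtinian (k R : Type*) [Field k] [Ring R] [Algebra k R] [FiniteDimensional k R] :
    IsArtinianRing R := IsArtinianRing.of_finite k R

theorem exists_radPow_eq_bot (k R : Type*) [Field k] [Ring R] [Algebra k R]
    [FiniteDimensional k R] : ∃ m, radPow k R m = ⊥ := by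
  haveI := isArtinian k R
  obtain ⟨m, hm⟩ := IsSemiprimaryRing.isNilpotent (R := R)
  exact ⟨m, by rw [radPow, hm]; rfl⟩

theorem isNilpotent_of_mem (k : Type*) {R : Type*} [Field k] [Ring R] [Algebra k R]
    [FiniteDimensional k R] {x : R} (hx : x ∈ Ring.jacobson R) : IsNilpotent x := by
  obtain ⟨m, hm⟩ := exists_radPow_eq_bot k R
  refine ⟨m, ?_⟩
  have h : x ^ m ∈ radPow k R m := mem_radPow.2 (Ideal.pow_mem_pow hx m)
  rwa [hm] at h

/-- The unique simple quotient of the block. -/
theorem exists_simple_quotient [IsAlgClosed k] {e0 : R} (he : IsIdempotentElem e0) (hne : e0 ≠ 0)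
    (hc : ∀ x, Commute e0 x) {V : Submodule k (R →ₗ[k] k)} [FiniteDimensional k V]
    (hV : finrank k V ≤ 1)
    (hVtr : ∀ (n : ℕ) (π : R →ₐ[k] Matrix (Fin n) (Fin n) k), π e0 = 1 → trFun π ∈ V) :
    ∃ (n : ℕ) (π : R →ₐ[k] Matrix (Fin n) (Fin n) k), 0 < n ∧ Function.Surjective π ∧ π e0 = 1 ∧
      ∀ x, π x = 0 → x * e0 ∈ Ring.jacobson R := by
  classical
  haveI := isArtinian k R
  obtain ⟨N, d, hd, ⟨e⟩⟩ :=
    IsSemisimpleRing.exists_algEquiv_pi_matrix_of_isAlgClosed k (R ⧸ Ring.jacobson R)
  let π : ∀ i, R →ₐ[k] Matrix (Fin (d i)) (Fin (d i)) k := fun i =>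
    (Pi.evalAlgHom k (fun i => Matrix (Fin (d i)) (Fin (d i)) k) i).comp
      (e.toAlgHom.comp (Ideal.Quotient.mkₐ k (Ring.jacobson R)))
  have hsurj : ∀ f : ∀ i, Matrix (Fin (d i)) (Fin (d i)) k, ∃ x : R, ∀ i, π i x = f i := fun f => by
    obtain ⟨x, hx⟩ := Ideal.Quotient.mk_surjective (e.symm f)
    exact ⟨x, fun i => by
      show e (Ideal.Quotient.mk _ x) i = _
      rw [hx, e.apply_symm_apply]⟩
  have hker : ∀ x, (∀ i, π i x = 0) → x ∈ Ring.jacobson R := fun x hx => by
    refine Ideal.Quotient.eq_zero_iff_mem.1 (e.injective ?_)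
    rw [map_zero]
    exact funext hx
  have h01 : ∀ i, π i e0 = 0 ∨ π i e0 = 1 := fun i => by
    haveI := hd i
    have hcomm : ∀ A, Commute A (π i e0) := fun A => by
      obtain ⟨x, hx⟩ := hsurj (Pi.single i A)
      have := (hc x).symm.map (π i)
      rwa [hx i, Pi.single_eq_same] at this
    obtain ⟨c, hcs⟩ := Matrix.mem_range_scalar_of_commute_single (M := π i e0) fun a b _ => hcomm _
    have h2 := (he.map (π i)).eq
    rw [← hcs, ← map_mul] at h2
    rcases (IsIdempotentElem.iff_eq_zero_or_one (p := c)).1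
      (Matrix.scalar_inj.1 h2) with h | h
    · left; rw [← hcs, h, map_zero]
    · right; rw [← hcs, h, map_one]
  obtain ⟨i, hi⟩ : ∃ i, π i e0 = 1 := by
    by_contra hno
    push Not at hno
    obtain ⟨m, hm⟩ := isNilpotent_of_mem k (hker e0 fun i => (h01 i).resolve_right (hno i))
    apply hne
    have h := he.pow_succ_eq m
    rw [pow_succ, hm, zero_mul] at h
    exact h.symm
  haveI := hd i
  refine ⟨d i, π i, Nat.pos_of_ne_zero (NeZero.ne _), fun A => ?_, hi, fun x hx => hker _ fun j => ?_⟩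
  · obtain ⟨x, hx⟩ := hsurj (Pi.single i A)
    exact ⟨x, by rw [hx i, Pi.single_eq_same]⟩
  rcases eq_or_ne j i with rfl | hji
  · rw [map_mul, hx, zero_mul]
  rcases h01 j with hj | hj
  · rw [map_mul, hj, mul_zero]
  exfalso
  haveI := hd j
  obtain ⟨a, ha⟩ := hsurj (Pi.single i (Matrix.single 0 0 1))
  obtain ⟨b, hb⟩ := hsurj (Pi.single j (Matrix.single 0 0 1))
  have h1 : trFun (π i) a = 1 := by
    show Matrix.trace (π i a) = 1
    rw [ha i, Pi.single_eq_same, Matrix.trace_single_eq_same]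
  have h2 : trFun (π j) b = 1 := by
    show Matrix.trace (π j b) = 1
    rw [hb j, Pi.single_eq_same, Matrix.trace_single_eq_same]
  have h3 : trFun (π i) b = 0 := by
    show Matrix.trace (π i b) = 0
    rw [hb i, Pi.single_eq_of_ne hji.symm, Matrix.trace_zero]
  have hne' : (⟨trFun (π i), hVtr _ _ hi⟩ : V) ≠ 0 := fun h => by
    have : trFun (π i) a = 0 := LinearMap.congr_fun (congrArg Subtype.val h) a
    rw [h1] at this
    exact one_ne_zero this
  obtain ⟨c, hcs⟩ := exists_smul_eq_of_finrank_eq_one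
    (le_antisymm hV (Module.finrank_pos_iff.2 ⟨⟨_, _, hne'⟩⟩)) hne' ⟨_, hVtr _ _ hj⟩
  have := LinearMap.congr_fun (congrArg Subtype.val hcs) b
  simp [h2, h3] at this

/-- The structure of `ε R ε`. -/
theorem corner_structure {n : ℕ} [NeZero n] {e0 : R} (π : R →ₐ[k] Matrix (Fin n) (Fin n) k)
    (hker : ∀ x, π x = 0 → x * e0 ∈ Ring.jacobson R) {ε : R} (hε : IsIdempotentElem ε)
    (hπε : π ε = Matrix.single 0 0 1) (hε0 : ε * e0 = ε)
    (hrank : ∀ T : Submodule k R, T ≤ LinearMap.range (LinearMap.mulLeftRight k (ε, ε)) →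
      (∀ a b, a ∈ LinearMap.range (LinearMap.mulLeftRight k (ε, ε)) →
        b ∈ LinearMap.range (LinearMap.mulLeftRight k (ε, ε)) → a * b - b * a ∈ T) →
      finrank k (LinearMap.range (LinearMap.mulLeftRight k (ε, ε))) ≤ finrank k T + 2)
    (hpos : ¬ ∀ x ∈ LinearMap.range (LinearMap.mulLeftRight k (ε, ε)), ∃ c : k, x = c • ε) :
    finrank k (LinearMap.range (LinearMap.mulLeftRight k (ε, ε))) = 2 ∧
      (∀ a b, a ∈ LinearMap.range (LinearMap.mulLeftRight k (ε, ε)) →
        b ∈ LinearMap.range (LinearMap.mulLeftRight k (ε, ε)) → π a = 0 → π b = 0 → a * b = 0) := by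
  set C := LinearMap.range (LinearMap.mulLeftRight k (ε, ε)) with hC
  have hmemC : ∀ x, x ∈ C ↔ ε * x * ε = x := fun x => by
    constructor
    · rintro ⟨y, rfl⟩
      simp only [LinearMap.mulLeftRight_apply, mul_assoc, hε.eq]
      rw [← mul_assoc ε ε, hε.eq]
    · exact fun h => ⟨x, by simp [LinearMap.mulLeftRight_apply, h]⟩
  have hCmul : ∀ {a b}, a ∈ C → b ∈ C → a * b ∈ C := fun {a b} ha hb => by
    rw [hmemC] at ha hb ⊢
    conv_rhs => rw [← ha, ← hb]
    conv_lhs => rw [← ha, ← hb]
    simp only [mul_assoc, hε.eq]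
    rw [← mul_assoc ε ε, hε.eq]
  have hεC : ε ∈ C := (hmemC ε).2 (by rw [hε.eq, hε.eq])
  set N : Submodule k R := C ⊓ LinearMap.ker π.toLinearMap with hN
  have hCe : ∀ x ∈ C, x * e0 = x := fun x hx => by
    rw [← (hmemC x).1 hx, mul_assoc, hε0]
  have hNJ : ∀ x ∈ N, x ∈ Ring.jacobson R := fun x hx => by
    rw [← hCe x hx.1]; exact hker x hx.2
  have hdec : ∀ x ∈ C, x - π x 0 0 • ε ∈ N := fun x hx => by
    refine ⟨sub_mem hx (C.smul_mem _ hεC), ?_⟩
    show π (x - π x 0 0 • ε) = 0
    have h : π x = Matrix.single 0 0 (π x 0 0) := by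
      conv_lhs => rw [← (hmemC x).1 hx, map_mul, map_mul, hπε, Matrix.single_mul_mul_single]
      simp
    rw [map_sub, map_smul, hπε, h, Matrix.single_apply_same, Matrix.smul_single, smul_eq_mul,
      mul_one, sub_self]
  have hεN : ε ∉ N := fun h => by
    have := congrFun (congrFun (hπε.symm.trans h.2) 0) 0
    simp at this
  have hεne : ε ≠ 0 := fun h => hεN (h ▸ N.zero_mem)
  have hsup : C = Submodule.span k {ε} ⊔ N := by
    refine le_antisymm (fun x hx => ?_)
      (sup_le ((Submodule.span_singleton_le_iff_mem _ _).2 hεC) inf_le_left)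
    have := add_mem (Submodule.mem_sup_left (T := N)
      (Submodule.smul_mem _ (π x 0 0) (Submodule.mem_span_singleton_self ε)))
      (Submodule.mem_sup_right (S := Submodule.span k {ε}) (hdec x hx))
    rwa [add_sub_cancel] at this
  have hdimC : finrank k C = finrank k N + 1 := by
    have h := Submodule.finrank_sup_add_finrank_inf_eq (Submodule.span k {ε}) N
    have hinf : Submodule.span k {ε} ⊓ N = ⊥ := by
      refine (Submodule.eq_bot_iff _).2 fun x hx => ?_
      obtain ⟨c, rfl⟩ := Submodule.mem_span_singleton.1 hx.1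
      rcases eq_or_ne c 0 with rfl | hc
      · exact zero_smul _ _
      · exact absurd (by simpa [smul_smul, inv_mul_cancel₀ hc] using N.smul_mem c⁻¹ hx.2) hεN
    rw [← hsup, hinf, finrank_bot, finrank_span_singleton hεne] at h
    omega
  have hNmul : ∀ {a b}, a ∈ N → b ∈ N → a * b ∈ N := fun {a b} ha hb =>
    ⟨hCmul ha.1 hb.1, by
      show π (a * b) = 0
      rw [map_mul, show π a = 0 from ha.2, zero_mul]⟩
  have hcomm : ∀ a b, a ∈ C → b ∈ C →
      a * b - b * a = (a - π a 0 0 • ε) * (b - π b 0 0 • ε) - (b - π b 0 0 • ε) * (a - π a 0 0 • ε) := by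
    intro a b ha hb
    have h1 : ε * a = a := by rw [← (hmemC a).1 ha, ← mul_assoc, ← mul_assoc, hε.eq]
    have h2 : a * ε = a := by rw [← (hmemC a).1 ha, mul_assoc, hε.eq]
    have h3 : ε * b = b := by rw [← (hmemC b).1 hb, ← mul_assoc, ← mul_assoc, hε.eq]
    have h4 : b * ε = b := by rw [← (hmemC b).1 hb, mul_assoc, hε.eq]
    simp only [sub_mul, mul_sub, smul_mul_assoc, mul_smul_comm, h1, h2, h3, h4, hε.eq, smul_sub,
      smul_smul, mul_comm (π a 0 0) (π b 0 0)]
    abel
  set N2 : Submodule k R := N * N with hN2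
  have hN2N : N2 ≤ N := Submodule.mul_le.2 fun a ha b hb => hNmul ha hb
  have hT := hrank N2 (hN2N.trans inf_le_left) fun a b ha hb => by
    rw [hcomm a b ha hb]
    exact sub_mem (Submodule.mul_mem_mul (hdec a ha) (hdec b hb))
      (Submodule.mul_mem_mul (hdec b hb) (hdec a ha))
  obtain ⟨M0, hM0⟩ := exists_radPow_eq_bot k R
  have hlt : N2 < N := by
    rcases eq_or_lt_of_le hN2N with h | h
    swap
    · exact h
    exfalso
    have hall : ∀ m, N ≤ radPow k R m := fun m => by
      induction m with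
      | zero => intro x _; rw [mem_radPow, Submodule.pow_zero, Ideal.one_eq_top]; exact Submodule.mem_top
      | succ m ih =>
        rw [← h, hN2, Submodule.mul_le]
        intro a ha b hb
        rw [mem_radPow, Ideal.IsTwoSided.pow_succ]
        exact Ideal.mul_mem_mul (hNJ a ha) (mem_radPow.1 (ih hb))
    have hN0 : N = ⊥ := le_bot_iff.1 (hM0 ▸ hall M0)
    refine hpos fun x hx => ⟨π x 0 0, sub_eq_zero.1 ?_⟩
    have := hdec x hx
    rwa [hN0, Submodule.mem_bot] at this
  obtain ⟨y, hy, hy2⟩ := SetLike.exists_of_lt hlt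
  have hNdim : N = Submodule.span k {y} ⊔ N2 := by
    refine (Submodule.eq_of_le_of_finrank_le
      (sup_le ((Submodule.span_singleton_le_iff_mem _ _).2 hy) hN2N) ?_).symm
    have h := Submodule.finrank_sup_add_finrank_inf_eq (Submodule.span k {y}) N2
    have hinf : Submodule.span k {y} ⊓ N2 = ⊥ := by
      refine (Submodule.eq_bot_iff _).2 fun x hx => ?_
      obtain ⟨c, rfl⟩ := Submodule.mem_span_singleton.1 hx.1
      rcases eq_or_ne c 0 with rfl | hc
      · exact zero_smul _ _
      · exact absurd (by simpa [smul_smul, inv_mul_cancel₀ hc] using N2.smul_mem c⁻¹ hx.2) hy2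
    have hy0 : y ≠ 0 := fun h => hy2 (h ▸ N2.zero_mem)
    rw [hinf, finrank_bot, finrank_span_singleton hy0] at h
    omega
  set S : Submodule k R := Submodule.span k (Set.range fun i : ℕ => y ^ (i + 1)) with hS
  have hSJ : S ≤ radPow k R 1 := by
    refine Submodule.span_le.2 ?_
    rintro _ ⟨i, rfl⟩
    show y ^ (i + 1) ∈ Ring.jacobson R ^ 1
    rw [Submodule.pow_one, pow_succ]
    exact Ideal.mul_mem_left _ _ (hNJ y hy)
  have hSmul : S * S ≤ S := by
    rw [hS, Submodule.span_mul_span]
    refine Submodule.span_mono ?_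
    rintro _ ⟨_, ⟨i, rfl⟩, _, ⟨j, rfl⟩, rfl⟩
    exact ⟨i + j + 1, by simp only [← pow_add]; congr 1; omega⟩
  have hall : ∀ m, N ≤ S ⊔ radPow k R m := by
    intro m
    induction m with
    | zero =>
      intro x _
      refine Submodule.mem_sup_right ?_
      rw [mem_radPow, Submodule.pow_zero, Ideal.one_eq_top]
      exact Submodule.mem_top
    | succ m ih =>
      conv_lhs => rw [hNdim]
      refine sup_le ((Submodule.span_singleton_le_iff_mem _ _).2
        (Submodule.mem_sup_left (Submodule.subset_span ⟨0, pow_one y⟩))) ?_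
      refine Submodule.mul_le.2 fun a ha b hb => ?_
      obtain ⟨s, hs, u, hu, rfl⟩ := Submodule.mem_sup.1 (ih ha)
      obtain ⟨t, ht, v, hv, rfl⟩ := Submodule.mem_sup.1 (ih hb)
      rw [show (s + u) * (t + v) = s * t + (u * (t + v) + s * v) by
        simp only [add_mul, mul_add]; abel]
      refine add_mem (Submodule.mem_sup_left (hSmul (Submodule.mul_mem_mul hs ht)))
        (Submodule.mem_sup_right (mem_radPow.2 (add_mem ?_ ?_)))
      · rw [Submodule.pow_succ]
        exact Ideal.mul_mem_mul (mem_radPow.1 hu) (hNJ _ hb)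
      · rw [Ideal.IsTwoSided.pow_succ]
        exact Ideal.mul_mem_mul (by simpa [mem_radPow, Submodule.pow_one] using hSJ hs) (mem_radPow.1 hv)
  have hNS : N ≤ S := by
    have := hall M0
    rwa [hM0, sup_bot_eq] at this
  have hScomm : ∀ {a b}, a ∈ S → b ∈ S → a * b = b * a := fun {a b} ha hb => by
    induction ha using Submodule.span_induction with
    | mem x hx =>
      obtain ⟨i, rfl⟩ := hx
      induction hb using Submodule.span_induction with
      | mem z hz => obtain ⟨j, rfl⟩ := hz; exact pow_mul_comm y _ _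
      | zero => simp
      | add _ _ _ _ h1 h2 => rw [mul_add, add_mul, h1, h2]
      | smul c _ _ h1 => rw [mul_smul_comm, smul_mul_assoc, h1]
    | zero => simp
    | add _ _ _ _ h1 h2 => rw [mul_add, add_mul, h1, h2]
    | smul c _ _ h1 => rw [mul_smul_comm, smul_mul_assoc, h1]
  have h2 := hrank ⊥ bot_le fun a b ha hb => by
    rw [Submodule.mem_bot, hcomm a b ha hb, sub_eq_zero]
    exact hScomm (hNS (hdec a ha)) (hNS (hdec b hb))
  rw [finrank_bot] at h2
  have h3 := Submodule.finrank_lt_finrank_of_lt hlt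
  refine ⟨by omega, fun a b ha hb ha0 hb0 => ?_⟩
  have hz : N2 = ⊥ := Submodule.finrank_eq_zero.1 (by omega)
  have hab := Submodule.mul_mem_mul (show a ∈ N from ⟨ha, ha0⟩) (show b ∈ N from ⟨hb, hb0⟩)
  rwa [← hN2, hz, Submodule.mem_bot] at hab

/-- A block algebra with one simple module and two-dimensional space of trace functions has
dimension twice a square. -/
theorem sdim_eq_two_mul_sq [IsAlgClosed k] {e0 : R} (he : IsIdempotentElem e0) (hne : e0 ≠ 0)
    (hc : ∀ x, Commute e0 x) (F V : Submodule k (R →ₗ[k] k))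
    (hF : ∀ τ, τ ∈ F ↔ (∀ x y, τ (x * y) = τ (y * x)) ∧ ∀ x, τ (x * e0) = τ x)
    (hF2 : finrank k F = 2) (hV : finrank k V ≤ 1)
    (hVtr : ∀ (n : ℕ) (π : R →ₐ[k] Matrix (Fin n) (Fin n) k), π e0 = 1 → trFun π ∈ V) :
    ∃ n, finrank k (LinearMap.range (LinearMap.mulRight k e0)) = 2 * n ^ 2 := by
  classical
  obtain ⟨n, π, hn, hπ, hπ0, hker⟩ := exists_simple_quotient he hne hc hV hVtr
  haveI : NeZero n := ⟨hn.ne'⟩
  -- lift the first matrix unit
  obtain ⟨ε, hε, hπε, hε0, -⟩ : ∃ ε : R, IsIdempotentElem ε ∧ π ε = Matrix.single 0 0 1 ∧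
      ε * e0 = ε ∧ e0 * ε = ε := by
    let f : R →+* Matrix (Fin n) (Fin n) k × (R ⧸ Ring.jacobson R) :=
      π.toRingHom.prod (Ideal.Quotient.mk (Ring.jacobson R))
    have hnil : ∀ x ∈ RingHom.ker f, IsNilpotent x := fun x hx =>
      isNilpotent_of_mem k (Ideal.Quotient.eq_zero_iff_mem.1 (congrArg Prod.snd hx))
    obtain ⟨a, ha⟩ := hπ (Matrix.single 0 0 1)
    have hid : IsIdempotentElem (f (a * e0)) := by
      refine Prod.ext ?_ ?_
      · show π (a * e0) * π (a * e0) = π (a * e0)
        rw [map_mul, ha, hπ0, mul_one, Matrix.single_mul_single_same, one_mul]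
      · show Ideal.Quotient.mk _ (a * e0) * Ideal.Quotient.mk _ (a * e0) = Ideal.Quotient.mk _ (a * e0)
        rw [← map_mul, Ideal.Quotient.mk_eq_mk_iff_sub_mem]
        have hx : π ((a * e0) * (a * e0) - a * e0) = 0 := by
          simp [map_mul, ha, hπ0, Matrix.single_mul_single_same]
        have := hker _ hx
        rwa [sub_mul, mul_assoc (a * e0), mul_assoc a e0 e0, he.eq] at this
    obtain ⟨e', he', hfe⟩ := exists_isIdempotentElem_eq_of_ker_isNilpotent f hnil _ ⟨_, rfl⟩ hid
    refine ⟨e' * e0, he'.mul_of_commute (hc e').symm he, ?_, by rw [mul_assoc, he.eq], ?_⟩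
    · have h1 : π e' = π (a * e0) := congrArg Prod.fst hfe
      rw [map_mul, hπ0, mul_one, h1, map_mul, hπ0, mul_one, ha]
    · rw [← mul_assoc, (hc e').eq, mul_assoc, he.eq]
  -- lifts of the matrix units of the first row and column
  choose U hU using fun j : Fin n => hπ (Matrix.single j 0 1)
  choose W hW using fun j : Fin n => hπ (Matrix.single 0 j 1)
  obtain ⟨v, hv⟩ : ∃ v : Fin n → R, v = fun j => ε * W j := ⟨_, rfl⟩
  set w := ∑ j, U j * ε * v j with hw
  have hπv : ∀ j, π (v j) = Matrix.single 0 j 1 := fun j => by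
    rw [hv, map_mul, hπε, hW, Matrix.single_mul_single_same, one_mul]
  have hπw : π w = 1 := by
    simp only [hw, map_sum, map_mul, hπε, hU, hπv, Matrix.single_mul_single_same, mul_one]
    ext a b
    rw [Matrix.sum_apply, Finset.sum_eq_single a (fun i _ hi => by simp [Matrix.single_apply, hi])
      (fun h => absurd (Finset.mem_univ a) h), Matrix.one_apply]
    simp [Matrix.single_apply]
  have hεcomm : ε * e0 = e0 * ε := (hc ε).eq.symm
  have hwe : w * e0 = w := by
    rw [hw, Finset.sum_mul]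
    refine Finset.sum_congr rfl fun j _ => ?_
    simp only [hv, mul_assoc]
    rw [← (hc (W j)).eq, ← mul_assoc ε e0, hε0]
  have hunit : IsUnit (w + (1 - e0)) := by
    have h : w + (1 - e0) = 1 + (w - e0) * e0 := by rw [sub_mul, hwe, he.eq]; abel
    rw [h]
    exact (isNilpotent_of_mem k (hker _ (by rw [map_sub, hπw, hπ0, sub_self]))).isUnit_one_add
  obtain ⟨z, hz⟩ := hunit
  set r : R := ↑z⁻¹
  have hrw : r * w = e0 := by
    have h : r * (w + (1 - e0)) * e0 = e0 := by rw [← hz, Units.inv_mul, one_mul]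
    rwa [mul_assoc, add_mul, hwe, sub_mul, one_mul, he.eq, sub_self, add_zero] at h
  have hπr : π r = 1 := by
    have h := congrArg π (Units.inv_mul z)
    rwa [map_mul, hz, map_add, map_sub, hπw, map_one, hπ0, sub_self, add_zero, mul_one] at h
  obtain ⟨u, hu⟩ : ∃ u : Fin n → R, u = fun j => r * (U j * ε) := ⟨_, rfl⟩
  have hπu : ∀ j, π (u j) = Matrix.single j 0 1 := fun j => by
    rw [hu, map_mul, map_mul, hπr, one_mul, hU, hπε, Matrix.single_mul_single_same, one_mul]
  have huv : ∑ j, u j * v j = e0 := by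
    rw [← hrw, hw, Finset.mul_sum]
    exact Finset.sum_congr rfl fun j _ => by simp only [hu, mul_assoc]
  have hue : ∀ j, u j * ε = u j := fun j => by simp only [hu, mul_assoc, hε.eq]
  have hve : ∀ j, ε * v j = v j := fun j => by simp only [hv, ← mul_assoc, hε.eq]
  have he0u : ∀ j, e0 * u j = u j := fun j => by
    rw [(hc (u j)).eq]; simp only [hu, mul_assoc, hε0]
  set C := LinearMap.range (LinearMap.mulLeftRight k (ε, ε)) with hC
  have hmemC : ∀ x, x ∈ C ↔ ε * x * ε = x := fun x => by
    constructor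
    · rintro ⟨y, rfl⟩
      simp only [LinearMap.mulLeftRight_apply, mul_assoc, hε.eq]
      rw [← mul_assoc ε ε, hε.eq]
    · exact fun h => ⟨x, by simp [LinearMap.mulLeftRight_apply, h]⟩
  have hsand : ∀ i x l, v i * x * u l ∈ C := fun i x l => by
    rw [hmemC, ← mul_assoc, ← mul_assoc, hve, mul_assoc, hue]
  have hτ : ∀ τ ∈ F, ∀ x, τ x = ∑ j, τ (v j * x * u j) := fun τ hτ x => by
    rw [← ((hF τ).1 hτ).2 x, ← huv, Finset.mul_sum, map_sum]
    exact Finset.sum_congr rfl fun j _ => by rw [← mul_assoc, ((hF τ).1 hτ).1, ← mul_assoc]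
  -- restriction to the corner
  let res : F →ₗ[k] Module.Dual k C := (LinearMap.lcomp k k C.subtype).comp F.subtype
  have hres : Function.Injective res := by
    rw [injective_iff_map_eq_zero]
    intro τ h
    refine Subtype.ext (LinearMap.ext fun x => ?_)
    rw [hτ τ.1 τ.2]
    exact Finset.sum_eq_zero fun j _ => LinearMap.congr_fun h ⟨_, hsand j x j⟩
  have hrange : ∀ σ : Module.Dual k C, (∀ (a b : R) (ha : a * b ∈ C) (hb : b * a ∈ C),
      a ∈ C → b ∈ C → σ ⟨a * b, ha⟩ = σ ⟨b * a, hb⟩) → σ ∈ LinearMap.range res := by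
    intro σ hσ
    let pC : R →ₗ[k] C := (LinearMap.mulLeftRight k (ε, ε)).rangeRestrict
    have hpC : ∀ x (hx : x ∈ C), pC x = ⟨x, hx⟩ := fun x hx => Subtype.ext ((hmemC x).1 hx)
    have hσ' : ∀ a b, a ∈ C → b ∈ C → σ (pC (a * b)) = σ (pC (b * a)) := fun a b ha hb => by
      have hm : ∀ {a b}, a ∈ C → b ∈ C → a * b ∈ C := fun {a b} ha hb => by
        rw [hmemC] at ha hb ⊢
        conv_rhs => rw [← ha, ← hb]
        conv_lhs => rw [← ha, ← hb]
        simp only [mul_assoc, hε.eq]
        rw [← mul_assoc ε ε, hε.eq]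
      rw [hpC _ (hm ha hb), hpC _ (hm hb ha)]
      exact hσ a b _ _ ha hb
    let τ : R →ₗ[k] k := ∑ j, σ ∘ₗ pC ∘ₗ LinearMap.mulLeftRight k (v j, u j)
    have hτa : ∀ x, τ x = ∑ j, σ (pC (v j * x * u j)) := fun x => by
      simp [τ, LinearMap.mulLeftRight_apply]
    have htr : ∀ x y, τ (x * y) = τ (y * x) := by
      have key : ∀ x y, τ (x * y) = ∑ j, ∑ l, σ (pC ((v j * x * u l) * (v l * y * u j))) := by
        intro x y
        rw [hτa]
        refine Finset.sum_congr rfl fun j _ => ?_
        rw [← map_sum, ← map_sum]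
        congr 2
        calc v j * (x * y) * u j = v j * x * e0 * (y * u j) := by
              rw [mul_assoc (v j * x), ← mul_assoc e0, (hc y).eq, mul_assoc y, he0u]
              simp only [mul_assoc]
          _ = _ := by
              rw [← huv, Finset.mul_sum, Finset.sum_mul]
              exact Finset.sum_congr rfl fun l _ => by simp only [mul_assoc]
      intro x y
      rw [key, key, Finset.sum_comm]
      exact Finset.sum_congr rfl fun j _ => Finset.sum_congr rfl fun l _ =>
        hσ' _ _ (hsand _ _ _) (hsand _ _ _)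
    have htF : τ ∈ F := (hF τ).2 ⟨htr, fun x => by
      simp only [hτa]
      exact Finset.sum_congr rfl fun j _ => by
        rw [← mul_assoc, mul_assoc (v j * x), he0u]⟩
    refine ⟨⟨τ, htF⟩, LinearMap.ext fun c => ?_⟩
    show τ c.1 = σ c
    have hcC := (hmemC c.1).1 c.2
    have hεc : ε * c.1 = c.1 := by rw [← hcC, ← mul_assoc, ← mul_assoc, hε.eq]
    have hcε : c.1 * ε = c.1 := by rw [← hcC, mul_assoc, hε.eq]
    rw [hτa]
    refine Eq.trans ?_ (congrArg σ ((hpC c.1 c.2).trans (Subtype.coe_eta c c.2)))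
    have h1 : ∀ j, σ (pC (v j * c.1 * u j)) = σ (pC (c.1 * u j * v j * ε)) := fun j => by
      have hA : v j * ε ∈ C := by rw [hmemC, ← mul_assoc, hve, mul_assoc, hε.eq]
      have hB : c.1 * u j ∈ C := by rw [hmemC, ← mul_assoc, hεc, mul_assoc, hue]
      rw [show v j * c.1 * u j = (v j * ε) * (c.1 * u j) by
        simp only [mul_assoc]; rw [← mul_assoc ε c.1, hεc], hσ' _ _ hA hB, ← mul_assoc]
    simp only [h1]
    rw [← map_sum, ← map_sum]
    congr 2
    rw [← Finset.sum_mul, show ∑ j, c.1 * u j * v j = c.1 * e0 by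
      rw [← huv, Finset.mul_sum]; exact Finset.sum_congr rfl fun j _ => mul_assoc _ _ _,
      mul_assoc, ← hεcomm, hε0, hcε]
  have hdim : ∀ T : Submodule k R, T ≤ C → (∀ a b, a ∈ C → b ∈ C → a * b - b * a ∈ T) →
      finrank k C ≤ finrank k T + 2 := by
    intro T hTC hT
    set T' : Subspace k C := T.comap C.subtype
    have h1 := Subspace.finrank_add_finrank_dualAnnihilator_eq T'
    have h2 : finrank k T' = finrank k T := (Submodule.comapSubtypeEquivOfLe hTC).finrank_eq
    have h3 : finrank k T'.dualAnnihilator ≤ 2 := by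
      rw [← hF2, ← LinearMap.finrank_range_of_inj hres]
      refine Submodule.finrank_mono fun σ hσ => hrange σ fun a b hab hba ha hb => ?_
      rw [← sub_eq_zero, ← map_sub]
      exact (Submodule.mem_dualAnnihilator σ).1 hσ _ (hT a b ha hb)
    omega
  obtain ⟨hC2, hNN⟩ := corner_structure π hker hε hπε hε0 hdim (fun hall => by
    have hle : finrank k C ≤ 1 := by
      have : C ≤ Submodule.span k {ε} := fun x hx => by
        obtain ⟨c, rfl⟩ := hall x hx
        exact Submodule.smul_mem _ _ (Submodule.mem_span_singleton_self ε)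
      exact (Submodule.finrank_mono this).trans ((finrank_span_le_card _).trans (by simp))
    have h1 := LinearMap.finrank_le_finrank_of_injective hres
    rw [hF2, Subspace.dual_finrank_eq] at h1
    omega)
  refine ⟨n, ?_⟩
  set A := LinearMap.range (LinearMap.mulRight k e0) with hA
  have hmemA : ∀ x, x ∈ A ↔ x * e0 = x := fun x =>
    ⟨fun ⟨y, hy⟩ => by rw [← hy]; simp [mul_assoc, he.eq], fun h => ⟨x, by simpa using h⟩⟩
  let Ψ : (Fin n → Fin n → C) →ₗ[k] R :=
    ∑ i, ∑ l, LinearMap.mulLeftRight k (u i, v l) ∘ₗ C.subtype ∘ₗ LinearMap.proj l ∘ₗ LinearMap.proj i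
  have hΨ : ∀ c, Ψ c = ∑ i, ∑ l, u i * (c i l).1 * v l := fun c => by
    simp [Ψ, LinearMap.mulLeftRight_apply]
  have hΨr : LinearMap.range Ψ = A := by
    refine le_antisymm ?_ fun x hx => ⟨fun i l => ⟨_, hsand i x l⟩, ?_⟩
    · rintro _ ⟨c, rfl⟩
      rw [hmemA, hΨ, Finset.sum_mul]
      refine Finset.sum_congr rfl fun i _ => ?_
      rw [Finset.sum_mul]
      refine Finset.sum_congr rfl fun l _ => ?_
      simp only [hv, mul_assoc]
      rw [← (hc (W l)).eq, ← mul_assoc ε e0, hε0]
    · rw [hΨ]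
      have : ∑ i, ∑ l, u i * (v i * x * u l) * v l = (∑ i, u i * v i) * x * ∑ l, u l * v l := by
        rw [Finset.sum_mul, Finset.sum_mul]
        exact Finset.sum_congr rfl fun i _ => by rw [Finset.mul_sum]; simp only [mul_assoc]
      rw [this, huv, (hc x).eq, mul_assoc, he.eq, (hmemA x).1 hx]
  have hΨi : Function.Injective Ψ := by
    rw [injective_iff_map_eq_zero]
    intro c hc0
    rw [hΨ] at hc0
    have hD : ∀ a i, ∃ D, D ∈ C ∧ π D = 0 ∧ v a * u i = (if a = i then ε else 0) + D := by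
      intro a i
      refine ⟨v a * u i - (if a = i then ε else 0), sub_mem ?_ ?_, ?_, by abel⟩
      · have h := hsand a 1 i
        rwa [mul_one] at h
      · split_ifs
        · exact (hmemC ε).2 (by rw [hε.eq, hε.eq])
        · exact zero_mem _
      · rw [map_sub, map_mul, hπv, hπu]
        split_ifs with h
        · subst h; rw [Matrix.single_mul_single_same, one_mul, hπε, sub_self]
        · rw [Matrix.single_mul_single_of_ne _ _ _ _ h, map_zero, sub_zero]
    choose D hDC hDπ hDeq using hD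
    have hsum : ∀ a b, ∑ i, ∑ l, (v a * u i) * (c i l).1 * (v l * u b) = 0 := fun a b => by
      have := congrArg (fun x => v a * x * u b) hc0
      simp only [Finset.mul_sum, Finset.sum_mul, mul_zero, zero_mul] at this
      rw [← this]
      simp only [mul_assoc]
    have hcπ : ∀ a b, π (c a b).1 = 0 := fun a b => by
      have h := congrArg π (hsum a b)
      simp only [map_sum, map_mul, map_zero] at h
      rw [← (hmemC _).1 (c a b).2, map_mul, map_mul]
      simp only [← map_mul (f := π), hDeq, map_add, hDπ, add_zero] at h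
      simp only [apply_ite π, map_zero, ite_mul, zero_mul, mul_ite, mul_zero, Finset.sum_ite_eq,
        Finset.sum_ite_eq', Finset.mem_univ, if_true] at h
      simpa [map_mul] using h
    funext a b
    refine Subtype.ext ?_
    have h := hsum a b
    have hεc : ∀ x : C, ε * x.1 = x.1 := fun x => by
      rw [← (hmemC x.1).1 x.2, ← mul_assoc, ← mul_assoc, hε.eq]
    have hcε : ∀ x : C, x.1 * ε = x.1 := fun x => by
      rw [← (hmemC x.1).1 x.2, mul_assoc, hε.eq]
    simp only [hDeq, add_mul, mul_add, ite_mul, zero_mul, mul_ite, mul_zero,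
      hNN _ _ (hDC _ _) (c _ _).2 (hDπ _ _) (hcπ _ _), hεc, hcε,
      hNN _ _ (c _ _).2 (hDC _ _) (hcπ _ _) (hDπ _ _), add_zero, Finset.sum_ite_eq,
      Finset.sum_ite_eq', Finset.mem_univ, if_true, ite_self] at h
    exact h
  rw [← hΨr, LinearMap.finrank_range_of_inj hΨi, Module.finrank_pi_fintype]
  rw [← hC] at hC2
  simp [Module.finrank_pi_fintype, hC2]
  ring

end Cfsg.Agent.Blocks.LocalRankTwo
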