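import Cfsg.Agent.Lib.BlocksX.Normal
import Cfsg.Agent.Lib.Blocks.FirstMain

/-!
# Blocks of normal subgroups `Q C(Q)`, the extended first main theorem
-/

set_option linter.style.haveILetI false
set_option linter.unusedSectionVars false

namespace Cfsg.Agent.Blocks

open Cfsg MonoidAlgebra

universe u v

section Transport

variable {K : Type u} {L : Type v} [Group K] [Group L] [Finite K] [Finite L] (e : K ≃* L)

theorem centralChar_comp_equiv (f : L → ℂ) (k : K) :
    centralChar (fun k => f (e k)) k = centralChar f (e k) := by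
  have h : (Subgroup.centralizer ({k} : Set K)).map e.toMonoidHom =
      Subgroup.centralizer ({e k} : Set L) := by
    ext x
    simp only [Subgroup.mem_map, MulEquiv.coe_toMonoidHom, Subgroup.mem_centralizer_singleton_iff]
    refine ⟨?_, fun hx => ⟨e.symm x, e.injective ?_, e.apply_symm_apply x⟩⟩
    · rintro ⟨y, hy, rfl⟩
      rw [← map_mul, ← map_mul, hy]
    · rw [map_mul, map_mul, e.apply_symm_apply, hx]
  rw [centralChar, centralChar, ← h, Subgroup.index_map_of_bijective e.bijective, map_one]

theorem sameBlock_comp_equiv {M : Ideal AlgInt} {f f' : L → ℂ} (h : SameBlock M f f') :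
    SameBlock M (fun k => f (e k)) (fun k => f' (e k)) := fun k => by
  rw [centralChar_comp_equiv, centralChar_comp_equiv]
  exact h _

/-- Transport of an irreducible character along an isomorphism. -/
def compEquiv (χ : IrrCharacter L) : IrrCharacter K :=
  ⟨fun k => χ.1 (e k), Char.IsIrrCharacter.comp_surjective χ.2 e.toMonoidHom e.surjective⟩

theorem compEquiv_apply (χ : IrrCharacter L) (k : K) : (compEquiv e χ).1 k = χ.1 (e k) := rfl

end Transport

variable {G : Type u} [Group G] [Finite G] {M : Ideal AlgInt} [M.IsMaximal]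
variable {p : ℕ} [hp : Fact p.Prime] (hpM : (p : AlgInt) ∈ M)
include hpM

/-- A block covering a block of a normal subgroup containing the centralizer of a normal
`p`-subgroup is induced from it. -/
theorem isInducedBlock_of_covers {Q N : Subgroup G} [Q.Normal] [N.Normal] (hQ : IsPGroup p Q)
    (hQN : Subgroup.centralizer (Q : Set G) ≤ N) [Fintype G] [Fintype N]
    {b : Set (IrrCharacter N)} (hb : IsPBlock M b) {B : Set (IrrCharacter G)} (hB : IsPBlock M B)
    {χ₀ : IrrCharacter G} (hχ₀ : χ₀ ∈ B) {θ₀ : IrrCharacter N} (hθ₀ : θ₀ ∈ b)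
    (hc : classInner (Char.resFun N χ₀.1) θ₀.1 ≠ 0) : IsInducedBlock M N b B := by
  classical
  refine ⟨hb, hB, fun ξ hξ χ hχ g => ?_⟩
  by_cases hg : g ∈ N
  · simpa using MemLocalIdeal.neg
      (BlocksX.congr_of_covers N hB hb hχ₀ hθ₀ hc hχ hξ ⟨g, hg⟩)
  · have h0 : inducedCentralChar N ξ.1 g = 0 := by
      rw [BlocksX.inducedCentralChar_eq, Finset.sum_eq_zero, zero_div]
      intro k hk
      obtain ⟨c, hc⟩ := isConj_iff.1 (Finset.mem_filter.1 hk).2
      exact absurd ((BlocksX.conj_mem_iff N g c).1 (by rw [hc]; exact k.2)) hg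
    rw [h0, zero_sub]
    refine MemLocalIdeal.neg ?_
    by_contra hI
    obtain ⟨x, hx, hxC⟩ := exists_conj_mem_centralizer hpM hQ hI
    obtain ⟨c, rfl⟩ := isConj_iff.1 hx
    exact hg ((BlocksX.conj_mem_iff N g c).1 (hQN hxC))

/-- A block of a subgroup between `P C(P)` and `N(P)` inducing a block with defect group `P` has
defect group `P`. -/
theorem IsInducedBlock.isDefectGroup_subgroupOf {H P : Subgroup G} (hPH : P ≤ H)
    (hHN : H ≤ Subgroup.normalizer (P : Set G)) {b : Set (IrrCharacter H)}
    {B : Set (IrrCharacter G)} (hind : IsInducedBlock M H b B) (hP : IsDefectGroup p M B P) :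
    IsDefectGroup p M b (P.subgroupOf H) := by
  haveI := normal_subgroupOf_of_le_normalizer hHN
  obtain ⟨D, hD⟩ := exists_defectGroup (p := p) hind.1
  obtain ⟨E, hE, hle⟩ := IsInducedBlock.exists_defectGroup_ge hpM hind hD
  have h1 : P.subgroupOf H ≤ D := normal_le_defectGroup hpM hind.1
    ((IsDefectGroup.isPGroup hP).of_equiv (Subgroup.subgroupOfEquivOfLe hPH).symm) hD
  have hcard : Nat.card D ≤ Nat.card (P.subgroupOf H) := by
    rw [← Subgroup.card_map_of_injective H.subtype_injective,
      Nat.card_congr (Subgroup.subgroupOfEquivOfLe hPH).toEquiv,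
      card_defectGroup hpM hind.2.1 hP, ← card_defectGroup hpM hind.2.1 hE]
    exact Subgroup.card_le_of_le hle
  rwa [Subgroup.eq_of_le_of_card_ge h1 hcard]

/-- Existence part of the extended first main theorem. -/
theorem exists_block_sup_centralizer {B : Set (IrrCharacter G)} (hB : IsPBlock M B)
    {P : Subgroup G} (hP : IsDefectGroup p M B P) :
    ∃ b, IsDefectGroup p M b (P.subgroupOf (P ⊔ Subgroup.centralizer (P : Set G))) ∧
      IsInducedBlock M (P ⊔ Subgroup.centralizer (P : Set G)) b B := by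
  have hHN : P ⊔ Subgroup.centralizer (P : Set G) ≤ Subgroup.normalizer (P : Set G) :=
    sup_le Subgroup.le_normalizer (Subgroup.centralizer_le_normalizer _)
  obtain ⟨b, hb⟩ := (exists_isInducedBlock_iff hpM (IsDefectGroup.isPGroup hP) le_sup_left
    le_sup_right hHN hB).2 ⟨P, hP, 1, (map_conj_one P).le⟩
  exact ⟨b, IsInducedBlock.isDefectGroup_subgroupOf hpM le_sup_left hHN hb hP, hb⟩

omit hpM in
theorem normal_subgroupOf_sup_centralizer (P : Subgroup G) :
    ((P ⊔ Subgroup.centralizer (P : Set G)).subgroupOf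
      (Subgroup.normalizer (P : Set G))).Normal := by
  refine ⟨fun k hk n => ?_⟩
  rw [Subgroup.mem_subgroupOf] at hk ⊢
  have hP : P.map (MulAut.conj (n : G)).toMonoidHom = P := by
    ext q
    rw [mem_map_conj]
    exact (Subgroup.mem_normalizer_iff''.1 n.2 q).symm
  have hC : (Subgroup.centralizer (P : Set G)).map (MulAut.conj (n : G)).toMonoidHom =
      Subgroup.centralizer (P : Set G) := by
    ext q
    rw [mem_map_conj]
    have := conj_mem_centralizer_iff (P := P) (x := q) ((Subgroup.normalizer _).inv_mem n.2)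
    rwa [inv_inv] at this
  have h := Subgroup.mem_map_of_mem (MulAut.conj (n : G)).toMonoidHom hk
  rw [Subgroup.map_sup, hP, hC] at h
  exact h

/-- The block of `N(P)` covering a block of `P C(P)` that induces `B` is the correspondent of
`B`. -/
theorem exists_cover_of_induced {P : Subgroup G} {B : Set (IrrCharacter G)}
    (hP : IsDefectGroup p M B P)
    [((P ⊔ Subgroup.centralizer (P : Set G)).subgroupOf
      (Subgroup.normalizer (P : Set G))).Normal]
    [Fintype (Subgroup.normalizer (P : Set G))]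
    [Fintype ((P ⊔ Subgroup.centralizer (P : Set G)).subgroupOf
      (Subgroup.normalizer (P : Set G)))]
    {b : Set (IrrCharacter ↥(P ⊔ Subgroup.centralizer (P : Set G)))}
    (hb : IsInducedBlock M (P ⊔ Subgroup.centralizer (P : Set G)) b B)
    (θ : IrrCharacter ↥(P ⊔ Subgroup.centralizer (P : Set G))) (hθ : θ ∈ b)
    (e : ((P ⊔ Subgroup.centralizer (P : Set G)).subgroupOf
      (Subgroup.normalizer (P : Set G))) ≃* ↥(P ⊔ Subgroup.centralizer (P : Set G)))
    (he : ∀ k, ((e k : ↥(P ⊔ Subgroup.centralizer (P : Set G))) : G) =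
      ((k : Subgroup.normalizer (P : Set G)) : G)) :
    ∃ bN : Set (IrrCharacter (Subgroup.normalizer (P : Set G))),
      IsInducedBlock M (Subgroup.normalizer (P : Set G)) bN B ∧
      IsDefectGroup p M bN (P.subgroupOf (Subgroup.normalizer (P : Set G))) ∧
      ∃ η ∈ bN, classInner (Char.resFun _ η.1) (compEquiv e θ).1 ≠ 0 := by
  classical
  haveI := Fintype.ofFinite ↥(P ⊔ Subgroup.centralizer (P : Set G))
  obtain ⟨η, hη⟩ := BlocksX.exists_over
    ((P ⊔ Subgroup.centralizer (P : Set G)).subgroupOf (Subgroup.normalizer (P : Set G)))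
    (compEquiv e θ)
  obtain ⟨χ, hχ⟩ := block_nonempty hb.2.1
  have hPN : P ≤ Subgroup.normalizer (P : Set G) := Subgroup.le_normalizer
  haveI := normal_subgroupOf_of_le_normalizer (le_refl (Subgroup.normalizer (P : Set G)))
  have hcov : IsInducedBlock M
      ((P ⊔ Subgroup.centralizer (P : Set G)).subgroupOf (Subgroup.normalizer (P : Set G)))
      (blockOf M (compEquiv e θ).1) (blockOf M η.1) := by
    refine isInducedBlock_of_covers hpM (Q := P.subgroupOf (Subgroup.normalizer (P : Set G)))
      ((IsDefectGroup.isPGroup hP).of_equiv (Subgroup.subgroupOfEquivOfLe hPN).symm)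
      (fun k hk => ?_) (isPBlock_blockOf _) (isPBlock_blockOf _) (mem_blockOf_self η)
      (mem_blockOf_self _) hη
    rw [Subgroup.mem_subgroupOf]
    exact le_sup_right (a := P) (fun q hq => congrArg Subtype.val (hk ⟨q, hPN hq⟩ hq))
  have hind : IsInducedBlock M (Subgroup.normalizer (P : Set G)) (blockOf M η.1) B := by
    refine ⟨isPBlock_blockOf η, hb.2.1, fun η' hη' χ' hχ' g => ?_⟩
    rw [← omega_resH_classSum, ← omega_classSum (irr_classFun χ')]
    have hzc := isCentralElt_classSum (R := ℂ) g
    have hzS : SCoeff M (classSum ℂ g) := scoeff_classSum g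
    have h1 := SameBlock.omega_sub (sameBlock_of_mem (isPBlock_blockOf η) hη' (mem_blockOf_self η))
      (isCentralElt_resH (H := Subgroup.normalizer (P : Set G)) hzc) (scoeff_resH hzS)
    have h2 := IsInducedBlock.omega_sub hcov (mem_blockOf_self (compEquiv e θ)) (mem_blockOf_self η)
      (isCentralElt_resH (H := Subgroup.normalizer (P : Set G)) hzc) (scoeff_resH hzS)
    have h3 := IsInducedBlock.omega_sub hb hθ hχ' hzc hzS
    have heq : omega (compEquiv e θ).1 (resH _ (resH (Subgroup.normalizer (P : Set G))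
        (classSum ℂ g))) = omega θ.1 (resH _ (classSum ℂ g)) := by
      rw [omega, omega, chiL_eq_sum, chiL_eq_sum, compEquiv_apply, map_one]
      congr 1
      refine Fintype.sum_equiv e.toEquiv _ _ fun k => ?_
      simp only [coeff_resH, compEquiv_apply, MulEquiv.toEquiv_eq_coe, EquivLike.coe_coe, he]
    rw [heq] at h2
    simpa using MemLocalIdeal.add (MemLocalIdeal.sub h1 h2) h3
  exact ⟨_, hind, IsInducedBlock.isDefectGroup_subgroupOf hpM hPN le_rfl hind hP, η,
    mem_blockOf_self η, hη⟩

/-- Uniqueness part of the extended first main theorem. -/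
theorem exists_normalizer_conj_of_induced {B : Set (IrrCharacter G)} {P : Subgroup G}
    (hP : IsDefectGroup p M B P)
    {b b' : Set (IrrCharacter ↥(P ⊔ Subgroup.centralizer (P : Set G)))}
    (hb : IsInducedBlock M (P ⊔ Subgroup.centralizer (P : Set G)) b B)
    (hb' : IsInducedBlock M (P ⊔ Subgroup.centralizer (P : Set G)) b' B) :
    ∃ n ∈ Subgroup.normalizer (P : Set G), ∀ θ ∈ b, ∃ θ' ∈ b',
      ∀ x : ↥(P ⊔ Subgroup.centralizer (P : Set G)),
        ∀ hx : n * (x : G) * n⁻¹ ∈ P ⊔ Subgroup.centralizer (P : Set G),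
          θ'.1 x = θ.1 ⟨n * (x : G) * n⁻¹, hx⟩ := by
  classical
  have hHN : P ⊔ Subgroup.centralizer (P : Set G) ≤ Subgroup.normalizer (P : Set G) :=
    sup_le Subgroup.le_normalizer (Subgroup.centralizer_le_normalizer _)
  haveI := normal_subgroupOf_sup_centralizer P
  haveI := Fintype.ofFinite (Subgroup.normalizer (P : Set G))
  haveI := Fintype.ofFinite ((P ⊔ Subgroup.centralizer (P : Set G)).subgroupOf
      (Subgroup.normalizer (P : Set G)))
  set e := Subgroup.subgroupOfEquivOfLe hHN with he_def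
  have he : ∀ k, ((e k : ↥(P ⊔ Subgroup.centralizer (P : Set G))) : G) =
      ((k : Subgroup.normalizer (P : Set G)) : G) := fun k => rfl
  obtain ⟨θ₀, hθ₀⟩ := block_nonempty hb.1
  obtain ⟨θ₁, hθ₁⟩ := block_nonempty hb'.1
  obtain ⟨bN, hN, hND, η, hη, hc⟩ := exists_cover_of_induced hpM hP hb θ₀ hθ₀ e he
  obtain ⟨bN', hN', hND', η', hη', hc'⟩ := exists_cover_of_induced hpM hP hb' θ₁ hθ₁ e he
  have hEq : bN = bN' :=
    IsInducedBlock.eq_of_normalizer hpM (IsDefectGroup.isPGroup hP) hN hN' hND hND'
  obtain ⟨g, hg⟩ := BlocksX.exists_conj_mem_of_congr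
    ((P ⊔ Subgroup.centralizer (P : Set G)).subgroupOf (Subgroup.normalizer (P : Set G)))
    (isPBlock_blockOf (M := M) (compEquiv e θ₁)) (mem_blockOf_self _)
    (η := compEquiv e θ₀) fun n => by
      have h1 := sameBlock_of_mem hN.1 hη (hEq ▸ hη') (n : Subgroup.normalizer (P : Set G))
      rw [BlocksX.centralChar_eq_of_constituent _ η _ hc,
        BlocksX.centralChar_eq_of_constituent _ η' _ hc'] at h1
      simpa using MemLocalIdeal.neg h1
  refine ⟨(g : G), g.2, fun θ hθ => ?_⟩
  have h1 : SameBlock M (compEquiv e θ₀).1 (compEquiv e θ).1 :=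
    sameBlock_comp_equiv e (sameBlock_of_mem hb.1 hθ₀ hθ)
  have h2 := SameBlock.trans hg (BlocksX.sameBlock_conjFun _ h1 g)
  refine ⟨compEquiv e.symm (Char.conjChar _ (compEquiv e θ) g), ?_, fun x hx => ?_⟩
  · rw [block_eq hb'.1 hθ₁, mem_blockOf]
    have h3 := sameBlock_comp_equiv e.symm h2
    have e1 : θ₁.1 = fun k => (compEquiv e θ₁).1 (e.symm k) :=
      funext fun k => by rw [compEquiv_apply, MulEquiv.apply_symm_apply]
    rw [e1]
    exact h3
  · rw [compEquiv_apply, Char.conjChar_coe]
    show θ.1 (e _) = _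
    refine congrArg θ.1 (Subtype.ext ?_)
    rw [he, MulAut.conjNormal_apply]
    simp only [Subgroup.coe_mul, InvMemClass.coe_inv]
    rfl

end Cfsg.Agent.Blocks
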