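import Cfsg.Agent.Lib.Blocks.SecondMain
import Cfsg.Agent.Lib.PCore.Basic
import Cfsg.Prelude.Def_Local

/-!
# Brauer's third main theorem, kernels of blocks
-/

set_option linter.style.haveILetI false
set_option linter.unusedSectionVars false

namespace Cfsg.Agent.Blocks

open Cfsg MonoidAlgebra
open scoped ComplexConjugate

universe u

variable {G : Type u} [Group G] [Finite G]

/-- The sum of the `p`-regular elements. -/
noncomputable def regSum (p : ℕ) (G : Type u) [Group G] [Finite G] : MonoidAlgebra ℂ G :=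
  open Classical in ofFun fun g => if IsPRegular p g then 1 else 0

open Classical in
theorem coeff_regSum (p : ℕ) (g : G) :
    (regSum p G).coeff g = if IsPRegular p g then 1 else 0 := by simp [regSum]

theorem isPRegular_coe_iff {p : ℕ} {H : Subgroup G} (h : H) :
    IsPRegular p (h : G) ↔ IsPRegular p h := by
  rw [IsPRegular, IsPRegular, Subgroup.orderOf_coe]

theorem isPRegular_conj {p : ℕ} {g : G} (h : G) :
    IsPRegular p (h * g * h⁻¹) ↔ IsPRegular p g := by
  rw [IsPRegular, IsPRegular, show h * g * h⁻¹ = MulAut.conj h g from rfl, MulEquiv.orderOf_eq]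

theorem isCentralElt_regSum (p : ℕ) : IsCentralElt (regSum p G) := fun g h => by
  classical
  simp only [coeff_regSum, isPRegular_conj]

theorem resH_regSum (p : ℕ) (H : Subgroup G) : resH H (regSum p G) = regSum p H := alg_ext fun h => by
  classical
  simp only [coeff_resH, coeff_regSum, isPRegular_coe_iff]

theorem trivial_mem_principalBlock {M : Ideal AlgInt} [M.IsPrime] :
    Char.trivialChar G ∈ principalBlock M G :=
  mem_blockOf_self (M := M) (Char.trivialChar G)

variable {M : Ideal AlgInt} [M.IsMaximal] {p : ℕ} [hp : Fact p.Prime]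

theorem scoeff_regSum : SCoeff M (regSum p G) := fun g => by
  classical
  rw [coeff_regSum]
  split_ifs <;> [exact memLocalRing_one; exact memLocalRing_zero]

variable (hpM : (p : AlgInt) ∈ M)
include hpM

theorem omega_regSum_eq_zero {χ : IrrCharacter G} (h : χ ∉ principalBlock M G) :
    omega χ.1 (regSum p G) = 0 := by
  classical
  haveI := Fintype.ofFinite G
  have h1 := regular_orthogonality (p := p) hpM (χ := χ) (ψ := Char.trivialChar G)
    fun hs => h (SameBlock.symm hs)
  simp only [Char.trivialChar_apply, map_one, mul_one] at h1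
  rw [omega, chiL_eq_sum]
  simp only [coeff_regSum, ite_mul, one_mul, zero_mul]
  rw [← Finset.sum_filter, h1, zero_div]

/-- The number of `p`-regular elements is prime to `p`. -/
theorem not_memLocalIdeal_omega_trivial_regSum :
    ¬ MemLocalIdeal M (omega (Char.trivialChar G).1 (regSum p G)) := by
  classical
  intro hR
  haveI := Fintype.ofFinite G
  haveI := charP_residue hpM
  set z := regSum p G with hz
  have hzc : IsCentralElt z := isCentralElt_regSum p
  have hzS : SCoeff M z := scoeff_regSum
  have hnil := mcoeff_pow_of_omega hzc hzS fun ψ => by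
    by_cases hψ : ψ ∈ principalBlock M G
    · exact memLocalIdeal_of_sub
        (SameBlock.omega_sub (SameBlock.symm (mem_blockOf.1 hψ) :
          SameBlock M ψ.1 (Char.trivialChar G).1) hzc hzS) hR
    · rw [hz, omega_regSum_eq_zero hpM hψ]
      exact memLocalIdeal_zero
  rw [← redA_eq_zero_iff (SCoeff.pow hzS _), redA_pow hzS] at hnil
  obtain ⟨n, hn⟩ : ∃ n, Fintype.card (IrrCharacter G) ≤ p ^ n :=
    ⟨_, (Nat.lt_pow_self hp.out.one_lt).le⟩
  have hn' : redA M z ^ p ^ n = 0 := by
    rw [← Nat.add_sub_cancel' hn, pow_add, hnil, zero_mul]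
  have key := sum_pow_prime_pow (p := p) (redA M z) n (φ := fun g => if g = 1 then 1 else 0)
    (fun g h => by simp only [conj_eq_one_iff])
  rw [hn', Finset.sum_eq_single (1 : G), Finset.sum_eq_single (1 : G)] at key
  · simp [hz, coeff_redA, coeff_regSum, IsPRegular, hp.out.ne_one] at key
  · intro h _ hh
    by_cases hr : IsPRegular p h
    · rw [if_neg, mul_zero]
      intro h1
      exact hh (eq_one_of_orderOf_dvd_coprime (dvd_refl _) (orderOf_dvd_of_pow_eq_one h1)
        (((Nat.Prime.coprime_iff_not_dvd hp.out).2 hr).symm.pow_right n))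
    · rw [coeff_redA, hz, coeff_regSum, if_neg hr, red_zero,
        zero_pow (pow_ne_zero n hp.out.ne_zero), zero_mul]
  · simp
  · intro b _ hb
    simp [hb]
  · simp

theorem omega_regSum_unit_iff {χ : IrrCharacter G} :
    ¬ MemLocalIdeal M (omega χ.1 (regSum p G)) ↔ χ ∈ principalBlock M G := by
  refine ⟨fun h => ?_, fun h h' => not_memLocalIdeal_omega_trivial_regSum (G := G) hpM ?_⟩
  · by_contra hc
    exact h (by rw [omega_regSum_eq_zero hpM hc]; exact memLocalIdeal_zero)
  · exact memLocalIdeal_of_sub (SameBlock.omega_sub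
      (mem_blockOf.1 h : SameBlock M (Char.trivialChar G).1 χ.1) (isCentralElt_regSum p)
      scoeff_regSum) h'

/-- **Brauer's third main theorem**. -/
theorem third_main {H : Subgroup G} {b : Set (IrrCharacter H)} {B : Set (IrrCharacter G)}
    (h : IsInducedBlock M H b B) :
    B = principalBlock M G ↔ b = principalBlock M H := by
  have key : ∀ ξ ∈ b, ∀ χ ∈ B,
      (¬ MemLocalIdeal M (omega ξ.1 (regSum p H)) ↔
        ¬ MemLocalIdeal M (omega χ.1 (regSum p G))) := fun ξ hξ χ hχ => by
    have := IsInducedBlock.omega_sub h hξ hχ (isCentralElt_regSum p) (scoeff_regSum (p := p))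
    rw [resH_regSum] at this
    exact not_congr (memLocalIdeal_iff_of_sub this)
  obtain ⟨ξ, hξ⟩ := block_nonempty h.1
  obtain ⟨χ, hχ⟩ := block_nonempty h.2.1
  have k := key ξ hξ χ hχ
  rw [omega_regSum_unit_iff hpM, omega_regSum_unit_iff hpM] at k
  exact ⟨fun e => block_eq_of_mem h.1 (isPBlock_principalBlock hpM) hξ (k.2 (e ▸ hχ)),
    fun e => block_eq_of_mem h.2.1 (isPBlock_principalBlock hpM) hχ (k.1 (e ▸ hξ))⟩

theorem inducingSet_principalBlock {x : G} (hx : ∃ k, orderOf x = p ^ k) :
    inducingSet M (Subgroup.centralizer ({x} : Set G)) (principalBlock M G) =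
      principalBlock M (Subgroup.centralizer ({x} : Set G)) := by
  ext η
  refine ⟨fun h => ?_, fun h => ?_⟩
  · rw [← (third_main hpM h).1 rfl]
    exact mem_blockOf_self η
  · show IsInducedBlock _ _ _ _
    obtain ⟨B, hB⟩ := inducedBlockDefined_centralizer hpM hx (isPBlock_blockOf (M := M) η)
    have hb : blockOf M η.1 = principalBlock M (Subgroup.centralizer ({x} : Set G)) :=
      (block_eq (isPBlock_principalBlock hpM) h).symm
    rwa [(third_main hpM hB).2 hb] at hB

/-- The kernel of a block as a subgroup. -/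
def blockKerSubgroup (B : Set (IrrCharacter G)) : Subgroup G :=
  ⨅ χ : B, CharInt.charKernel (Char.irr_isCharacter χ.1)

omit hpM in
theorem mem_blockKerSubgroup {B : Set (IrrCharacter G)} {g : G} :
    g ∈ blockKerSubgroup B ↔ g ∈ blockKer B := by
  simp only [blockKerSubgroup, Subgroup.mem_iInf, CharInt.mem_charKernel, Subtype.forall]
  exact ⟨fun h χ hχ => h χ.1 χ.2 hχ, fun h a b hab => h ⟨a, b⟩ hab⟩

omit hpM in
theorem blockKerSubgroup_normal (B : Set (IrrCharacter G)) : (blockKerSubgroup B).Normal :=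
  Subgroup.normal_iInf_normal fun _ => CharInt.charKernel_normal _

theorem not_dvd_card_blockKer {B : Set (IrrCharacter G)} (hB : IsPBlock M B) :
    ¬ p ∣ Nat.card (blockKerSubgroup B) := by
  classical
  intro hdvd
  obtain ⟨⟨y, hy⟩, hyo⟩ := exists_prime_orderOf_dvd_card' p hdvd
  rw [← Subgroup.orderOf_coe] at hyo
  have h1 := weak_orthogonality hpM hB (x := (1 : G)) (y := y)
    (by simp [IsPRegular, hp.out.ne_one]) (not_not.2 (hyo ▸ dvd_rfl))
  rw [mem_blockKerSubgroup] at hy
  have h2 : ∑ χ ∈ Finset.univ.filter (· ∈ B), χ.1 1 * conj (χ.1 y) =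
      ((∑ χ ∈ Finset.univ.filter (· ∈ B), Char.degree χ ^ 2 : ℕ) : ℂ) := by
    push_cast
    refine Finset.sum_congr rfl fun χ hχ => ?_
    rw [hy χ (Finset.mem_filter.1 hχ).2, Char.apply_one_eq_degree, map_natCast, sq]
  rw [h2, Nat.cast_eq_zero, Finset.sum_eq_zero_iff] at h1
  obtain ⟨χ, hχ⟩ := block_nonempty hB
  exact (pow_pos (Char.degree_pos χ) 2).ne' (h1 χ (Finset.mem_filter.2 ⟨Finset.mem_univ _, hχ⟩))

theorem le_blockKer {B : Set (IrrCharacter G)} (hB : IsPBlock M B) {χ : IrrCharacter G}
    (hχ : χ ∈ B) {N : Subgroup G} [hN : N.Normal] (hcop : ¬ p ∣ Nat.card N)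
    (hker : ∀ g ∈ N, χ.1 g = χ.1 1) : N ≤ blockKerSubgroup B := by
  classical
  haveI := Fintype.ofFinite G
  set e : MonoidAlgebra ℂ G := ofFun fun g => if g ∈ N then (Nat.card N : ℂ)⁻¹ else 0 with he
  have hec : IsCentralElt e := fun g h => by
    simp only [he, coeff_ofFun]
    exact if_congr ⟨fun hc => by simpa [mul_assoc] using hN.conj_mem _ hc h⁻¹,
      fun hc => hN.conj_mem _ hc h⟩ rfl rfl
  have heS : SCoeff M e := fun g => by
    simp only [he, coeff_ofFun]
    split_ifs <;> [exact memLocalRing_inv_natCast hpM hcop; exact memLocalRing_zero]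
  have hshift : ∀ n ∈ N, e * MonoidAlgebra.single n (1 : ℂ) = e := fun n hn => alg_ext fun g => by
    rw [coeff_mul_single', mul_one]
    simp only [he, coeff_ofFun]
    exact if_congr (N.mul_mem_cancel_right (N.inv_mem hn)) rfl rfl
  have hNne : (Nat.card N : ℂ) ≠ 0 := Nat.cast_ne_zero.2 Nat.card_pos.ne'
  have hcnt : ((Finset.univ.filter (· ∈ N)).card : ℂ) = (Nat.card N : ℂ) := by
    rw [Nat.card_eq_fintype_card, Fintype.card_subtype]
  have hω1 : omega χ.1 e = 1 := by
    rw [omega, chiL_eq_sum]
    simp only [he, coeff_ofFun, ite_mul, zero_mul]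
    rw [← Finset.sum_filter, Finset.sum_congr rfl (g := fun _ => (Nat.card N : ℂ)⁻¹ * χ.1 1)
      (fun g hg => by rw [hker g (Finset.mem_filter.1 hg).2]), Finset.sum_const, nsmul_eq_mul,
      hcnt, ← mul_assoc, mul_inv_cancel₀ hNne, one_mul, div_self (irr_one_ne_zero χ)]
  have hee : e * e = e := alg_ext fun g => by
    rw [coeff_mul_eq_sum]
    have : ∀ x : G, e.coeff x * e.coeff (x⁻¹ * g) =
        if x ∈ N then (Nat.card N : ℂ)⁻¹ * e.coeff g else 0 := fun x => by
      simp only [he, coeff_ofFun]
      by_cases hx : x ∈ N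
      · rw [if_pos hx, if_pos hx]
        exact congrArg _ (if_congr (N.mul_mem_cancel_left (N.inv_mem hx)) rfl rfl)
      · rw [if_neg hx, if_neg hx, zero_mul]
    rw [Finset.sum_congr rfl fun x _ => this x, ← Finset.sum_filter, Finset.sum_const, nsmul_eq_mul,
      hcnt, ← mul_assoc, mul_inv_cancel₀ hNne, one_mul]
  intro n hn
  rw [mem_blockKerSubgroup]
  intro ψ hψ
  have hψ1 : omega ψ.1 e = 1 := by
    have h1 := congrArg (omega ψ.1) hee
    rw [omega_mul ψ hec] at h1
    rcases eq_or_ne (omega ψ.1 e) 0 with h0 | h0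
    · exfalso
      have h2 := SameBlock.omega_sub (sameBlock_of_mem hB hχ hψ) hec heS
      rw [hω1, h0, sub_zero] at h2
      exact not_memLocalIdeal_one h2
    · exact mul_right_cancel₀ h0 (by rw [one_mul]; exact h1)
  have h2 := congrArg (chiL ψ.1) (hshift n hn)
  rw [chiL_mul_of_central ψ hec, chiL_single, one_mul, hψ1, one_mul] at h2
  rw [h2]
  have h3 := hψ1
  rw [omega, div_eq_one_iff_eq (irr_one_ne_zero ψ)] at h3
  exact h3

/-- Characters of the principal block are constant on `u O_{p'}(C(u))`. -/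
theorem principal_apply_mul_core {u : G} (hu : ∃ k, orderOf u = p ^ k) {v : G}
    (hv : v ∈ centralizerPPrimeCore p u) {χ : IrrCharacter G} (hχ : χ ∈ principalBlock M G) :
    χ.1 (u * v) = χ.1 u := by
  classical
  obtain ⟨v', hv', rfl⟩ := Subgroup.mem_map.1 hv
  haveI := Fintype.ofFinite (Subgroup.centralizer ({u} : Set G))
  let u' : Subgroup.centralizer ({u} : Set G) := ⟨u, Subgroup.mem_centralizer_singleton_iff.2 rfl⟩
  have hpp := PCore.not_dvd_card_pPrimeCore (p := p) (G := Subgroup.centralizer ({u} : Set G))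
  have hker : v' ∈ blockKerSubgroup (principalBlock M (Subgroup.centralizer ({u} : Set G))) :=
    le_blockKer hpM (isPBlock_principalBlock hpM) trivial_mem_principalBlock
      hpp (fun g _ => rfl) hv'
  have hreg : ¬ p ∣ orderOf ((Subgroup.centralizer ({u} : Set G)).subtype v') := by
    show ¬ p ∣ orderOf (v' : G)
    rw [Subgroup.orderOf_coe]
    exact fun hd => hpp (hd.trans (Subgroup.orderOf_dvd_natCard _ hv'))
  have hg : IsPPart p ((u' * v' : Subgroup.centralizer ({u} : Set G)) : G) u :=
    isPPart_mul (Subgroup.mem_centralizer_singleton_iff.1 v'.2).symm hu hreg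
  have hg1 : IsPPart p ((u' : Subgroup.centralizer ({u} : Set G)) : G) u :=
    ⟨1, mul_one _, Commute.one_right _, hu, by simp [hp.out.ne_one]⟩
  have e1 := chiL_inducingSet hpM hu (isPBlock_principalBlock hpM) χ hg
  have e2 := chiL_inducingSet hpM hu (isPBlock_principalBlock hpM) χ hg1
  rw [if_pos hχ, inducingSet_principalBlock hpM hu] at e1 e2
  rw [chiL_inclA_mul_single] at e1 e2
  show χ.1 (((u' * v' : Subgroup.centralizer ({u} : Set G))) : G) = χ.1 (u' : G)
  rw [← e1, ← e2]
  refine Fintype.sum_equiv (Equiv.mulRight (u' * v' * u'⁻¹)) _ _ fun k => ?_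
  simp only [Equiv.coe_mulRight]
  have huv : u' * v' * u'⁻¹ = v' := by
    rw [show u' * v' = v' * u' from Subtype.ext
      (Subgroup.mem_centralizer_singleton_iff.1 v'.2).symm, mul_inv_cancel_right]
  have hke : blockCoeff (principalBlock M (Subgroup.centralizer ({u} : Set G))) (k * v') =
      blockCoeff (principalBlock M (Subgroup.centralizer ({u} : Set G))) k := by
    rw [blockCoeff_eq_sum, blockCoeff_eq_sum]
    refine congrArg _ (Finset.sum_congr rfl fun η hη => ?_)
    rw [Char.IsClassFunction.apply_mul_comm (irr_classFun η) k v',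
      CharInt.char_mul_of_mem_kernel (Char.irr_isCharacter η)
        (mem_blockKerSubgroup.1 hker η (Finset.mem_filter.1 hη).2)]
  rw [huv, coeff_blockIdem, coeff_blockIdem, hke]
  refine congrArg _ (congrArg χ.1 ?_)
  simp only [Subgroup.coe_mul, mul_assoc, u',
    ← Subgroup.mem_centralizer_singleton_iff.1 v'.2]

end Cfsg.Agent.Blocks
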