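import Mathlib.LinearAlgebra.Matrix.Rank
import Mathlib.LinearAlgebra.Matrix.ToLin
import Mathlib.LinearAlgebra.Basis.VectorSpace

/-!
# The rank of a matrix is invariant under an extension of fields
-/

namespace Cfsg.Agent.Blocks

open Matrix

/-- A matrix which factors through `ρ` rows and has a left-right inverse there has rank `ρ`. -/
theorem matrix_rank_eq_of_factor {F : Type*} [Field F] {m n o : Type*} [Fintype m] [Fintype n]
    [Fintype o] [DecidableEq o] {A : Matrix m n F} (P : Matrix m o F) (Q : Matrix o n F)
    (g : Matrix o m F) (h : Matrix n o F) (hA : A = P * Q) (h1 : g * A * h = 1) :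
    A.rank = Fintype.card o := by
  refine le_antisymm ?_ ?_
  · rw [hA]
    exact ((rank_mul_le_left P Q).trans (rank_le_card_width P))
  · have h2 := (rank_mul_le_left (g * A) h).trans (rank_mul_le_right g A)
    rwa [h1, rank_one] at h2

theorem matrix_rank_map {F K : Type*} [Field F] [Field K] (f : F →+* K) {m n : Type*} [Fintype m]
    [Fintype n] (A : Matrix m n F) : (A.map f).rank = A.rank := by
  classical
  let b := Module.finBasis F (LinearMap.range A.mulVecLin)
  let ι : (Fin (Module.finrank F (LinearMap.range A.mulVecLin)) → F) →ₗ[F] m → F :=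
    (LinearMap.range A.mulVecLin).subtype ∘ₗ b.equivFun.symm.toLinearMap
  let π : (n → F) →ₗ[F] Fin (Module.finrank F (LinearMap.range A.mulVecLin)) → F :=
    b.equivFun.toLinearMap ∘ₗ A.mulVecLin.rangeRestrict
  have hι : LinearMap.ker ι = ⊥ := LinearMap.ker_eq_bot.2
    ((Submodule.injective_subtype _).comp b.equivFun.symm.injective)
  have hπ : LinearMap.range π = ⊤ := LinearMap.range_eq_top.2
    (b.equivFun.surjective.comp A.mulVecLin.surjective_rangeRestrict)
  obtain ⟨g, hg⟩ := LinearMap.exists_leftInverse_of_injective ι hι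
  obtain ⟨h, hh⟩ := LinearMap.exists_rightInverse_of_surjective π hπ
  have hA : A = LinearMap.toMatrix' ι * LinearMap.toMatrix' π := by
    rw [← LinearMap.toMatrix'_comp]
    have : ι ∘ₗ π = Matrix.toLin' A := by
      refine LinearMap.ext fun v => ?_
      simp [ι, π, Matrix.toLin'_apply]
    rw [this, LinearMap.toMatrix'_toLin']
  have h1 : LinearMap.toMatrix' g * A * LinearMap.toMatrix' h = 1 := by
    conv_lhs => arg 1; arg 2; rw [hA]
    rw [← Matrix.mul_assoc, ← LinearMap.toMatrix'_comp, hg, LinearMap.toMatrix'_id, Matrix.one_mul,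
      ← LinearMap.toMatrix'_comp, hh, LinearMap.toMatrix'_id]
  rw [matrix_rank_eq_of_factor (A := A.map f) (P := (LinearMap.toMatrix' ι).map f)
      (Q := (LinearMap.toMatrix' π).map f) ((LinearMap.toMatrix' g).map f)
      ((LinearMap.toMatrix' h).map f) (by rw [← Matrix.map_mul, ← hA])
      (by rw [← Matrix.map_mul, ← Matrix.map_mul, h1, Matrix.map_one f f.map_zero f.map_one]),
    Fintype.card_fin]
  rfl

end Cfsg.Agent.Blocks
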