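import Cfsg.Agent.Lib.BlockLow.DefectClasses
import Cfsg.Agent.Lib.Blocks.RankMap
import Cfsg.Agent.Lib.Char.ClassSum

/-!
# The number of blocks with a given normal defect group

The numbers of pairs of elements of two defect classes with quotient in a Sylow subgroup, divided
by the `p`-part of the class size, form the matrix `L * R` where `L` consists of the central
characters of the blocks with defect group `D` and `R` of the coefficients of their idempotents.
-/

set_option autoImplicit false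
set_option linter.style.haveILetI false
set_option linter.unusedSectionVars false

namespace Cfsg.Agent.Blocks

open Cfsg
open scoped ComplexConjugate

universe u v

variable {G : Type u} [Group G] [Fintype G] {p : ℕ} [hp : Fact p.Prime] {M : Ideal AlgInt}
  [M.IsMaximal] (hpM : (p : AlgInt) ∈ M) {D : Subgroup G} [hDn : D.Normal] (hD : IsPGroup p D)

include hpM hD

theorem isDefectGroup_iff_blockDefect_eq {B : Set (IrrCharacter G)} (hB : IsPBlock M B) :
    IsDefectGroup p M B D ↔ blockDefect p B = (Nat.card D).factorization p := by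
  constructor
  · intro h
    rw [card_defectGroup hpM hB h, hp.out.factorization_pow, Finsupp.single_eq_same]
  · intro h
    obtain ⟨D', hD'⟩ := exists_defectGroup (p := p) hB
    have hle := normal_le_defectGroup hpM hB hD hD'
    obtain ⟨k, hk⟩ := IsPGroup.iff_card.1 hD
    have hc := card_defectGroup hpM hB hD'
    rw [h, hk, hp.out.factorization_pow, Finsupp.single_eq_same] at hc
    rwa [← Subgroup.eq_of_le_of_card_ge hle (by rw [hc, hk])] at hD'

theorem le_blockDefect {B : Set (IrrCharacter G)} (hB : IsPBlock M B) :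
    (Nat.card D).factorization p ≤ blockDefect p B := by
  obtain ⟨D', hD'⟩ := exists_defectGroup (p := p) hB
  obtain ⟨k, hk⟩ := IsPGroup.iff_card.1 hD
  have hle := Subgroup.card_le_of_le (normal_le_defectGroup hpM hB hD hD')
  rw [card_defectGroup hpM hB hD', hk] at hle
  rw [hk, hp.out.factorization_pow, Finsupp.single_eq_same]
  exact (Nat.pow_le_pow_iff_right hp.out.one_lt).1 hle

omit hD in
theorem sylIn_of_blockCoeff (hD : IsPGroup p D) {B : Set (IrrCharacter G)} (hB : IsPBlock M B)
    (hd : blockDefect p B = (Nat.card D).factorization p) {h : G}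
    (hh : ¬ MemLocalIdeal M (blockCoeff B h))
    (hc : (Nat.card (Subgroup.centralizer ({h} : Set G))).factorization p =
      (Nat.card D).factorization p) :
    SylIn p (Subgroup.centralizer ({h} : Set G)) D := by
  obtain ⟨g, hg, hgD⟩ :=
    isDefectGroup_iff.1 ((isDefectGroup_iff_blockDefect_eq hpM hD hB).2 hd)
  obtain ⟨χ, hχ⟩ := block_nonempty hB
  obtain ⟨Q, hQ⟩ := exists_sylIn (p := p) (Subgroup.centralizer ({h} : Set G))
  obtain ⟨x, hx⟩ := minmax hpM hB hχ (hg.2.2 χ hχ) hh hgD (SylIn.isPGroup hQ) hQ.1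
  obtain ⟨k, hk⟩ := IsPGroup.iff_card.1 hD
  have hQc : Nat.card Q = Nat.card D := by
    rw [hQ.2, hc, hk, hp.out.factorization_pow, Finsupp.single_eq_same]
  have heq := Subgroup.eq_of_le_of_card_ge hx (by rw [card_map_conj, hQc])
  have hQD : Q = D := by
    refine Subgroup.eq_of_le_of_card_ge (fun q hq => ?_) hQc.ge
    have h1 : x * q * x⁻¹ ∈ D := heq ▸ Subgroup.mem_map_of_mem _ hq
    have h2 := hDn.conj_mem _ h1 x⁻¹
    simpa [mul_assoc] using h2
  exact hQD ▸ hQ

variable {ι : Type v} [Fintype ι] {x : ι → G}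
  (hinj : ∀ i j, IsConj (x i) (x j) → i = j)
  (hmem : ∀ g, (¬ p ∣ orderOf g ∧ SylIn p (Subgroup.centralizer ({g} : Set G)) D) ↔
    ∃ i, IsConj (x i) g)

include hinj hmem

open Classical in
/-- The dual basis relation between idempotent coefficients and central characters. -/
theorem sum_blockCoeff_centralChar {B : Set (IrrCharacter G)} (hB : IsPBlock M B)
    (hd : blockDefect p B = (Nat.card D).factorization p) {ψ : IrrCharacter G}
    (hψ : blockDefect p (blockOf M ψ.1) = (Nat.card D).factorization p) :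
    ∑ i, red M (blockCoeff B (x i)⁻¹) * red M (centralChar ψ.1 (x i)⁻¹) =
      if ψ ∈ B then 1 else 0 := by
  classical
  haveI := Fintype.ofFinite (ConjClasses G)
  have h := BlockLow.omega_blockIdem_congr hpM hB hd hψ
  have hloc : ∀ C : ConjClasses G,
      MemLocalRing M ((blockIdem B).coeff C.out * centralChar ψ.1 C.out) := fun C => by
    rw [coeff_blockIdem]
    exact MemLocalRing.mul (memLocalRing_blockCoeff hB _) (memLocalRing_centralChar ψ _)
  rw [← red_eq_iff (by split_ifs; exacts [memLocalRing_one, memLocalRing_zero])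
    (MemLocalRing.sum _ fun C _ => hloc C), red_sum _ fun C _ => hloc C] at h
  have hx : ∀ i, ¬ p ∣ orderOf (x i)⁻¹ ∧
      SylIn p (Subgroup.centralizer ({(x i)⁻¹} : Set G)) D := fun i => by
    obtain ⟨h1, h2⟩ := (hmem (x i)).2 ⟨i, IsConj.refl _⟩
    have e : Subgroup.centralizer ({(x i)⁻¹} : Set G) = Subgroup.centralizer ({x i} : Set G) := by
      ext a
      simp only [Subgroup.mem_centralizer_singleton_iff]
      exact ⟨fun h => by simpa using (show Commute a (x i)⁻¹ from h).inv_right.eq,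
        fun h => ((show Commute a (x i) from h).inv_right).eq⟩
    rw [orderOf_inv, e]
    exact ⟨h1, h2⟩
  have hterm : ∀ (C : ConjClasses G) (g : G), ConjClasses.mk g = C →
      (blockIdem B).coeff C.out * centralChar ψ.1 C.out = blockCoeff B g * centralChar ψ.1 g := by
    intro C g hg
    have hc : IsConj g C.out :=
      ConjClasses.mk_eq_mk_iff_isConj.1 (hg.trans (Quotient.out_eq C).symm)
    obtain ⟨c, hc'⟩ := isConj_iff.1 hc
    rw [coeff_blockIdem, centralChar_of_isConj ψ hc, ← hc', ← coeff_blockIdem,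
      isCentralElt_blockIdem B g c, coeff_blockIdem]
  have hif : red M (if ψ ∈ B then (1 : ℂ) else 0) = if ψ ∈ B then 1 else 0 := by
    split_ifs
    · exact red_one
    · exact red_zero
  rw [← hif]
  refine Eq.trans ?_ h.symm
  rw [← Finset.sum_subset
    (s₁ := Finset.univ.image fun i => ConjClasses.mk (x i)⁻¹) ?_ ?_, Finset.sum_image ?_]
  · refine Finset.sum_congr rfl fun i _ => ?_
    rw [hterm _ (x i)⁻¹ rfl, red_mul (memLocalRing_blockCoeff hB _) (memLocalRing_centralChar ψ _)]
  · intro i _ j _ hij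
    obtain ⟨c, hc⟩ := isConj_iff.1 (ConjClasses.mk_eq_mk_iff_isConj.1 hij)
    exact hinj i j (isConj_iff.2 ⟨c, inv_injective (by rw [conj_inv, hc])⟩)
  · intro C hC
    obtain ⟨i, -, rfl⟩ := Finset.mem_image.1 hC
    refine Finset.mem_filter.2 ⟨Finset.mem_univ _, _, rfl, (hx i).1, ?_⟩
    rw [(hx i).2.2, hp.out.factorization_pow, Finsupp.single_eq_same]
  · intro C hC hnot
    refine red_eq_zero_of_mem ?_
    obtain ⟨g, rfl, hr, hc⟩ := (Finset.mem_filter.1 hC).2
    rw [hterm _ g rfl]
    refine MemLocalIdeal.mul_right ?_ (memLocalRing_centralChar ψ g)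
    by_contra hI
    have hsyl := sylIn_of_blockCoeff hpM hD hB hd hI hc
    obtain ⟨i, hi⟩ := (hmem g⁻¹).1 ⟨by rwa [orderOf_inv], by
      have e : Subgroup.centralizer ({g⁻¹} : Set G) = Subgroup.centralizer ({g} : Set G) := by
        ext a
        simp only [Subgroup.mem_centralizer_singleton_iff]
        exact ⟨fun h => by simpa using (show Commute a g⁻¹ from h).inv_right.eq,
          fun h => ((show Commute a g from h).inv_right).eq⟩
      rwa [e]⟩
    refine hnot (Finset.mem_image.2 ⟨i, Finset.mem_univ _, ?_⟩)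
    obtain ⟨c, hc'⟩ := isConj_iff.1 hi
    exact ConjClasses.mk_eq_mk_iff_isConj.2 (isConj_iff.2 ⟨c, by rw [← conj_inv, hc', inv_inv]⟩)

omit hinj hmem hD hDn in
/-- The multiplicity of the trivial character of a Sylow subgroup. -/
theorem isIntegral_sylow_avg (S : Sylow p G) [Fintype (S : Subgroup G)] (χ : IrrCharacter G) :
    IsIntegral ℤ ((Nat.card (S : Subgroup G) : ℂ)⁻¹ * ∑ s : (S : Subgroup G), χ.1 (s : G)⁻¹) := by
  have h := isIntegral_avg (Char.irr_isCharacter χ) (g := 1) (S : Subgroup G)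
    (Subgroup.one_mem _)
  simp only [one_mul] at h
  convert h using 2
  exact Fintype.sum_equiv (Equiv.inv _) _ _ fun s => by simp

omit hinj hmem hD hDn in
/-- Summed over a block, the multiplicities give the idempotent coefficient. -/
theorem sum_block_mult (S : Sylow p G) [Fintype (S : Subgroup G)] {B : Set (IrrCharacter G)}
    [DecidablePred (· ∈ B)] (hB : IsPBlock M B) {g : G} (hg : IsPRegular p g) :
    ∑ χ ∈ Finset.univ.filter (· ∈ B),
      ((Nat.card (S : Subgroup G) : ℂ)⁻¹ * ∑ s : (S : Subgroup G), χ.1 (s : G)⁻¹) * χ.1 g =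
      ((Nat.card G : ℂ) / Nat.card (S : Subgroup G)) * blockCoeff B g⁻¹ := by
  rw [blockCoeff_eq_sum, ← mul_assoc, div_mul_eq_mul_div, mul_inv_cancel₀ Char.card_ne_zero,
    one_div, Finset.mul_sum]
  rw [show ∑ χ ∈ Finset.univ.filter (· ∈ B),
      ((Nat.card (S : Subgroup G) : ℂ)⁻¹ * ∑ s : (S : Subgroup G), χ.1 (s : G)⁻¹) * χ.1 g =
    ∑ s : (S : Subgroup G), (Nat.card (S : Subgroup G) : ℂ)⁻¹ *
      ∑ χ ∈ Finset.univ.filter (· ∈ B), χ.1 g * conj (χ.1 (s : G)) by
    simp only [Finset.mul_sum, Finset.sum_mul]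
    rw [Finset.sum_comm]
    refine Finset.sum_congr rfl fun s _ => Finset.sum_congr rfl fun χ _ => ?_
    rw [Char.IsCharacter.conj_apply (Char.irr_isCharacter χ)]
    ring]
  rw [Finset.sum_eq_single (1 : (S : Subgroup G))]
  · rw [Finset.mul_sum]
    refine Finset.sum_congr rfl fun χ _ => ?_
    rw [Subgroup.coe_one, Char.apply_one_eq_degree, map_natCast,
      Char.IsCharacter.conj_apply (Char.irr_isCharacter χ), inv_inv]
    ring
  · intro s _ hs
    rw [weak_orthogonality hpM hB hg, mul_zero]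
    intro hr
    refine hs ?_
    obtain ⟨k, hk⟩ := IsPGroup.iff_orderOf.1 S.isPGroup' s
    rcases Nat.eq_zero_or_pos k with rfl | hk0
    · exact orderOf_eq_one_iff.1 (by simpa using hk)
    · refine absurd ?_ hr
      rw [Subgroup.orderOf_coe, hk]
      exact dvd_pow_self p hk0.ne'
  · exact fun h => absurd (Finset.mem_univ _) h

omit hpM hinj hmem hD hDn in
/-- The pairs of elements of two classes with quotient in a Sylow subgroup, by characters. -/
theorem card_pairs_quotient (S : Sylow p G) [Fintype (S : Subgroup G)] (g h : G) :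
    (Nat.card {yz : G × G // IsConj g yz.1 ∧ IsConj h yz.2 ∧
        yz.2 * yz.1⁻¹ ∈ (S : Subgroup G)} : ℂ) =
      ((Nat.card (S : Subgroup G) : ℂ) / Nat.card (Subgroup.centralizer ({h} : Set G))) *
        ∑ χ : IrrCharacter G, centralChar χ.1 g⁻¹ *
          (((Nat.card (S : Subgroup G) : ℂ)⁻¹ * ∑ s : (S : Subgroup G), χ.1 (s : G)⁻¹) * χ.1 h) := by
  classical
  set Z := Nat.card {yz : G × G // IsConj g yz.1 ∧ IsConj h yz.2 ∧
      yz.2 * yz.1⁻¹ ∈ (S : Subgroup G)}
  set cg := Nat.card (Subgroup.centralizer ({g} : Set G))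
  set ch := Nat.card (Subgroup.centralizer ({h} : Set G))
  have hfib : ∀ {a b : G}, IsConj a b →
      (Finset.univ.filter fun c : G => c * a * c⁻¹ = b).card =
        Nat.card (Subgroup.centralizer ({a} : Set G)) := by
    intro a b hab
    obtain ⟨c, hc⟩ := isConj_iff.1 hab
    rw [Nat.card_eq_fintype_card, Fintype.card_subtype]
    refine Finset.card_equiv (Equiv.mulLeft c⁻¹) fun d => ?_
    simp only [Finset.mem_filter, Finset.mem_univ, true_and, Equiv.coe_mulLeft,
      Subgroup.mem_centralizer_singleton_iff]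
    constructor
    · intro hd
      calc c⁻¹ * d * a = c⁻¹ * (d * a * d⁻¹) * d := by group
        _ = c⁻¹ * (c * a * c⁻¹) * d := by rw [hd, hc]
        _ = _ := by group
    · intro hd
      calc d * a * d⁻¹ = c * (c⁻¹ * d * a) * (c⁻¹ * d)⁻¹ * c⁻¹ := by group
        _ = c * (a * (c⁻¹ * d)) * (c⁻¹ * d)⁻¹ * c⁻¹ := by rw [hd]
        _ = b := by rw [← hc]; group
  have h1 : ∑ s : (S : Subgroup G),
      Nat.card {q : G × G // q.1 * h * q.1⁻¹ * (q.2 * g⁻¹ * q.2⁻¹) = (s : G)} = ch * cg * Z := by
    set A := Finset.univ.filter fun yz : G × G =>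
      IsConj g yz.1 ∧ IsConj h yz.2 ∧ yz.2 * yz.1⁻¹ ∈ (S : Subgroup G)
    set B := Finset.univ.filter fun q : G × G =>
      q.1 * h * q.1⁻¹ * (q.2 * g⁻¹ * q.2⁻¹) ∈ (S : Subgroup G)
    have hZ : Z = A.card := by
      simp only [Z, Nat.card_eq_fintype_card, Fintype.card_subtype]
      rfl
    have hB : B.card = ch * cg * A.card := by
      have hmaps : ∀ q ∈ B, (q.2 * g * q.2⁻¹, q.1 * h * q.1⁻¹) ∈ A := fun q hq =>
        Finset.mem_filter.2 ⟨Finset.mem_univ _, isConj_iff.2 ⟨q.2, rfl⟩, isConj_iff.2 ⟨q.1, rfl⟩,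
          by dsimp only; rw [conj_inv]; exact (Finset.mem_filter.1 hq).2⟩
      rw [Finset.card_eq_sum_card_fiberwise hmaps, Finset.sum_congr rfl fun q hq => ?_,
        Finset.sum_const, smul_eq_mul, mul_comm]
      obtain ⟨hq1, hq2, hq3⟩ := (Finset.mem_filter.1 hq).2
      simp only [ch, cg]
      conv_rhs => arg 1; rw [← hfib hq2]
      conv_rhs => arg 2; rw [← hfib hq1]
      rw [← Finset.card_product]
      congr 1
      ext c
      simp only [B, Finset.mem_filter, Finset.mem_univ, true_and, Finset.mem_product, Prod.ext_iff]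
      refine ⟨fun hh => ⟨hh.2.2, hh.2.1⟩, fun hh => ⟨?_, hh.2, hh.1⟩⟩
      rw [← conj_inv, hh.1, hh.2]
      exact hq3
    rw [hZ, ← hB, Finset.card_eq_sum_card_fiberwise
      (f := fun q : G × G => q.1 * h * q.1⁻¹ * (q.2 * g⁻¹ * q.2⁻¹))
      (t := Finset.univ.image fun s : (S : Subgroup G) => (s : G))
      (fun q hq => Finset.mem_image.2
        ⟨⟨_, (Finset.mem_filter.1 hq).2⟩, Finset.mem_univ _, rfl⟩),
      Finset.sum_image fun a _ b _ => Subtype.ext]
    refine Finset.sum_congr rfl fun s _ => ?_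
    rw [Nat.card_eq_fintype_card, Fintype.card_subtype]
    congr 1
    ext q
    simp only [B, Finset.mem_filter, Finset.mem_univ, true_and]
    exact ⟨fun e => ⟨e ▸ s.2, e⟩, fun e => e.2⟩
  have h2 : ((ch * cg * Z : ℕ) : ℂ) = (Nat.card G : ℂ) *
      ∑ χ : IrrCharacter G, (χ.1 h * χ.1 g⁻¹ * ∑ s : (S : Subgroup G), χ.1 (s : G)⁻¹) / χ.1 1 := by
    rw [← h1]
    push_cast
    simp only [Char.card_conj_mul_conj_eq]
    rw [← Finset.mul_sum, Finset.sum_comm]
    congr 1
    exact Finset.sum_congr rfl fun χ _ => by rw [Finset.mul_sum, Finset.sum_div]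
  have hch : (ch : ℂ) ≠ 0 := Nat.cast_ne_zero.2 Nat.card_pos.ne'
  have hcg : (cg : ℂ) ≠ 0 := Nat.cast_ne_zero.2 Nat.card_pos.ne'
  have hS : (Nat.card (S : Subgroup G) : ℂ) ≠ 0 := Char.card_ne_zero
  have hidx : (cg : ℂ) * ((Subgroup.centralizer ({g⁻¹} : Set G)).index : ℂ) = Nat.card G := by
    have e : Subgroup.centralizer ({g⁻¹} : Set G) = Subgroup.centralizer ({g} : Set G) := by
      ext a
      simp only [Subgroup.mem_centralizer_singleton_iff]
      exact ⟨fun h => by simpa using (show Commute a g⁻¹ from h).inv_right.eq,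
        fun h => ((show Commute a g from h).inv_right).eq⟩
    rw [e, ← Nat.cast_mul, Subgroup.card_mul_index]
  apply mul_left_cancel₀ (mul_ne_zero hch hcg)
  rw [show (ch : ℂ) * cg * (Z : ℂ) = ((ch * cg * Z : ℕ) : ℂ) by push_cast; ring, h2, Finset.mul_sum,
    Finset.mul_sum, Finset.mul_sum]
  refine Finset.sum_congr rfl fun χ _ => ?_
  have := irr_one_ne_zero χ
  rw [centralChar, ← hidx]
  field_simp

/-- The number of blocks with defect group `D` is the rank of the pair matrix. -/
theorem rank_pair_matrix (S : Sylow p G) [Fintype (S : Subgroup G)] :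
    (Matrix.of fun i j : ι => ((Nat.card {yz : G × G // IsConj (x i) yz.1 ∧ IsConj (x j) yz.2 ∧
        yz.2 * yz.1⁻¹ ∈ (S : Subgroup G)} /
      p ^ ((Nat.card G).factorization p - (Nat.card D).factorization p) : ℕ) : ZMod p)).rank =
      Nat.card {B : Set (IrrCharacter G) // IsPBlock M B ∧ IsDefectGroup p M B D} := by
  classical
  haveI := charP_residue hpM
  letI φ := ZMod.castHom (dvd_refl p) (AlgInt ⧸ M)
  set a := (Nat.card G).factorization p
  set d := (Nat.card D).factorization p
  let β := {B : Set (IrrCharacter G) // IsPBlock M B ∧ blockDefect p B = d}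
  haveI : Fintype β := Fintype.ofFinite β
  have hβ : Nat.card {B : Set (IrrCharacter G) // IsPBlock M B ∧ IsDefectGroup p M B D} =
      Fintype.card β := by
    rw [← Nat.card_eq_fintype_card]
    exact Nat.card_congr (Equiv.subtypeEquivRight fun B =>
      ⟨fun h => ⟨h.1, (isDefectGroup_iff_blockDefect_eq hpM hD h.1).1 h.2⟩,
        fun h => ⟨h.1, (isDefectGroup_iff_blockDefect_eq hpM hD h.1).2 h.2⟩⟩)
  have hψ : ∀ B : β, ∃ ψ : IrrCharacter G, ψ ∈ B.1 := fun B => block_nonempty B.2.1
  choose ψ hψ using hψ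
  have hψd : ∀ B : β, blockDefect p (blockOf M (ψ B).1) = d := fun B => by
    rw [← block_eq B.2.1 (hψ B)]; exact B.2.2
  -- the unit factors of the class sizes
  let w : ι → ℂ := fun j => (Nat.card G : ℂ) /
    ((p : ℂ) ^ (a - d) * Nat.card (Subgroup.centralizer ({x j} : Set G)))
  have hfac : ∀ j, (Nat.card (Subgroup.centralizer ({x j} : Set G))).factorization p = d := fun j => by
    have h := ((hmem (x j)).2 ⟨j, IsConj.refl _⟩).2.2
    simp only [d]
    rw [h, hp.out.factorization_pow, Finsupp.single_eq_same]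
  have hw : ∀ j, MemLocalRing M (w j) ∧ ¬ MemLocalIdeal M (w j) := by
    intro j
    have e : w j = ((Nat.card G : ℕ) : ℂ) /
        ((p ^ (a - d) * Nat.card (Subgroup.centralizer ({x j} : Set G)) : ℕ) : ℂ) := by
      simp [w]
    have hda : d ≤ a := hfac j ▸ (Nat.factorization_le_iff_dvd Nat.card_pos.ne' Nat.card_pos.ne').2
      (Subgroup.card_subgroup_dvd_card _) p
    have hv : (p ^ (a - d) * Nat.card (Subgroup.centralizer ({x j} : Set G))).factorization p = a := by
      rw [Nat.factorization_mul (pow_ne_zero _ hp.out.ne_zero) Nat.card_pos.ne', Finsupp.add_apply,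
        hp.out.factorization_pow, Finsupp.single_eq_same, hfac j]
      omega
    have hne : p ^ (a - d) * Nat.card (Subgroup.centralizer ({x j} : Set G)) ≠ 0 :=
      mul_ne_zero (pow_ne_zero _ hp.out.ne_zero) Nat.card_pos.ne'
    rw [e, memLocalRing_natCast_div_iff hpM Nat.card_pos.ne' hne,
      memLocalIdeal_natCast_div_iff hpM Nat.card_pos.ne' hne, hv]
    exact ⟨le_rfl, lt_irrefl _⟩
  let g' : ℂ := (Nat.card G : ℂ) / Nat.card (S : Subgroup G)
  have hg' : MemLocalRing M g' ∧ ¬ MemLocalIdeal M g' := by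
    have hv : (Nat.card (S : Subgroup G)).factorization p = a := by
      rw [Sylow.card_eq_multiplicity, hp.out.factorization_pow, Finsupp.single_eq_same]
    simp only [g']
    rw [memLocalRing_natCast_div_iff hpM Nat.card_pos.ne' Nat.card_pos.ne',
      memLocalIdeal_natCast_div_iff hpM Nat.card_pos.ne' Nat.card_pos.ne', hv]
    exact ⟨le_rfl, lt_irrefl _⟩
  let m : IrrCharacter G → ℂ := fun χ =>
    (Nat.card (S : Subgroup G) : ℂ)⁻¹ * ∑ s : (S : Subgroup G), χ.1 (s : G)⁻¹
  have hm : ∀ χ g, MemLocalRing M (m χ * χ.1 g) := fun χ g =>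
    MemLocalRing.mul (memLocalRing_of_isIntegral (isIntegral_sylow_avg hpM S χ))
      (memLocalRing_of_isIntegral (CharInt.isIntegral_char (Char.irr_isCharacter χ) g))
  let N : ι → ι → ℕ := fun i j => Nat.card {yz : G × G // IsConj (x i) yz.1 ∧ IsConj (x j) yz.2 ∧
    yz.2 * yz.1⁻¹ ∈ (S : Subgroup G)}
  have hN : ∀ i j, (N i j : ℂ) / (p : ℂ) ^ (a - d) =
      w j * g'⁻¹ * ∑ χ : IrrCharacter G, centralChar χ.1 (x i)⁻¹ * (m χ * χ.1 (x j)) := by
    intro i j
    simp only [N]
    rw [card_pairs_quotient (p := p) S (x i) (x j)]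
    simp only [w, g', m]
    have := Char.card_ne_zero (G := G)
    have := Char.card_ne_zero (G := (S : Subgroup G))
    field_simp
  have hsum : ∀ i j, MemLocalRing M
      (∑ χ : IrrCharacter G, centralChar χ.1 (x i)⁻¹ * (m χ * χ.1 (x j))) := fun i j =>
    MemLocalRing.sum _ fun χ _ => MemLocalRing.mul (memLocalRing_centralChar χ _) (hm χ _)
  let L : Matrix ι β (AlgInt ⧸ M) := Matrix.of fun i B => red M (centralChar (ψ B).1 (x i)⁻¹)
  let E : Matrix β ι (AlgInt ⧸ M) := Matrix.of fun B i => red M (blockCoeff B.1 (x i)⁻¹)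
  let R : Matrix β ι (AlgInt ⧸ M) := Matrix.of fun B j =>
    red M (w j) * red M (blockCoeff B.1 (x j)⁻¹)
  let L' : Matrix ι β (AlgInt ⧸ M) := Matrix.of fun i B =>
    (red M (w i))⁻¹ * red M (centralChar (ψ B).1 (x i)⁻¹)
  have hEL : ∀ B B' : β, ∑ i, red M (blockCoeff B.1 (x i)⁻¹) *
      red M (centralChar (ψ B').1 (x i)⁻¹) = if B = B' then 1 else 0 := by
    intro B B'
    rw [sum_blockCoeff_centralChar hpM hD hinj hmem B.2.1 B.2.2 (hψd B')]
    congr 1
    exact propext ⟨fun h => Subtype.ext (block_eq_of_mem B.2.1 B'.2.1 h (hψ B')),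
      fun h => h ▸ hψ B'⟩
  have hA : (Matrix.of fun i j : ι => ((N i j / p ^ (a - d) : ℕ) : ZMod p)).map φ = L * R := by
    ext i j
    have hloc : MemLocalRing M ((N i j : ℂ) / (p : ℂ) ^ (a - d)) := by
      rw [hN]
      exact MemLocalRing.mul (MemLocalRing.mul (hw j).1 (memLocalRing_inv hg'.1 hg'.2)) (hsum i j)
    obtain ⟨c, hc⟩ := pow_dvd_of_memLocalRing_div hpM hloc
    rw [Matrix.map_apply, Matrix.of_apply, map_natCast,
      ← red_natCast (M := M) (N i j / p ^ (a - d)),
      show ((N i j / p ^ (a - d) : ℕ) : ℂ) = (N i j : ℂ) / (p : ℂ) ^ (a - d) by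
        rw [Nat.cast_div ⟨c, hc⟩ (by exact_mod_cast pow_ne_zero _ hp.out.ne_zero), Nat.cast_pow],
      hN, red_mul (MemLocalRing.mul (hw j).1 (memLocalRing_inv hg'.1 hg'.2)) (hsum i j),
      red_mul (hw j).1 (memLocalRing_inv hg'.1 hg'.2),
      red_sum _ fun χ _ => MemLocalRing.mul (memLocalRing_centralChar χ _) (hm χ _),
      Matrix.mul_apply]
    simp only [L, R, Matrix.of_apply]
    have hblk : ∀ B : β, ∑ χ ∈ Finset.univ.filter (· ∈ B.1),
        red M (centralChar χ.1 (x i)⁻¹ * (m χ * χ.1 (x j))) =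
        red M (centralChar (ψ B).1 (x i)⁻¹) * (red M g' * red M (blockCoeff B.1 (x j)⁻¹)) := by
      intro B
      rw [← red_mul hg'.1 (memLocalRing_blockCoeff B.2.1 _),
        ← sum_block_mult hpM S B.2.1 ((hmem (x j)).2 ⟨j, IsConj.refl _⟩).1,
        red_sum _ fun χ _ => hm χ _, Finset.mul_sum]
      refine Finset.sum_congr rfl fun χ hχ => ?_
      rw [red_mul (memLocalRing_centralChar χ _) (hm χ _),
        (red_eq_iff (memLocalRing_centralChar χ _) (memLocalRing_centralChar (ψ B) _)).2
          (sameBlock_of_mem B.2.1 (Finset.mem_filter.1 hχ).2 (hψ B) _)]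
    have hsplit : ∑ χ : IrrCharacter G, red M (centralChar χ.1 (x i)⁻¹ * (m χ * χ.1 (x j))) =
        ∑ B : β, ∑ χ ∈ Finset.univ.filter (· ∈ B.1),
          red M (centralChar χ.1 (x i)⁻¹ * (m χ * χ.1 (x j))) := by
      simp only [Finset.sum_filter]
      rw [Finset.sum_comm]
      refine Finset.sum_congr rfl fun χ _ => ?_
      by_cases hχ : blockDefect p (blockOf M χ.1) = d
      · rw [Finset.sum_eq_single (⟨blockOf M χ.1, isPBlock_blockOf χ, hχ⟩ : β),
          if_pos (mem_blockOf_self χ)]
        · intro B _ hB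
          rw [if_neg fun h => hB (Subtype.ext (block_eq B.2.1 h))]
        · exact fun h => absurd (Finset.mem_univ _) h
      · rw [Finset.sum_eq_zero fun B _ => if_neg fun (h : χ ∈ B.1) =>
          hχ (by rw [← block_eq B.2.1 h]; exact B.2.2)]
        rw [red_mul (memLocalRing_centralChar χ _) (hm χ _), red_eq_zero_of_mem, zero_mul]
        by_contra hI
        refine hχ (le_antisymm ?_ (le_blockDefect hpM hD (isPBlock_blockOf χ)))
        have h := BlockLow.blockDefect_le_of_centralChar hpM (isPBlock_blockOf χ)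
          (mem_blockOf_self χ) hI
        have e : Subgroup.centralizer ({(x i)⁻¹} : Set G) = Subgroup.centralizer ({x i} : Set G) := by
          ext b
          simp only [Subgroup.mem_centralizer_singleton_iff]
          exact ⟨fun h => by simpa using (show Commute b (x i)⁻¹ from h).inv_right.eq,
            fun h => ((show Commute b (x i) from h).inv_right).eq⟩
        rwa [e, hfac i] at h
    rw [hsplit, Finset.sum_congr rfl fun B _ => hblk B, Finset.mul_sum]
    refine Finset.sum_congr rfl fun B _ => ?_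
    rw [red_inv hg'.1 hg'.2]
    have hg0 : red M g' ≠ 0 := fun h => hg'.2 ((red_eq_zero_iff hg'.1).1 h)
    field_simp
  have h1 : E * (L * R) * L' = 1 := by
    have e1 : E * L = 1 := by
      ext B B'
      rw [Matrix.mul_apply, Matrix.one_apply, ← hEL B B']
      rfl
    have e2 : R * L' = 1 := by
      ext B B'
      rw [Matrix.mul_apply, Matrix.one_apply, ← hEL B B']
      refine Finset.sum_congr rfl fun i _ => ?_
      simp only [R, L', Matrix.of_apply]
      have hw0 : red M (w i) ≠ 0 := fun h => (hw i).2 ((red_eq_zero_iff (hw i).1).1 h)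
      field_simp
    rw [← Matrix.mul_assoc E L R, e1, Matrix.one_mul, e2]
  rw [hβ, ← matrix_rank_map φ]
  exact matrix_rank_eq_of_factor L R E L' hA (by rw [hA, h1])

end Cfsg.Agent.Blocks
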