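import Cfsg.Agent.Lib.Blocks.ModReduction
import Cfsg.Agent.Lib.Blocks.LocalRankTwo
import Cfsg.Agent.Lib.BrauerPairs.RankOne
import Cfsg.Agent.Lib.Blocks.PPart
import Mathlib.Algebra.CharP.Lemmas
import Mathlib.Algebra.CharP.Algebra

/-!
# Blocks with exactly two irreducible characters: the block algebra

* `exists_degree_sum_sq`: if `B` has exactly two characters and rank one, then the sum of the squares
  of their degrees is twice a square.
-/

namespace Cfsg.Agent.Blocks.TwoChars

open scoped ComplexConjugate
open Cfsg Matrix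

set_option linter.style.haveILetI false

universe u

variable {G : Type u} [Group G] [Fintype G] {M : Ideal AlgInt} [M.IsMaximal]

/-- A representative of a class. -/
noncomputable def rep (K : ConjClasses G) : G := Function.surjInv ConjClasses.mk_surjective K

theorem mk_rep (K : ConjClasses G) : ConjClasses.mk (rep K) = K :=
  Function.surjInv_eq ConjClasses.mk_surjective K

open Classical in
/-- Projection of class functions onto the block, in the coordinates of classes. -/
noncomputable def classMat {B : Set (IrrCharacter G)} (hB : IsPBlock M B) :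
    Matrix (ConjClasses G) (ConjClasses G) (localInt M) :=
  fun K L => ⟨∑ h : G, if IsConj (rep L) h then blockCoeff B (h * (rep K)⁻¹) else 0,
    MemLocalRing.sum _ fun h _ => by
      split_ifs
      · exact memLocalRing_blockCoeff hB _
      · exact memLocalRing_zero⟩

/-- Right multiplication by the block idempotent, in the coordinates of elements. -/
noncomputable def elemMat {B : Set (IrrCharacter G)} (hB : IsPBlock M B) :
    Matrix G G (localInt M) :=
  fun x y => ⟨blockCoeff B (y⁻¹ * x), memLocalRing_blockCoeff hB _⟩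

variable {B : Set (IrrCharacter G)}

open Classical in
/-- The values of the block at class representatives. -/
noncomputable def valMat (B : Set (IrrCharacter G)) : Matrix (ConjClasses G) B ℂ :=
  fun K χ => χ.1.1 (rep K)

open Classical in
/-- The dual coordinates. -/
noncomputable def coordMat (B : Set (IrrCharacter G)) : Matrix B (ConjClasses G) ℂ :=
  fun χ L => (Nat.card G : ℂ)⁻¹ * ((Subgroup.centralizer ({rep L} : Set G)).index : ℂ) *
    conj (χ.1.1 (rep L))

open Classical in
theorem sum_class_eq {R : Type*} [AddCommMonoid R] (f : G → R) (K : ConjClasses G)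
    (hf : ∀ h, IsConj (rep K) h → f h = f (rep K)) :
    ∑ h ∈ Finset.univ.filter (fun h => ConjClasses.mk h = K), f h =
      (Subgroup.centralizer ({rep K} : Set G)).index • f (rep K) := by
  rw [Finset.sum_congr rfl (g := fun _ => f (rep K)) fun h hh => hf h
    (ConjClasses.mk_eq_mk_iff_isConj.1 ((mk_rep K).trans (Finset.mem_filter.1 hh).2.symm)),
    Finset.sum_const, ← card_isConj_eq_index, Nat.card_eq_fintype_card, Fintype.card_subtype]
  congr 2
  ext h
  simp only [Finset.mem_filter, Finset.mem_univ, true_and]
  rw [← ConjClasses.mk_eq_mk_iff_isConj, mk_rep, eq_comm]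

open Classical in
theorem coordMat_mul_valMat : coordMat B * valMat B = 1 := by
  ext χ ψ
  rw [Matrix.mul_apply, Matrix.one_apply]
  have h := Char.classInner_irr ψ.1 χ.1
  rw [classInner, ← Finset.sum_fiberwise Finset.univ ConjClasses.mk] at h
  have hs : ∀ K : ConjClasses G,
      ∑ g ∈ Finset.univ.filter (fun g => ConjClasses.mk g = K), ψ.1.1 g * conj (χ.1.1 g) =
        (Subgroup.centralizer ({rep K} : Set G)).index • (ψ.1.1 (rep K) * conj (χ.1.1 (rep K))) :=
    fun K => sum_class_eq (fun g => ψ.1.1 g * conj (χ.1.1 g)) K fun g hg => by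
      rw [← Char.IsClassFunction.apply_of_isConj (irr_classFun ψ.1) hg,
        ← Char.IsClassFunction.apply_of_isConj (irr_classFun χ.1) hg]
  simp only [hs, nsmul_eq_mul, Finset.mul_sum] at h
  refine Eq.trans (Finset.sum_congr rfl fun K _ => ?_) (h.trans ?_)
  · simp only [coordMat, valMat]; ring
  · simp only [Subtype.coe_inj, eq_comm (a := χ)]

open Classical in
theorem classMat_map_val (hpM : ∃ p : ℕ, p.Prime ∧ (p : AlgInt) ∈ M) (hB : IsPBlock M B) :
    (classMat hB).map (localInt M).subtype = valMat B * coordMat B := by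
  obtain ⟨p, hp, hpM⟩ := hpM
  haveI := Fact.mk hp
  ext K L
  rw [Matrix.map_apply, Matrix.mul_apply]
  show (∑ h : G, if IsConj (rep L) h then blockCoeff B (h * (rep K)⁻¹) else 0) = _
  rw [sum_class_blockCoeff hpM B (rep K) (rep L), Finset.mul_sum,
    Finset.sum_subtype (p := (· ∈ B)) _ (by simp)]
  refine Finset.sum_congr rfl fun χ _ => ?_
  simp only [coordMat, valMat]
  ring

open Classical in
theorem elemMat_idem (hB : IsPBlock M B) : IsIdempotentElem (elemMat hB) := by
  ext x y
  rw [Matrix.mul_apply, AddSubmonoidClass.coe_finsetSum]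
  show ∑ z : G, blockCoeff B (z⁻¹ * x) * blockCoeff B (y⁻¹ * z) = blockCoeff B (y⁻¹ * x)
  conv_rhs => rw [← coeff_blockIdem, ← blockIdem_mul_self, coeff_mul_eq_sum]
  simp only [coeff_blockIdem]
  refine Fintype.sum_equiv (Equiv.mulLeft y⁻¹) _ _ fun z => ?_
  simp only [Equiv.coe_mulLeft, _root_.mul_inv_rev, inv_inv, mul_assoc, mul_inv_cancel_left]
  exact mul_comm _ _

section Generic

variable {k : Type*} [Field k]

/-- The functional attached to a function on classes. -/
noncomputable def classFunctional (f : ConjClasses G → k) :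
    MonoidAlgebra k G →ₗ[k] k where
  toFun z := ∑ g, z.coeff g * f (ConjClasses.mk g)
  map_add' z w := by simp [add_mul, Finset.sum_add_distrib]
  map_smul' c z := by simp [Finset.mul_sum, mul_assoc]

open Classical in
theorem classFunctional_single (f : ConjClasses G → k) (g : G) (r : k) :
    classFunctional f (MonoidAlgebra.single g r) = r * f (ConjClasses.mk g) := by
  simp [classFunctional, Finsupp.single_apply]

theorem map_single (τ : MonoidAlgebra k G →ₗ[k] k) (g : G) (r : k) :
    τ (MonoidAlgebra.single g r) = r * τ (MonoidAlgebra.single g 1) := by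
  rw [← smul_eq_mul, ← map_smul, MonoidAlgebra.smul_single, smul_eq_mul, mul_one]

theorem lin_ext {τ τ' : MonoidAlgebra k G →ₗ[k] k}
    (h : ∀ g, τ (MonoidAlgebra.single g 1) = τ' (MonoidAlgebra.single g 1)) : τ = τ' := by
  refine LinearMap.ext fun z => ?_
  rw [eq_sum_single z, map_sum, map_sum]
  exact Finset.sum_congr rfl fun g _ => by rw [map_single, h, ← map_single]

theorem tr_classFunctional (f : ConjClasses G → k) (x y : MonoidAlgebra k G) :
    classFunctional f (x * y) = classFunctional f (y * x) := by
  rw [eq_sum_single x, eq_sum_single y]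
  simp only [Finset.sum_mul, Finset.mul_sum, map_sum, MonoidAlgebra.single_mul_single,
    classFunctional_single]
  rw [Finset.sum_comm]
  refine Finset.sum_congr rfl fun g _ => Finset.sum_congr rfl fun h _ => ?_
  rw [ConjClasses.mk_eq_mk_iff_isConj.2 (isConj_iff.2 ⟨g, by group⟩ : IsConj (h * g) (g * h))]
  ring

theorem tr_single_conj {τ : MonoidAlgebra k G →ₗ[k] k} (hτ : ∀ x y, τ (x * y) = τ (y * x))
    {g h : G} (hgh : IsConj g h) :
    τ (MonoidAlgebra.single h 1) = τ (MonoidAlgebra.single g 1) := by
  obtain ⟨c, rfl⟩ := isConj_iff.1 hgh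
  rw [show (MonoidAlgebra.single (c * g * c⁻¹) 1 : MonoidAlgebra k G) =
    MonoidAlgebra.single (c * g) 1 * MonoidAlgebra.single c⁻¹ 1 by simp, hτ]
  simp

theorem moduleFinite : Module.Finite k (MonoidAlgebra k G) :=
  Module.Finite.of_surjective (∑ x : G, (LinearMap.proj (R := k) (φ := fun _ : G => k) x).smulRight
    (MonoidAlgebra.single x (1 : k))) fun z => ⟨fun x => z.coeff x, by
      conv_rhs => rw [eq_sum_single z]
      simp [MonoidAlgebra.smul_single]⟩

/-- Coordinates. -/
noncomputable def coordEquiv : MonoidAlgebra k G ≃ₗ[k] (G → k) where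
  toFun z g := z.coeff g
  map_add' z w := funext fun g => by simp
  map_smul' c z := funext fun g => by simp
  invFun f := ofFun f
  left_inv z := alg_ext fun g => by simp
  right_inv f := funext fun g => by simp

end Generic

open Classical in
theorem apply_idem_mul_single (hB : IsPBlock M B)
    (τ : MonoidAlgebra (AlgInt ⧸ M) G →ₗ[AlgInt ⧸ M] AlgInt ⧸ M)
    (hτ : ∀ x y, τ (x * y) = τ (y * x)) (K : ConjClasses G) :
    τ (redA M (blockIdem B) * MonoidAlgebra.single (rep K) 1) =
      ((classMat hB).map (redHom M) *ᵥ fun L => τ (MonoidAlgebra.single (rep L) 1)) K := by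
  have hcl : ∀ g h : G, IsConj g h →
      τ (MonoidAlgebra.single h 1) = τ (MonoidAlgebra.single g 1) := fun g h => tr_single_conj hτ
  conv_lhs => rw [eq_sum_single (redA M (blockIdem B) * MonoidAlgebra.single (rep K) 1), map_sum]
  have hterm : ∀ h : G, τ (MonoidAlgebra.single h
      ((redA M (blockIdem B) * MonoidAlgebra.single (rep K) (1 : AlgInt ⧸ M)).coeff h)) =
      red M (blockCoeff B (h * (rep K)⁻¹)) * τ (MonoidAlgebra.single h 1) := fun h => by
    rw [map_single, coeff_mul_single', mul_one, coeff_redA, coeff_blockIdem]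
  simp only [hterm, Matrix.mulVec, dotProduct, Matrix.map_apply, redHom_apply]
  rw [← Finset.sum_fiberwise Finset.univ ConjClasses.mk]
  refine Finset.sum_congr rfl fun L _ => ?_
  show _ = red M (∑ h : G, if IsConj (rep L) h then blockCoeff B (h * (rep K)⁻¹) else 0) * _
  rw [red_sum _ fun h _ => by
      split_ifs
      · exact memLocalRing_blockCoeff hB _
      · exact memLocalRing_zero, Finset.sum_mul, Finset.sum_filter]
  refine Finset.sum_congr rfl fun h _ => ?_
  by_cases hh : ConjClasses.mk h = L
  · have hc : IsConj (rep L) h := ConjClasses.mk_eq_mk_iff_isConj.1 ((mk_rep L).trans hh.symm)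
    rw [if_pos hh, if_pos hc, hcl _ _ hc]
  · rw [if_neg hh, if_neg (fun hc => hh
      ((ConjClasses.mk_eq_mk_iff_isConj.2 hc).symm.trans (mk_rep L))), red_zero, zero_mul]

open Classical in
/-- A block with two characters and proportional restrictions to the regular elements: the sum of
the squares of the degrees is twice a square. -/
theorem exists_degree_sum_sq {p : ℕ} [Fact p.Prime] (hpM : (p : AlgInt) ∈ M) (hB : IsPBlock M B)
    (hk : Nat.card B = 2) (hl : blockRank p B = 1) :
    ∃ n : ℕ, ∑ χ : B, (Char.degree χ.1) ^ 2 = 2 * n ^ 2 := by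
  haveI := isAlgClosed_residue (M := M)
  haveI := charP_residue (p := p) hpM
  have hp : p.Prime := Fact.out
  have hpM' : ∃ p : ℕ, p.Prime ∧ (p : AlgInt) ∈ M := ⟨p, hp, hpM⟩
  set k := AlgInt ⧸ M
  set R := MonoidAlgebra k G
  haveI : FiniteDimensional k R := moduleFinite
  set e0 : R := redA M (blockIdem B) with he0
  have he : IsIdempotentElem e0 := by
    rw [IsIdempotentElem, he0, ← redA_mul (scoeff_blockIdem hB) (scoeff_blockIdem hB),
      blockIdem_mul_self]
  have hcent : ∀ x, Commute e0 x :=
    IsCentralElt.commute (isCentralElt_redA (isCentralElt_blockIdem B))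
  have hne : e0 ≠ 0 := fun h => by
    obtain ⟨g, hg⟩ := exists_defectClass (M := M) hB
    exact hg.2.1 (((redA_eq_zero_iff (scoeff_blockIdem hB)).1 h g) |> fun h' => by
      simpa [coeff_blockIdem] using h')
  -- ranks
  set E := classMat hB
  have hEC : IsIdempotentElem ((classMat hB).map (localInt M).subtype) := by
    rw [classMat_map_val hpM' hB, IsIdempotentElem, Matrix.mul_assoc, ← Matrix.mul_assoc (coordMat B),
      coordMat_mul_valMat, Matrix.one_mul]
  have hE : IsIdempotentElem E := by
    ext K L : 1
    apply Subtype.val_injective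
    have := congrFun (congrFun hEC.eq K) L
    rw [← Matrix.map_mul] at this
    simpa using this
  have hrankE : (E.map (redHom M)).rank = 2 := by
    rw [rank_map_redHom_of_isIdempotentElem hE]
    have h := rank_eq_trace hEC
    rw [classMat_map_val hpM' hB, Matrix.trace_mul_comm, coordMat_mul_valMat, Matrix.trace_one,
      ← Nat.card_eq_fintype_card, hk] at h
    rw [classMat_map_val hpM' hB]
    exact_mod_cast h
  set P := elemMat hB
  have hrankP : ((P.map (redHom M)).rank : ℂ) = ∑ χ : B, ((Char.degree χ.1 : ℕ) : ℂ) ^ 2 := by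
    rw [rank_map_redHom_of_isIdempotentElem (elemMat_idem hB),
      rank_eq_trace (E := P.map (localInt M).subtype)
        ((elemMat_idem hB).map (localInt M).subtype.mapMatrix), Matrix.trace]
    show ∑ x : G, blockCoeff B (x⁻¹ * x) = _
    simp only [inv_mul_cancel, Finset.sum_const, Finset.card_univ, nsmul_eq_mul,
      ← Nat.card_eq_fintype_card, blockCoeff_eq_sum]
    rw [← mul_assoc, mul_inv_cancel₀ (Nat.cast_ne_zero.2 Nat.card_pos.ne'), one_mul,
      Finset.sum_subtype (p := (· ∈ B)) _ (by simp)]
    refine Finset.sum_congr rfl fun χ _ => ?_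
    rw [Char.apply_one_eq_degree, map_natCast, sq]
  -- trace functionals
  let F : Submodule k (R →ₗ[k] k) :=
    { carrier := {τ | (∀ x y, τ (x * y) = τ (y * x)) ∧ ∀ x, τ (x * e0) = τ x}
      zero_mem' := ⟨fun _ _ => rfl, fun _ => rfl⟩
      add_mem' := fun {a b} ha hb => ⟨fun x y => by simp [ha.1 x y, hb.1 x y], fun x => by
        simp [ha.2 x, hb.2 x]⟩
      smul_mem' := fun c a ha => ⟨fun x y => by simp [ha.1 x y], fun x => by simp [ha.2 x]⟩ }
  let res : (R →ₗ[k] k) →ₗ[k] (ConjClasses G → k) :=
    LinearMap.pi fun K => LinearMap.applyₗ (MonoidAlgebra.single (rep K) 1)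
  have hresF : ∀ τ ∈ F, (E.map (redHom M)) *ᵥ res τ = res τ := fun τ hτ => funext fun K => by
    refine (apply_idem_mul_single hB τ hτ.1 K).symm.trans ?_
    rw [(hcent _).eq, hτ.2]
    rfl
  have hclassF : ∀ τ ∈ F, ∀ g, τ (MonoidAlgebra.single g 1) = res τ (ConjClasses.mk g) :=
    fun τ hτ g => tr_single_conj hτ.1 (ConjClasses.mk_eq_mk_iff_isConj.1 (mk_rep (ConjClasses.mk g)))
  have hresinj : Function.Injective (res.domRestrict F) := fun a b h => Subtype.ext <| lin_ext
    fun g => by rw [hclassF _ a.2, hclassF _ b.2]; exact congrFun h _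
  have hF2 : Module.finrank k F = 2 := by
    rw [← LinearMap.finrank_range_of_inj hresinj, ← hrankE, Matrix.rank]
    refine congrArg (fun S : Submodule k (ConjClasses G → k) => Module.finrank k S)
      (le_antisymm ?_ ?_)
    · rintro _ ⟨τ, rfl⟩
      exact ⟨_, hresF τ.1 τ.2⟩
    rintro _ ⟨f₀, rfl⟩
    set f := (E.map (redHom M)) *ᵥ f₀
    have hf : (E.map (redHom M)) *ᵥ f = f := by
      rw [Matrix.mulVec_mulVec, ← Matrix.map_mul, hE.eq]
    have htr := tr_classFunctional f
    have hres : res (classFunctional f) = f := funext fun K => by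
      show classFunctional f (MonoidAlgebra.single (rep K) 1) = _
      rw [classFunctional_single, one_mul, mk_rep]
    refine ⟨⟨classFunctional f, htr, fun x => ?_⟩, hres⟩
    have : (classFunctional f).comp (LinearMap.mulRight k e0) = classFunctional f := by
      refine lin_ext fun g => ?_
      show classFunctional f (MonoidAlgebra.single g 1 * e0) = _
      obtain ⟨c, hc⟩ := isConj_iff.1
        (ConjClasses.mk_eq_mk_iff_isConj.1 (mk_rep (ConjClasses.mk g)))
      rw [classFunctional_single, one_mul, ← (hcent _).eq,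
        show classFunctional f (e0 * MonoidAlgebra.single g 1) =
          classFunctional f (e0 * MonoidAlgebra.single (rep (ConjClasses.mk g)) 1) by
          have h1 : (MonoidAlgebra.single c 1 : R) * (e0 * MonoidAlgebra.single
              (rep (ConjClasses.mk g)) 1) * MonoidAlgebra.single c⁻¹ 1 =
              e0 * MonoidAlgebra.single g 1 := by
            rw [← mul_assoc, ← (hcent _).eq, mul_assoc, mul_assoc]
            simp [R, ← mul_assoc, hc]
          rw [← h1, htr, ← mul_assoc]
          simp [R, ← MonoidAlgebra.one_def],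
        apply_idem_mul_single hB _ htr]
      exact (congrFun ((congrArg ((E.map (redHom M)) *ᵥ ·) hres).trans hf) _)
    exact LinearMap.congr_fun this x
  -- functionals depending on regular parts
  let V : Submodule k (R →ₗ[k] k) :=
    { carrier := {τ | τ ∈ F ∧ ∀ s u : G, Commute s u → IsPRegular p s → (∃ j, orderOf u = p ^ j) →
        τ (MonoidAlgebra.single (s * u) 1) = τ (MonoidAlgebra.single s 1)}
      zero_mem' := ⟨F.zero_mem, fun _ _ _ _ _ => rfl⟩
      add_mem' := fun {a b} ha hb => ⟨F.add_mem ha.1 hb.1, fun s u h1 h2 h3 => by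
        simp [ha.2 s u h1 h2 h3, hb.2 s u h1 h2 h3]⟩
      smul_mem' := fun c a ha => ⟨F.smul_mem c ha.1, fun s u h1 h2 h3 => by
        simp [ha.2 s u h1 h2 h3]⟩ }
  let RC := {K : ConjClasses G // IsPRegular p (rep K)}
  have hV : Module.finrank k V ≤ 1 := by
    let resR : V →ₗ[k] (RC → k) :=
      (LinearMap.funLeft k k (Subtype.val : RC → ConjClasses G)).comp (res.comp V.subtype)
    have hinj : Function.Injective resR := by
      rw [injective_iff_map_eq_zero]
      intro τ h
      refine Subtype.ext (lin_ext fun g => ?_)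
      show τ.1 (MonoidAlgebra.single g 1) = 0
      obtain ⟨x, s, hxs, hcomm, ⟨j, hj⟩, hs⟩ := exists_isPPart (p := p) g
      have hsR : IsPRegular p s := hs
      rw [← hxs, hcomm.eq, τ.2.2 s x hcomm.symm hsR ⟨j, hj⟩, hclassF _ τ.2.1]
      have hK : IsPRegular p (rep (ConjClasses.mk s)) := by
        obtain ⟨c, hc⟩ := isConj_iff.1
          (ConjClasses.mk_eq_mk_iff_isConj.1 (mk_rep (ConjClasses.mk s)))
        intro hd
        apply hsR
        rwa [← hc, ← MulAut.conj_apply, MulEquiv.orderOf_eq]
      exact congrFun h ⟨_, hK⟩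
    set N : Matrix RC (ConjClasses G) (localInt M) := E.submatrix Subtype.val id
    have hN : (N.map (localInt M).subtype).rank ≤ 1 := by
      obtain ⟨χ₀, hχ₀⟩ := block_nonempty hB
      have hsplit : N.map (localInt M).subtype =
          Matrix.vecMulVec (fun K : RC => χ₀.1 (rep K.1))
            (fun L => ∑ χ : B, χ.1.1 1 / χ₀.1 1 * coordMat B χ L) := by
        ext K L
        have h := congrFun (congrFun (classMat_map_val hpM' hB) K.1) L
        rw [Matrix.map_apply] at h
        rw [Matrix.map_apply]
        refine Eq.trans h ?_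
        rw [Matrix.mul_apply, Matrix.vecMulVec_apply, Finset.mul_sum]
        refine Finset.sum_congr rfl fun χ _ => ?_
        have hr := congrFun (BrauerPairs.regFun_eq_smul_of_rank_one hp hl hχ₀ χ.2) (rep K.1)
        rw [Pi.smul_apply, Char.regFun, Char.regFun, if_neg K.2, if_neg K.2, smul_eq_mul] at hr
        rw [valMat, hr]
        ring
      rw [hsplit]
      exact Matrix.rank_vecMulVec_le _ _
    refine ((LinearMap.finrank_range_of_inj hinj).symm.le.trans (Submodule.finrank_mono ?_)).trans
      ((rank_map_redHom_le N).trans hN)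
    rintro _ ⟨τ, rfl⟩
    refine ⟨res τ.1, funext fun K => ?_⟩
    exact congrFun (hresF τ.1 τ.2.1) K.1
  have hVtr : ∀ (n : ℕ) (π : R →ₐ[k] Matrix (Fin n) (Fin n) k),
      π e0 = 1 → LocalRankTwo.trFun π ∈ V := by
    intro n π hπ
    refine ⟨⟨fun x y => ?_, fun x => ?_⟩, fun s u hsu hs hu => ?_⟩
    · show Matrix.trace (π (x * y)) = Matrix.trace (π (y * x))
      rw [map_mul, map_mul, Matrix.trace_mul_comm]
    · show Matrix.trace (π (x * e0)) = Matrix.trace (π x)
      rw [map_mul, hπ, mul_one]
    · show Matrix.trace (π (MonoidAlgebra.single (s * u) 1)) =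
        Matrix.trace (π (MonoidAlgebra.single s 1))
      rcases Nat.eq_zero_or_pos n with rfl | hn
      · simp [Matrix.trace]
      haveI : Nonempty (Fin n) := ⟨⟨0, hn⟩⟩
      haveI : CharP (Matrix (Fin n) (Fin n) k) p :=
        charP_of_injective_algebraMap (R := k) (fun a b h => by
          simpa [Matrix.algebraMap_matrix_apply] using congrFun (congrFun h ⟨0, hn⟩) ⟨0, hn⟩) p
      set S := π (MonoidAlgebra.single s 1)
      set U := π (MonoidAlgebra.single u 1)
      obtain ⟨j, hj⟩ := hu
      have hSU : Commute S U := by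
        refine Commute.map ?_ π
        show _ * _ = _ * _
        simp [R, hsu.eq]
      have hUn : IsNilpotent (U - 1) := ⟨p ^ j, by
        rw [sub_pow_char_pow_of_commute _ _ (Commute.one_right U), one_pow, ← map_pow,
          MonoidAlgebra.single_pow, one_pow, ← hj, pow_orderOf_eq_one, ← MonoidAlgebra.one_def,
          map_one, sub_self]⟩
      rw [show π (MonoidAlgebra.single (s * u) 1) = S + S * (U - 1) by
        rw [mul_sub, mul_one, add_sub_cancel, ← map_mul]; simp [R], Matrix.trace_add,
        (Matrix.isNilpotent_trace_of_isNilpotent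
          ((hSU.sub_right (Commute.one_right S)).isNilpotent_mul_left hUn)).eq_zero, add_zero]
  haveI : FiniteDimensional k V := inferInstance
  obtain ⟨n, hn⟩ := LocalRankTwo.sdim_eq_two_mul_sq he hne hcent F V (fun τ => Iff.rfl) hF2 hV hVtr
  refine ⟨n, ?_⟩
  rw [← hn]
  set φ : R ≃ₗ[k] (G → k) := coordEquiv
  have hmap : (LinearMap.range (LinearMap.mulRight k e0)).map φ.toLinearMap =
      LinearMap.range (P.map (redHom M)).mulVecLin := by
    rw [← LinearMap.range_comp]
    have : φ.toLinearMap ∘ₗ LinearMap.mulRight k e0 = (P.map (redHom M)).mulVecLin ∘ₗ φ.toLinearMap := by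
      refine LinearMap.ext fun z => funext fun g => ?_
      show (z * e0).coeff g = _
      rw [coeff_mul_eq_sum]
      simp only [LinearMap.comp_apply, Matrix.mulVecLin_apply, Matrix.mulVec, dotProduct,
        Matrix.map_apply, redHom_apply, he0, coeff_redA, coeff_blockIdem]
      refine Finset.sum_congr rfl fun y _ => ?_
      rw [mul_comm]
      rfl
    rw [this, LinearMap.range_comp, LinearEquiv.range, Submodule.map_top]
  have hfin : Module.finrank k (LinearMap.range (LinearMap.mulRight k e0)) = (P.map (redHom M)).rank := by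
    rw [Matrix.rank, ← hmap]
    exact (LinearEquiv.finrank_map_eq φ _).symm
  rw [hfin]
  exact_mod_cast hrankP.symm

end Cfsg.Agent.Blocks.TwoChars
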