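import Cfsg.Agent.S4606
import Cfsg.Agent.S4607
import Cfsg.Agent.S4648
import Cfsg.Agent.Lib.Blocks.ThreeChars.NormalPart
import Cfsg.Agent.Lib.Char.FrobeniusSchur
import Cfsg.Agent.Lib.Char.RealChar
import Cfsg.Agent.Lib.Char.RationalBound

/-!
# A principal block with `k - l = 1`

Every character of the block takes one nonzero integer value `v χ` on the singular elements, and
`Σ v² = |G|_p`, `Σ v χ(s) = 0` on the regular elements; for odd `p` the indicators give `Σ ν v = 1`.
-/

set_option autoImplicit false
set_option linter.unusedSectionVars false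
set_option linter.style.haveILetI false

namespace Cfsg.Agent.Blocks.OneClass

open Cfsg
open scoped ComplexConjugate Classical

universe u

variable {G : Type u} [Group G] [Fintype G] {p : ℕ} [hp : Fact p.Prime] {M : Ideal AlgInt}
  [M.IsMaximal]

theorem isPPart_self {y : G} (hy : ∃ k, orderOf y = p ^ k) : IsPPart p y y :=
  ⟨1, mul_one _, Commute.one_right _, hy, by simp [hp.out.ne_one]⟩

theorem isPPart_regular {s : G} (hs : IsPRegular p s) : IsPPart p s 1 :=
  ⟨s, one_mul _, Commute.one_left _, ⟨0, by simp⟩, hs⟩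

theorem orderOf_prime_pow {x : G} (hx : orderOf x = p) : ∃ k, orderOf x = p ^ k :=
  ⟨1, by rw [pow_one, hx]⟩

theorem ne_one_of_order {x : G} (hx : orderOf x = p) : x ≠ 1 := fun h => by
  rw [h, orderOf_one] at hx
  exact hp.out.ne_one hx.symm

/-- The rank of the principal block is below its size when `p` divides `|G|`. -/
theorem rank_lt (hM : IsPModular p M) (hG : p ∣ Nat.card G) :
    blockRank p (principalBlock M G) < Nat.card (principalBlock M G) := by
  have hpM := hM.2.2
  have hB := isPBlock_principalBlock hpM (M := M) (G := G)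
  obtain ⟨x, hx⟩ := exists_prime_orderOf_dvd_card' p hG
  set S := Finset.univ.filter fun g : G => ¬ IsPRegular p g
  have hxS : x ∈ S := Finset.mem_filter.2 ⟨Finset.mem_univ _, fun h => h (by rw [hx])⟩
  have h1 : 0 < ∑ g ∈ S, S4606.normAt (principalBlock M G) g := by
    refine Finset.sum_pos' (fun g _ => S4606.normAt_nonneg _ _) ⟨x, hxS, ?_⟩
    refine Finset.sum_pos' (fun _ _ => Complex.normSq_nonneg _) ⟨Char.trivialChar G,
      Finset.mem_filter.2 ⟨Finset.mem_univ _, trivial_mem_principalBlock⟩, ?_⟩
    rw [Char.trivialChar_apply, map_one]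
    exact one_pos
  by_contra hle
  have h2 : ((Nat.card G : ℝ) * ((Nat.card (principalBlock M G) : ℝ) -
      blockRank p (principalBlock M G)) : ℝ) = ∑ g ∈ S, S4606.normAt (principalBlock M G) g := by
    refine Complex.ofReal_injective ?_
    simp only [Complex.ofReal_sum, S4606.normAt_coe]
    rw [← BrauerPairs.card_sub_blockRank_union hpM (U := principalBlock M G)
      (fun η hη ψ hψ => by rw [block_eq hB hη]; exact hψ)]
    push_cast
    rfl
  have h3 : (Nat.card (principalBlock M G) : ℝ) ≤ blockRank p (principalBlock M G) := by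
    exact_mod_cast not_lt.1 hle
  have h4 := mul_nonpos_of_nonneg_of_nonpos (Nat.cast_nonneg (α := ℝ) (Nat.card G))
    (sub_nonpos.2 h3)
  linarith

/-- The principal block of a group of order prime to `p` has one member. -/
theorem card_eq_one_of_not_dvd (hM : IsPModular p M) (hG : ¬ p ∣ Nat.card G) :
    Nat.card (principalBlock M G) = 1 := by
  rw [show principalBlock M G = blockOf M (Char.trivialChar G).1 from rfl,
    (blockOf_eq_singleton_iff hM.2.2 (Char.trivialChar G)).2 (by
      rw [Nat.factorization_eq_zero_of_not_dvd hG, Nat.factorization_eq_zero_of_not_dvd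
        fun h => hG (h.trans (Char.degree_dvd_natCard _))])]
  simp

theorem blockDefect_principal :
    blockDefect p (principalBlock M G) = (Nat.card G).factorization p := by
  have h1 : sInf ((fun χ : IrrCharacter G => (charDegree χ.1).factorization p) ''
      principalBlock M G) = 0 :=
    Nat.le_zero.1 (Nat.sInf_le ⟨Char.trivialChar G, trivial_mem_principalBlock,
      by simp [charDegree]⟩)
  rw [blockDefect, h1, Nat.sub_zero]

theorem fs_trivial : Char.fsIndicator (Char.trivialChar G).1 = 1 := by
  rw [Char.fsIndicator_eq_sum]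
  simp [Char.trivialChar_apply]

theorem conjIrr_trivial : Char.conjIrr (Char.trivialChar G) = Char.trivialChar G :=
  Subtype.ext (funext fun g => by simp [Char.trivialChar_apply])

variable (hM : IsPModular p M)
  (hk : Nat.card (principalBlock M G) = blockRank p (principalBlock M G) + 1)
include hM hk

theorem dvd_card : p ∣ Nat.card G := by
  by_contra h
  have h1 := card_eq_one_of_not_dvd (M := M) hM h
  have h2 := ThreeChars.one_le_blockRank (p := p) (isPBlock_principalBlock hM.2.2 (M := M) (G := G))
  omega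

theorem conj_of_pElement {x y : G} (hx : ∃ k, orderOf x = p ^ k) (hx1 : x ≠ 1)
    (hy : ∃ k, orderOf y = p ^ k) (hy1 : y ≠ 1) : IsConj x y :=
  (S4606.one_class hM.2.2 (isPBlock_principalBlock hM.2.2) hk trivial_mem_principalBlock
    (by simp [charDegree, hp.out.ne_one]) hx hx1).1 y hy1 hy

/-- Each member of the block is constant on the singular elements. -/
theorem apply_singular {x : G} (hx : orderOf x = p) {χ : IrrCharacter G}
    (hχ : χ ∈ principalBlock M G) {g : G} (hg : ¬ IsPRegular p g) : χ.1 g = χ.1 x := by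
  obtain ⟨y, hy⟩ := exists_isPPart (p := p) g
  obtain ⟨k, hk'⟩ := IsPPart.isPElement hy
  have hy1 : y ≠ 1 := by
    intro h
    obtain ⟨s, hsg, -, -, hs⟩ := hy
    rw [h, one_mul] at hsg
    exact hg (hsg ▸ hs)
  obtain ⟨s, hsg, hs⟩ := exists_regular_factor hy
  have hnil := S4606.hasNormalPComplement_centralizer hM hk ⟨k, hk'⟩ hy1
  have h1 : χ.1 g = χ.1 y := by
    rw [← hsg]
    exact principal_apply_mul_core hM.2.2 ⟨k, hk'⟩ (Subgroup.mem_map_of_mem _
      ((DefectOne.index_pPrimeCore_of_hasNormalPComplement hnil).2 s hs)) hχ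
  obtain ⟨c, hc⟩ := isConj_iff.1
    (conj_of_pElement hM hk ⟨k, hk'⟩ hy1 (orderOf_prime_pow hx) (ne_one_of_order hx))
  rw [h1, ← hc, irr_classFun χ y c]

/-- The singular value is an integer. -/
theorem exists_int {x : G} (hx : orderOf x = p) {χ : IrrCharacter G}
    (hχ : χ ∈ principalBlock M G) : ∃ z : ℤ, χ.1 x = z :=
  Char.exists_int_of_forall_pow (Char.irr_isCharacter χ) x fun j hj => by
    refine apply_singular hM hk hx hχ fun h => h ?_
    rw [Nat.Coprime.orderOf_pow hj.symm, hx]

/-- The singular value of `χ`. -/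
noncomputable def v {x : G} (hx : orderOf x = p) (χ : IrrCharacter G) : ℤ :=
  if h : χ ∈ principalBlock M G then (exists_int hM hk hx h).choose else 0

theorem apply_eq_v {x : G} (hx : orderOf x = p) {χ : IrrCharacter G}
    (hχ : χ ∈ principalBlock M G) {g : G} (hg : ¬ IsPRegular p g) :
    χ.1 g = (v hM hk hx χ : ℂ) := by
  rw [apply_singular hM hk hx hχ hg, v, dif_pos hχ]
  exact (exists_int hM hk hx hχ).choose_spec

theorem not_isPRegular_self {x : G} (hx : orderOf x = p) : ¬ IsPRegular p x :=
  fun h => h (by rw [hx])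

theorem v_trivial {x : G} (hx : orderOf x = p) : v hM hk hx (Char.trivialChar G) = 1 := by
  have := apply_eq_v hM hk hx trivial_mem_principalBlock (not_isPRegular_self hM hk hx)
  rw [Char.trivialChar_apply] at this
  exact_mod_cast this.symm

/-- The singular values are orthogonal to the values on the regular elements. -/
theorem sum_v_mul_apply {x : G} (hx : orderOf x = p) {s : G} (hs : IsPRegular p s) :
    ∑ χ ∈ Finset.univ.filter (· ∈ principalBlock M G), (v hM hk hx χ : ℂ) * χ.1 s = 0 := by
  have hne : ¬ IsConj x 1 := fun h => ne_one_of_order hx (isConj_one_left.1 h)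
  have hs' : IsPRegular p s⁻¹ := by rwa [IsPRegular, orderOf_inv]
  rw [← block_orthogonality hM.2.2 (isPPart_self (orderOf_prime_pow hx)) (isPPart_regular hs') hne
    (isPBlock_principalBlock hM.2.2 (G := G))]
  refine Finset.sum_congr rfl fun χ hχ => ?_
  rw [← apply_eq_v hM hk hx (Finset.mem_filter.1 hχ).2 (not_isPRegular_self hM hk hx),
    ← CharInt.char_inv (Char.irr_isCharacter χ), inv_inv]

theorem sum_v_mul_degree {x : G} (hx : orderOf x = p) :
    ∑ χ ∈ Finset.univ.filter (· ∈ principalBlock M G),
      v hM hk hx χ * (Char.degree χ : ℤ) = 0 := by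
  have h := sum_v_mul_apply hM hk hx (s := 1) (by simp [IsPRegular, hp.out.ne_one])
  simp only [Char.apply_one_eq_degree] at h
  exact_mod_cast h

/-- The squares of the singular values sum to the order of a Sylow subgroup. -/
theorem sum_v_sq {x : G} (hx : orderOf x = p) :
    ∑ χ ∈ Finset.univ.filter (· ∈ principalBlock M G), v hM hk hx χ ^ 2 =
      (p ^ (Nat.card G).factorization p : ℕ) := by
  have hpM := hM.2.2
  obtain ⟨P, hP⟩ := IsPGroup.exists_le_sylow (p := p) (P := Subgroup.zpowers x)
    (IsPGroup.of_card (n := 1) (by rw [Nat.card_zpowers, hx, pow_one]))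
  have hxP : x ∈ (P : Subgroup G) := hP (Subgroup.mem_zpowers x)
  set C := Subgroup.centralizer ({x} : Set G) with hC
  have hPC : (P : Subgroup G) ≤ C := fun y hy => Subgroup.mem_centralizer_singleton_iff.2
    ((S4606.abelian_principal hM hk P).2 y hy x hxP)
  haveI := Fintype.ofFinite C
  have hx' := orderOf_prime_pow hx
  have h1 : IsPRegular p (1 : C) := by simp [IsPRegular, hp.out.ne_one]
  have h := second_main_orth hpM hx' (isPBlock_principalBlock hpM (G := G)) h1 h1
  simp only [OneMemClass.coe_one, mul_one] at h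
  rw [inducingSet_principalBlock hpM hx'] at h
  obtain ⟨hidx, -⟩ := DefectOne.index_pPrimeCore_of_hasNormalPComplement
    (S4606.hasNormalPComplement_centralizer hM hk hx' (ne_one_of_order hx))
  have h2 : (p : ℕ) ^ (Nat.card C).factorization p = p ^ (Nat.card G).factorization p := by
    rw [← P.card_eq_multiplicity, ← (P.subtype hPC).card_eq_multiplicity]
    exact Nat.card_congr (Subgroup.subgroupOfEquivOfLe hPC).toEquiv
  rw [Finset.sum_congr (s₂ := Finset.univ.filter
      fun η : IrrCharacter C => Char.TrivOn (pPrimeCore p C) η.1) (Finset.filter_congr fun η _ => by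
      rw [principalBlock_eq_of_index hpM ⟨_, hidx⟩]; rfl) fun η _ =>
      show η.1 1 * conj (η.1 1) = ((charDegree η.1 ^ 2 : ℕ) : ℂ) by
        rw [← Char.charDegree_cast, map_natCast]; push_cast; ring,
    ← Nat.cast_sum, Char.sum_trivOn_degree_sq, hidx, h2] at h
  have h3 : ((∑ χ ∈ Finset.univ.filter (· ∈ principalBlock M G), v hM hk hx χ ^ 2 : ℤ) : ℂ) =
      (((p ^ (Nat.card G).factorization p : ℕ) : ℤ) : ℂ) := by
    rw [Int.cast_natCast, ← h, Int.cast_sum]
    refine Finset.sum_congr rfl fun χ hχ => ?_
    rw [apply_eq_v hM hk hx (Finset.mem_filter.1 hχ).2 (not_isPRegular_self hM hk hx), map_intCast,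
      Int.cast_pow, pow_two]
  exact_mod_cast h3

/-- No member vanishes on the singular elements. -/
theorem v_ne_zero {x : G} (hx : orderOf x = p) {χ : IrrCharacter G}
    (hχ : χ ∈ principalBlock M G) : v hM hk hx χ ≠ 0 := by
  intro h0
  have hd : blockDefect p (principalBlock M G) ≠ 0 := by
    intro h
    rw [blockDefect_principal] at h
    exact absurd (hp.out.factorization_pos_of_dvd Nat.card_pos.ne' (dvd_card hM hk)) (by omega)
  refine S4607.regDot_ne_zero hM.2.2 (isPBlock_principalBlock hM.2.2) hd hχ (funext fun g => ?_)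
  rw [Char.regFun]
  split_ifs with hg
  · rw [apply_eq_v hM hk hx hχ (fun h => h hg), h0, Int.cast_zero]
  · rfl

/-- For odd `p` the indicators weight the singular values to one. -/
theorem sum_fs_mul_v (hp2 : p ≠ 2) {x : G} (hx : orderOf x = p) :
    ∑ χ ∈ Finset.univ.filter (· ∈ principalBlock M G),
      Char.fsIndicator χ.1 * (v hM hk hx χ : ℂ) = 1 := by
  set B := principalBlock M G
  set S := Finset.univ.filter fun g : G => ¬ IsPRegular p g
  set Bf := Finset.univ.filter (· ∈ B)
  set q : ℤ := ∑ χ ∈ Bf, v hM hk hx χ ^ 2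
  have hS : (Nat.card G : ℂ) = (S.card : ℂ) * (q : ℂ) := by
    have h := BrauerPairs.card_sub_blockRank_union hM.2.2 (U := B)
      (fun η hη ψ hψ => by
        show ψ ∈ principalBlock M G
        rw [block_eq (isPBlock_principalBlock hM.2.2) hη]; exact hψ)
    rw [hk] at h
    push_cast at h
    rw [add_sub_cancel_left, mul_one] at h
    rw [h, Finset.sum_congr rfl (g := fun _ => (q : ℂ)) fun g hg => ?_, Finset.sum_const,
      nsmul_eq_mul]
    simp only [q, Int.cast_sum, Int.cast_pow]
    refine Finset.sum_congr rfl fun χ hχ => ?_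
    rw [apply_eq_v hM hk hx (Finset.mem_filter.1 hχ).2 (Finset.mem_filter.1 hg).2, map_intCast,
      pow_two]
  have hord : ∀ g : G, IsPRegular p (g * g) ↔ IsPRegular p g := by
    intro g
    refine not_congr ⟨fun h => h.trans (by rw [← pow_two]; exact orderOf_pow_dvd 2), fun h => ?_⟩
    rcases Nat.even_or_odd (orderOf g) with he | ho
    · obtain ⟨r, hr⟩ := he.two_dvd
      rw [← pow_two, orderOf_pow, hr, Nat.gcd_mul_right_left, Nat.mul_div_cancel_left _ two_pos]
      rw [hr] at h
      exact (hp.out.dvd_mul.1 h).resolve_left fun h2 =>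
        hp2 ((Nat.prime_dvd_prime_iff_eq hp.out Nat.prime_two).1 h2)
    · rw [← pow_two, Nat.Coprime.orderOf_pow (Nat.coprime_two_right.2 ho)]
      exact h
  have h1 : ∀ g : G, ∑ χ ∈ Bf, (v hM hk hx χ : ℂ) * χ.1 (g * g) =
      if IsPRegular p g then 0 else (q : ℂ) := by
    intro g
    split_ifs with hg
    · exact sum_v_mul_apply hM hk hx ((hord g).2 hg)
    · simp only [q, Int.cast_sum, Int.cast_pow]
      refine Finset.sum_congr rfl fun χ hχ => ?_
      rw [apply_eq_v hM hk hx (Finset.mem_filter.1 hχ).2 (fun h => hg ((hord g).1 h)), pow_two]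
  have h2 : ∑ g : G, (if IsPRegular p g then 0 else (q : ℂ)) = (Nat.card G : ℂ) := by
    rw [hS, Finset.sum_ite, Finset.sum_const_zero, zero_add, Finset.sum_const, nsmul_eq_mul]
  calc ∑ χ ∈ Bf, Char.fsIndicator χ.1 * (v hM hk hx χ : ℂ)
      = (Nat.card G : ℂ)⁻¹ * ∑ g : G, ∑ χ ∈ Bf, (v hM hk hx χ : ℂ) * χ.1 (g * g) := by
        rw [Finset.sum_comm, Finset.mul_sum]
        refine Finset.sum_congr rfl fun χ _ => ?_
        rw [Char.fsIndicator_eq_sum, ← Finset.mul_sum]
        ring
    _ = 1 := by
        rw [Finset.sum_congr rfl fun g _ => h1 g, h2,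
          inv_mul_cancel₀ (Nat.cast_ne_zero.2 Nat.card_pos.ne')]

/-- The complex conjugate stays in the block and has the same singular value. -/
theorem conjIrr_mem {x : G} (hx : orderOf x = p) {χ : IrrCharacter G}
    (hχ : χ ∈ principalBlock M G) :
    Char.conjIrr χ ∈ principalBlock M G ∧ v hM hk hx (Char.conjIrr χ) = v hM hk hx χ := by
  have hcent : ∀ g : G, (Subgroup.centralizer ({g⁻¹} : Set G)).index =
      (Subgroup.centralizer ({g} : Set G)).index := fun g => by
    congr 1
    ext h
    simp only [Subgroup.mem_centralizer_singleton_iff]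
    exact Commute.inv_right_iff
  have hmem : Char.conjIrr χ ∈ principalBlock M G := by
    intro g
    have h := hχ g⁻¹
    simp only [centralChar, hcent] at h
    simp only [centralChar, Char.conjIrr_apply,
      ← CharInt.char_inv (Char.irr_isCharacter χ), inv_one]
    exact h
  refine ⟨hmem, ?_⟩
  have h1 := apply_eq_v hM hk hx hmem (not_isPRegular_self hM hk hx)
  rw [Char.conjIrr_apply, apply_eq_v hM hk hx hχ (not_isPRegular_self hM hk hx), map_intCast] at h1
  exact_mod_cast h1.symm

theorem fs_of_real {χ : IrrCharacter G} (h : Char.conjIrr χ = χ) :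
    Char.fsIndicator χ.1 = 1 ∨ Char.fsIndicator χ.1 = -1 := by
  refine Char.fsIndicator_eq_one_or_neg_one (Char.irr_isCharacter χ) ?_
  have h1 : ∀ g, conj (χ.1 g) = χ.1 g := fun g => congrFun (congrArg Subtype.val h) g
  have h2 := Char.classInner_irr_self χ.2
  rw [classInner] at h2
  simpa only [h1] using h2

end Cfsg.Agent.Blocks.OneClass
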