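import Cfsg.Agent.Lib.Blocks.Defect
import Cfsg.Agent.Lib.CharInt.Burnside
import Cfsg.Agent.Lib.CharInt.Kazarin
import Cfsg.Agent.Lib.Char.Linear
import Cfsg.Agent.Lib.Char.Descend
import Mathlib.GroupTheory.PGroup

/-!
# Prime power degrees in the principal block of a simple group
-/

namespace Cfsg.Agent.Blocks

open scoped ComplexConjugate

set_option linter.style.haveILetI false
set_option linter.unusedSectionVars false

universe u

variable {G : Type u} [Group G] [Finite G] {M : Ideal AlgInt} [M.IsMaximal]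
  {p : ℕ} [hp : Fact p.Prime]

theorem center_eq_bot [IsSimpleGroup G] (hna : ∃ a b : G, a * b ≠ b * a) :
    Subgroup.center G = ⊥ := by
  refine (inferInstance : (Subgroup.center G).Normal).eq_bot_or_eq_top.resolve_right fun h => ?_
  obtain ⟨a, b, hab⟩ := hna
  exact hab (Subgroup.mem_center_iff.1 (h ▸ Subgroup.mem_top b) a)

theorem eq_trivial_of_degree_one [IsSimpleGroup G] (hna : ∃ a b : G, a * b ≠ b * a)
    (χ : IrrCharacter G) (h1 : χ.1 1 = 1) : χ = Char.trivialChar G := by
  obtain ⟨lam, hlam⟩ := Char.IsCharacter.exists_monoidHom (Char.irr_isCharacter χ) h1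
  rcases (MonoidHom.normal_ker lam).eq_bot_or_eq_top with h | h
  · obtain ⟨a, b, hab⟩ := hna
    exact absurd ((MonoidHom.ker_eq_bot_iff lam).1 h (by rw [map_mul, map_mul, mul_comm])) hab
  · exact Subtype.ext (funext fun g => by
      rw [← hlam]; exact MonoidHom.mem_ker.1 (h ▸ Subgroup.mem_top g))

theorem exists_central_sylow (hd : p ∣ Nat.card G) :
    ∃ g : G, g ≠ 1 ∧ ¬ p ∣ (Subgroup.centralizer ({g} : Set G)).index := by
  let P : Sylow p G := default
  haveI : Nontrivial (P : Subgroup G) :=
    (Subgroup.nontrivial_iff_ne_bot _).2 (P.ne_bot_of_dvd_card hd)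
  haveI := P.isPGroup'.center_nontrivial
  obtain ⟨z, hz⟩ := exists_ne (1 : Subgroup.center (P : Subgroup G))
  refine ⟨((z : (P : Subgroup G)) : G), fun h => hz (Subtype.ext (Subtype.ext h)), fun hdiv => ?_⟩
  refine P.not_dvd_index (hdiv.trans (Subgroup.index_dvd_of_le fun w hw => ?_))
  exact Subgroup.mem_centralizer_singleton_iff.2
    (congrArg Subtype.val (Subgroup.mem_center_iff.1 z.2 ⟨w, hw⟩))

theorem eq_trivial_of_prime_pow_degree [IsSimpleGroup G] (hna : ∃ a b : G, a * b ≠ b * a)
    (hpM : (p : AlgInt) ∈ M) {χ : IrrCharacter G} (hχ : χ ∈ principalBlock M G) {k : ℕ}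
    (hdeg : Char.degree χ = p ^ k) : χ = Char.trivialChar G := by
  haveI := Fintype.ofFinite G
  rcases Nat.eq_zero_or_pos k with rfl | hk
  · exact eq_trivial_of_degree_one hna χ (by rw [Char.apply_one_eq_degree, hdeg]; simp)
  by_contra hne
  have hd : p ∣ Nat.card G := by
    refine (dvd_pow_self p hk.ne').trans ?_
    rw [← hdeg, ← Char.charDegree_eq_degree]
    exact Char.charDegree_dvd_card χ
  obtain ⟨g, hg1, hgp⟩ := exists_central_sylow hd
  have h0 : χ.1 g = 0 := by
    obtain ⟨n, ρ, hρ, hρχ⟩ := χ.2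
    have hn : Char.degree χ = n := by
      have := Char.apply_one_eq_degree χ
      rw [← hρχ, ρ.char_one, Module.finrank_fin_fun] at this
      exact_mod_cast this.symm
    haveI := hρ
    rcases CharInt.character_eq_zero_or_norm_eq ρ g (by
      rw [CharInt.natCard_isConj, Module.finrank_fin_fun, ← hn, hdeg]
      exact Nat.Coprime.pow_left k (hp.out.coprime_iff_not_dvd.2 hgp)) with h | h
    · rw [← hρχ]; exact h
    · have hgc : g ∈ Subgroup.center G :=
        CharInt.mem_center_of_norm_eq χ.2 (fun he => hne (Subtype.ext he)) (by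
          rw [← hρχ, h, ρ.char_one, Complex.norm_natCast])
      rw [center_eq_bot hna, Subgroup.mem_bot] at hgc
      exact absurd hgc hg1
  have hs : SameBlock M (fun _ : G => (1 : ℂ)) χ.1 := hχ
  have h1 := hs g
  rw [centralChar, centralChar, h0, mul_zero, zero_div, sub_zero, mul_one, div_one,
    memLocalIdeal_natCast_iff hpM] at h1
  exact hgp h1

/-- A character of defect zero vanishes on singular elements. -/
theorem apply_eq_zero_of_defect_zero (hpM : (p : AlgInt) ∈ M) (χ : IrrCharacter G)
    (h : (Char.degree χ).factorization p = (Nat.card G).factorization p) {g : G}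
    (hg : ¬ IsPRegular p g) : χ.1 g = 0 := by
  classical
  have := blockCoeff_eq_zero hpM (isPBlock_blockOf χ) hg
  rw [blockCoeff_eq_sum, (blockOf_eq_singleton_iff hpM χ).2 h] at this
  simpa [Finset.filter_eq', irr_one_ne_zero χ, Nat.card_pos.ne'] using this

/-- In a simple group of order `p^a q^b r`, no element of order `p r`. -/
theorem isPRegular_centralizer {q r a b : ℕ} [IsSimpleGroup G] (hna : ∃ a b : G, a * b ≠ b * a)
    (hq : q.Prime) [hr : Fact r.Prime] (hpr : p ≠ r) (hqr : q ≠ r)
    (hcard : Nat.card G = p ^ a * q ^ b * r) {x s : G} (hc : Commute x s) (hx : orderOf x = p)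
    (hs : orderOf s = r) : False := by
  classical
  haveI := Fintype.ofFinite G
  obtain ⟨Mp, hMp⟩ := CharInt.exists_isPModular_of_prime (q := p) hp.out
  obtain ⟨Mr, hMr⟩ := CharInt.exists_isPModular_of_prime (q := r) hr.out
  obtain ⟨Mq, hMq⟩ := CharInt.exists_isPModular_of_prime (q := q) hq
  haveI := hMp.2.1
  haveI := hMr.2.1
  haveI := hMq.2.1
  haveI := Fact.mk hq
  have hord : orderOf (x * s) = p * r := by
    rw [hc.orderOf_mul_eq_mul_orderOf_of_coprime, hx, hs]
    rw [hx, hs]; exact (Nat.coprime_primes hp.out hr.out).2 hpr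
  have hsp : ¬ IsPRegular p (x * s) := fun h => h (hord ▸ dvd_mul_right p r)
  have hsr : ¬ IsPRegular r (x * s) := fun h => h (hord ▸ dvd_mul_left r p)
  have h0 := blockCoeff_eq_zero hMp.2.2 (isPBlock_principalBlock (M := Mp) (G := G) hMp.2.2) hsp
  rw [blockCoeff_eq_sum, mul_eq_zero, or_iff_right (by simp [Nat.card_pos.ne']),
    ← Finset.add_sum_erase _ _ (show Char.trivialChar G ∈
        Finset.univ.filter (fun χ : IrrCharacter G => χ ∈ principalBlock Mp G) from
      Finset.mem_filter.2 ⟨Finset.mem_univ _, sameBlock_refl (fun _ : G => (1 : ℂ))⟩)] at h0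
  refine not_memLocalIdeal_one (M := Mq) ?_
  rw [Char.trivialChar_apply, Char.trivialChar_apply, map_one, mul_one] at h0
  rw [show (1 : ℂ) = -∑ χ ∈ (Finset.univ.filter fun χ : IrrCharacter G =>
      χ ∈ principalBlock Mp G).erase (Char.trivialChar G), χ.1 1 * conj (χ.1 (x * s)) from
    eq_neg_of_add_eq_zero_left h0]
  refine MemLocalIdeal.neg (MemLocalIdeal.sum _ fun χ hχ => ?_)
  obtain ⟨hne, hχB⟩ := Finset.mem_erase.1 hχ
  by_cases hd : q ∣ Char.degree χ
  · rw [Char.apply_one_eq_degree]
    exact MemLocalIdeal.mul_right ((memLocalIdeal_natCast_iff hMq.2.2 _).2 hd)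
      (memLocalRing_of_isIntegral (IsIntegral.map (starRingEnd ℂ).toIntAlgHom
        (CharInt.isIntegral_char (Char.irr_isCharacter χ) _)))
  · have hdvd : Char.degree χ ∣ p ^ a * r := by
      have h1 : Char.degree χ ∣ p ^ a * r * q ^ b := by
        rw [show p ^ a * r * q ^ b = Nat.card G by rw [hcard]; ring, ← Char.charDegree_eq_degree]
        exact Char.charDegree_dvd_card χ
      exact (Nat.Coprime.pow_right b ((hq.coprime_iff_not_dvd.2 hd).symm)).dvd_of_dvd_mul_right h1
    have hrd : r ∣ Char.degree χ := by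
      by_contra hrd
      obtain ⟨i, -, hi⟩ := (Nat.dvd_prime_pow hp.out).1
        ((((hr.out.coprime_iff_not_dvd).2 hrd).symm).dvd_of_dvd_mul_right hdvd)
      exact hne (eq_trivial_of_prime_pow_degree hna hMp.2.2 (Finset.mem_filter.1 hχB).2 hi)
    have hfac : (Char.degree χ).factorization r = (Nat.card G).factorization r := by
      refine le_antisymm ((Nat.factorization_le_iff_dvd (Char.degree_pos χ).ne'
        Nat.card_pos.ne').2 (by rw [← Char.charDegree_eq_degree]; exact Char.charDegree_dvd_card χ) r) ?_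
      have h1 := hr.out.factorization_pos_of_dvd (Char.degree_pos χ).ne' hrd
      rw [hcard, Nat.factorization_mul (Nat.mul_ne_zero (pow_ne_zero _ hp.out.ne_zero)
          (pow_ne_zero _ hq.ne_zero)) hr.out.ne_zero,
        Nat.factorization_mul (pow_ne_zero _ hp.out.ne_zero) (pow_ne_zero _ hq.ne_zero),
        hp.out.factorization_pow, hq.factorization_pow, hr.out.factorization]
      simp [hpr, hqr]
      omega
    rw [apply_eq_zero_of_defect_zero hMr.2.2 χ hfac hsr, map_zero, mul_zero]
    exact memLocalIdeal_zero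

end Cfsg.Agent.Blocks
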