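import Cfsg.Agent.Lib.Blocks.CountBound.Main
import Cfsg.Agent.Lib.Blocks.ThirdMain

/-!
# Bounds for a set of characters seen by a subsection

A subsection `(x, b)` with `b` the only block of `C(x)` inducing `B` sees every member of `B` which
does not vanish at `x`, whatever the defect of `b`. So the number of such members is at most
`p^d(b) l(b)`, and at most `|Z| |D̄|` over a cyclic quotient. For the principal block this bounds the
number of characters of `p'`-degree by `p^2` when `|C(x)|_p ≤ p^2`.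
-/

set_option autoImplicit false
set_option linter.unusedSectionVars false
set_option linter.style.haveILetI false

namespace Cfsg.Agent.Blocks.SeenSubsection

open Cfsg Blocks CountBound
open Cfsg.Agent.BrauerPairs (regDot regDot_comm)
open Cfsg.Agent.HeightBound (ctr scal sfun sdot)
open scoped Classical ComplexConjugate Cfsg.Agent.Blocks

universe u

variable {G : Type u} [Group G] [Fintype G] {M : Ideal AlgInt} [M.IsMaximal] {p : ℕ}
  [hp : Fact p.Prime] {x : G}

/-- If `b` is all of the inducing set, `χ x` only sees the members of `b`. -/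
theorem apply_eq_sum (hpM : (p : AlgInt) ∈ M) {k : ℕ} (hx : orderOf x = p ^ k)
    {B : Set (IrrCharacter G)} (hB : IsPBlock M B)
    {b : Set (IrrCharacter (Subgroup.centralizer ({x} : Set G)))}
    (hind : inducingSet M (Subgroup.centralizer ({x} : Set G)) B = b)
    {χ : IrrCharacter G} (hχ : χ ∈ B) :
    χ.1 x = ∑ η ∈ Finset.univ.filter (· ∈ b), classInner (secFun x χ.1) η.1 * η.1 1 := by
  have hg : IsPPart p ((secElt x : Subgroup.centralizer ({x} : Set G)) : G) x :=
    ⟨1, mul_one _, Commute.one_right _, ⟨k, hx⟩, by simp [hp.out.ne_one]⟩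
  have e := chiL_inducingSet hpM ⟨k, hx⟩ hB χ hg
  rw [if_pos hχ, hind, chiL_inclA_mul_single] at e
  show χ.1 ((secElt x : Subgroup.centralizer ({x} : Set G)) : G) = _
  rw [← e]
  simp only [coeff_blockIdem, blockCoeff_eq_sum, classInner, secFun, Finset.mul_sum, Finset.sum_mul]
  rw [Finset.sum_comm]
  refine Finset.sum_congr rfl fun η _ => Finset.sum_congr rfl fun c _ => ?_
  rw [show x * (c : G) = (c : G) * ((secElt x : Subgroup.centralizer ({x} : Set G)) : G) from
    (Subgroup.mem_centralizer_singleton_iff.1 c.2).symm]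
  ring

/-- A member of `B` not vanishing at `x` has a nonzero contribution at `(x, b)`. -/
theorem ctr_self_ne_zero (hpM : (p : AlgInt) ∈ M) {k : ℕ} (hx : orderOf x = p ^ k)
    {B : Set (IrrCharacter G)} {b : Set (IrrCharacter (Subgroup.centralizer ({x} : Set G)))}
    (hb : IsInducedBlock M (Subgroup.centralizer ({x} : Set G)) b B)
    (hind : inducingSet M (Subgroup.centralizer ({x} : Set G)) B = b)
    {χ : IrrCharacter G} (hχ : χ ∈ B) (hne : χ.1 x ≠ 0) :
    ctr p (Subgroup.centralizer ({x} : Set G)) b x χ.1 χ.1 ≠ 0 := by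
  intro h0
  rw [HeightBound.ctr_eq_contribution] at h0
  set S := Finset.univ.filter (fun ψ : IrrCharacter G => ψ ∈ B)
  set T := Finset.univ.filter
    (fun η : IrrCharacter (Subgroup.centralizer ({x} : Set G)) => η ∈ b) with hT
  have h1 := Blocks.sum_contribution_mul_conj hpM hx hb χ
  rw [h0] at h1
  have h2 : ∀ ψ ∈ S, Blocks.contribution p b χ.1 ψ.1 = 0 := by
    intro ψ hψ
    have h3 : ∀ ψ ∈ S, ‖Blocks.contribution p b χ.1 ψ.1‖ ^ 2 = 0 := by
      refine (Finset.sum_eq_zero_iff_of_nonneg fun ψ _ => by positivity).1 ?_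
      refine Complex.ofReal_injective ?_
      push_cast
      rw [Finset.sum_congr rfl fun ψ _ =>
        (Complex.mul_conj' (Blocks.contribution p b χ.1 ψ.1)).symm, h1]
    simpa using h3 ψ hψ
  have h4 : ∀ ν ∈ b, regDot p (secFun x χ.1) ν.1 = 0 := by
    intro ν hν
    rw [Blocks.regDot_secFun hpM hb.1 χ hν]
    calc ∑ η ∈ T, classInner (secFun x χ.1) η.1 * regDot p η.1 ν.1
        = ∑ ψ ∈ S, regDot p (secFun x ψ.1) ν.1 * Blocks.contribution p b χ.1 ψ.1 := by
          simp only [Blocks.contribution, Finset.mul_sum]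
          rw [Finset.sum_comm]
          refine Finset.sum_congr rfl fun η hη => ?_
          rw [regDot_comm hp.out, ← Blocks.sum_regDot_secFun hpM hx hb hν (Finset.mem_filter.1 hη).2,
            Finset.mul_sum]
          exact Finset.sum_congr rfl fun ψ _ => by ring
      _ = 0 := Finset.sum_eq_zero fun ψ hψ => by rw [h2 ψ hψ, mul_zero]
  have h5 : ∀ η ∈ b, η.1 1 = ∑ ν ∈ T, regDot p η.1 ν.1 * ν.1 1 := by
    intro η hη
    have := congrFun (Char.eq_sum_classInner_smul
      (Char.isClassFunction_regFun p (irr_classFun η))) 1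
    rw [Finset.sum_apply, Char.regFun, if_neg (by simp [hp.out.ne_one])] at this
    rw [this, hT, Finset.sum_filter]
    refine Finset.sum_congr rfl fun ν _ => ?_
    split_ifs with hν
    · rfl
    · show regDot p η.1 ν.1 * ν.1 1 = 0
      rw [BrauerPairs.regDot_eq_zero hpM hp.out hb.1 hη hν, zero_mul]
  refine hne ?_
  rw [apply_eq_sum hpM hx hb.2.1 hind hχ]
  calc ∑ η ∈ T, classInner (secFun x χ.1) η.1 * η.1 1
      = ∑ ν ∈ T, regDot p (secFun x χ.1) ν.1 * ν.1 1 := by
        rw [Finset.sum_congr rfl fun η hη => by rw [h5 η (Finset.mem_filter.1 hη).2]]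
        simp only [Finset.mul_sum]
        rw [Finset.sum_comm]
        refine Finset.sum_congr rfl fun ν hν => ?_
        rw [Blocks.regDot_secFun hpM hb.1 χ (Finset.mem_filter.1 hν).2, Finset.sum_mul]
        exact Finset.sum_congr rfl fun η _ => by ring
    _ = 0 := Finset.sum_eq_zero fun ν hν => by rw [h4 ν (Finset.mem_filter.1 hν).2, zero_mul]

section General

variable {B : Set (IrrCharacter G)} {C : Subgroup G} {b : Set (IrrCharacter C)} (hyC : x ∈ C)
  (hC : ∀ t : ℕ, t.Coprime (Nat.card G) → C = Subgroup.centralizer ({x ^ t} : Set G))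
  {k : ℕ} (hpM : (p : AlgInt) ∈ M) (hx : orderOf x = p ^ k) (hb : IsInducedBlock M C b B)
  {T : Set (IrrCharacter G)} (hTB : T ⊆ B)
include hyC hC hpM hx hb hTB

/-- `|T| ≤ p^d(b) l(b)` for the members with a nonzero contribution. -/
theorem card_subset_le_pow_mul_rank (hne : ∀ χ ∈ T, ctr p C b x χ.1 χ.1 ≠ 0) :
    Nat.card T ≤ p ^ blockDefect p b * blockRank p b := by
  haveI : NeZero (Nat.card G) := ⟨Nat.card_pos.ne'⟩
  obtain ⟨m, e, hm, he, hmain⟩ := exists_twists_div.{u} (Nat.card G)
  set S := Finset.univ.filter (fun χ : IrrCharacter G => χ ∈ B)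
  choose c μ hμ hval using fun χ : IrrCharacter G => exists_pair_combination hyC hC hpM hb.1 χ χ
  have hval1 : ∀ χ : IrrCharacter G,
      ((p ^ blockDefect p b : ℕ) : ℂ) * ctr p C b x χ.1 χ.1 = ∑ i, (c χ i : ℂ) * μ χ i := fun χ => by
    have := hval χ 1 (Nat.coprime_one_left _)
    simpa using this
  have hfix : ∀ j, ∑ χ ∈ S, ‖∑ i, (c χ i : ℂ) * μ χ i ^ e j‖ =
      (p : ℝ) ^ blockDefect p b * blockRank p b := by
    intro j
    obtain ⟨hs1, hs2, hs3⟩ := ctr_sums (hC (e j) (he j)) hpM (orderOf_pow_coprime hyC hC hpM hx hb (he j)) hb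
    have hre : ∀ χ : IrrCharacter G, ctr p C b (x ^ e j) χ.1 χ.1 =
        ((∑ ψ ∈ S, ‖ctr p C b (x ^ e j) χ.1 ψ.1‖ ^ 2 : ℝ) : ℂ) := fun χ => by
      rw [← hs2 χ]
      push_cast
      exact Finset.sum_congr rfl fun ψ _ => Complex.mul_conj' _
    refine Complex.ofReal_injective ?_
    push_cast
    rw [← hs1, Finset.mul_sum]
    refine Finset.sum_congr rfl fun χ _ => ?_
    rw [← hval χ _ (he j), norm_mul, Complex.norm_natCast, hre χ, Complex.norm_real, Real.norm_eq_abs,
      abs_of_nonneg (Finset.sum_nonneg fun ψ _ => sq_nonneg _)]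
    push_cast
    ring
  set S' := Finset.univ.filter (fun χ : IrrCharacter G => χ ∈ T)
  have hlow : ∀ χ ∈ S', (m : ℝ) ≤ ∑ j, ‖∑ i, (c χ i : ℂ) * μ χ i ^ e j‖ := by
    intro χ hχ
    have h := (hmain _ (c χ) (μ χ) (hμ χ) 1 (by
      rw [Nat.cast_one, div_one]
      exact IsIntegral.sum _ fun i _ => (isIntegral_algebraMap (x := c χ i)).mul
        (IsIntegral.of_pow (Nat.card_pos (α := G)) (by rw [hμ]; exact isIntegral_one)))
      (by
        rw [← hval1]
        exact mul_ne_zero (Nat.cast_ne_zero.2 (pow_ne_zero _ hp.out.ne_zero))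
          (hne χ (Finset.mem_filter.1 hχ).2))).1
    simpa using h
  have h2 := (Finset.sum_le_sum hlow).trans (Finset.sum_le_sum_of_subset_of_nonneg (t := S)
    (fun χ hχ => by simp only [S, S', Finset.mem_filter, Finset.mem_univ, true_and] at hχ ⊢; exact hTB hχ)
    fun χ _ _ => Finset.sum_nonneg fun j _ => norm_nonneg _)
  rw [Finset.sum_const, nsmul_eq_mul, Finset.sum_comm, Finset.sum_congr rfl fun j _ => hfix j,
    Finset.sum_const, Finset.card_univ, Fintype.card_fin, nsmul_eq_mul] at h2
  rw [mul_comm] at h2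
  have h3 := le_of_mul_le_mul_left h2 (Nat.cast_pos.2 hm)
  rw [Nat.card_eq_fintype_card, Fintype.card_subtype]
  exact_mod_cast h3

/-- Integral forms on `b`: if each member of `B` sees `r` of them, `r k(B)` is at most their norm. -/
theorem card_subset_mul_le_of_forms {ι : Type*} [Fintype ι] (z : ι → IrrCharacter C → ℤ)
    (hz : ∀ l, ∀ η ∈ b, (z l η : ℂ) =
      ∑ η' ∈ Finset.univ.filter (· ∈ b), regDot p η.1 η'.1 * (z l η' : ℂ))
    {n : ℕ} (hn : ∑ l, ∑ η ∈ Finset.univ.filter (· ∈ b), z l η ^ 2 = (n : ℤ)) (r : ℕ)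
    (hr : ∀ χ ∈ T, r ≤ (Finset.univ.filter fun l =>
      secVec C b x χ.1 (fun η => (z l η : ℂ)) ≠ 0).card) :
    r * Nat.card T ≤ n := by
  haveI : NeZero (Nat.card G) := ⟨Nat.card_pos.ne'⟩
  obtain ⟨m, e, hm, he, hmain⟩ := exists_twists_div.{u} (Nat.card G)
  set S := Finset.univ.filter (fun χ : IrrCharacter G => χ ∈ B)
  choose mlt hmlt0 hmlt using fun χ : IrrCharacter G =>
    Char.IsCharacter.exists_decomp (Char.IsCharacter.restrict (Char.irr_isCharacter χ) C)
  let c : IrrCharacter G → ι → IrrCharacter C → ℤ := fun χ l η =>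
    if η ∈ b then (mlt χ η : ℤ) * z l η else 0
  have hval : ∀ χ l, ∀ t : ℕ, t.Coprime (Nat.card G) →
      secVec C b (x ^ t) χ.1 (fun η => (z l η : ℂ)) = ∑ η, (c χ l η : ℂ) * scal η ⟨x, hyC⟩ ^ t := by
    intro χ l t ht
    rw [secVec, Finset.sum_filter]
    refine Finset.sum_congr rfl fun η _ => ?_
    simp only [c]
    split_ifs with hη
    · rw [classInner_sfun_pow hyC hC ht, hmlt χ η]
      push_cast
      ring
    · simp
  have hfix : ∀ j, ∑ χ ∈ S, ∑ l, ‖∑ η, (c χ l η : ℂ) * scal η ⟨x, hyC⟩ ^ e j‖ ^ 2 = (n : ℝ) := by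
    intro j
    refine Complex.ofReal_injective ?_
    push_cast
    rw [Finset.sum_comm, show (n : ℂ) = ((n : ℤ) : ℂ) by simp, ← hn, Int.cast_sum]
    refine Finset.sum_congr rfl fun l _ => ?_
    push_cast
    rw [Finset.sum_congr rfl fun η _ => show ((z l η : ℂ)) ^ 2 = (z l η : ℂ) * conj (z l η : ℂ) by
      rw [map_intCast, pow_two],
      ← sum_secVec_mul_conj (hC (e j) (he j)) hpM (orderOf_pow_coprime hyC hC hpM hx hb (he j)) hb
        _ _ (hz l) (hz l)]
    exact Finset.sum_congr rfl fun χ _ => by rw [hval χ l _ (he j), Complex.mul_conj']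
  set S' := Finset.univ.filter (fun χ : IrrCharacter G => χ ∈ T)
  have hlow : ∀ χ ∈ S', (m : ℝ) * r ≤ ∑ l, ∑ j, ‖∑ η, (c χ l η : ℂ) * scal η ⟨x, hyC⟩ ^ e j‖ ^ 2 := by
    intro χ hχ
    set L := Finset.univ.filter fun l => secVec C b x χ.1 (fun η => (z l η : ℂ)) ≠ 0
    refine le_trans ?_ (Finset.sum_le_sum_of_subset_of_nonneg (Finset.subset_univ L) fun l _ _ =>
      Finset.sum_nonneg fun j _ => sq_nonneg _)
    refine le_trans ?_ (Finset.sum_le_sum (f := fun _ => (m : ℝ)) fun l hl => ?_)
    · rw [Finset.sum_const, nsmul_eq_mul, mul_comm]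
      exact mul_le_mul_of_nonneg_right (by exact_mod_cast hr χ (Finset.mem_filter.1 hχ).2)
        (Nat.cast_nonneg m)
    · have h1 := hval χ l 1 (Nat.coprime_one_left _)
      simp only [pow_one] at h1
      have h := (hmain _ (c χ l) (fun η => scal η ⟨x, hyC⟩) (scal_pow_card hyC hC) 1 (by
        rw [Nat.cast_one, div_one]
        exact IsIntegral.sum _ fun η _ => (isIntegral_algebraMap (x := c χ l η)).mul
          (IsIntegral.of_pow (Nat.card_pos (α := G)) (by rw [scal_pow_card hyC hC]; exact isIntegral_one)))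
        (by rw [← h1]; exact (Finset.mem_filter.1 hl).2)).2
      simpa using h
  have h2 := (Finset.sum_le_sum hlow).trans (Finset.sum_le_sum_of_subset_of_nonneg (t := S)
    (fun χ hχ => by simp only [S, S', Finset.mem_filter, Finset.mem_univ, true_and] at hχ ⊢; exact hTB hχ)
    fun χ _ _ => Finset.sum_nonneg fun l _ => Finset.sum_nonneg fun j _ => sq_nonneg _)
  rw [Finset.sum_const, nsmul_eq_mul, Finset.sum_congr rfl fun χ _ => Finset.sum_comm,
    Finset.sum_comm, Finset.sum_congr rfl fun j _ => hfix j, Finset.sum_const, Finset.card_univ,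
    Fintype.card_fin, nsmul_eq_mul] at h2
  have h3 : (m : ℝ) * ((r : ℝ) * S'.card) ≤ (m : ℝ) * n := by linarith
  have h4 := le_of_mul_le_mul_left h3 (Nat.cast_pos.2 hm)
  rw [Nat.card_eq_fintype_card, Fintype.card_subtype]
  exact_mod_cast h4

/-- A subsection with cyclic quotient bounds `|T|` by `|Z| |D̄|`. -/
theorem card_subset_le_of_cyclic_quotient (hM : IsPModular p M)
    (hne0 : ∀ χ ∈ T, ctr p C b x χ.1 χ.1 ≠ 0) (Z : Subgroup C) [Z.Normal]
    (hZ : Z ≤ Subgroup.center C) (hZp : IsPGroup p Z) {D : Subgroup (C ⧸ Z)}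
    (hD : IsDefectGroup p M (dominated Z b) D) (hcyc : IsCyclic D) (hne : D ≠ ⊥) :
    Nat.card T ≤ Nat.card Z * Nat.card D := by
  obtain ⟨e, r, z, w, he, her, hR, hproj, hgram⟩ := exists_gram Z hZ hZp hM hb.1 hD hcyc hne
  let F : Fin (e + 1) → IrrCharacter C → ℤ := fun l η => ∑ i, diff l i * z i η
  have hT : ∀ l (χ : G → ℂ), secVec C b x χ (fun η => (F l η : ℂ)) =
      ∑ i, (diff l i : ℂ) * secVec C b x χ (fun η => (z i η : ℂ)) := by
    intro l χ
    simp only [secVec, F, Int.cast_sum, Int.cast_mul, Finset.mul_sum]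
    rw [Finset.sum_comm]
    exact Finset.sum_congr rfl fun i _ => Finset.sum_congr rfl fun η _ => by ring
  have hnorm : ∑ l, ∑ η ∈ Finset.univ.filter (· ∈ b), F l η ^ 2 =
      ((2 * Nat.card Z * (e + r) : ℕ) : ℤ) := by
    have hl : ∀ l, ∑ η ∈ Finset.univ.filter (· ∈ b), F l η ^ 2 =
        (Nat.card Z : ℤ) * ((∑ i, diff l i ^ 2) + r * (∑ i, diff l i) ^ 2) := by
      intro l
      calc _ = ∑ i, ∑ j, diff l i * diff l j *
            ∑ η ∈ Finset.univ.filter (· ∈ b), z i η * z j η := by
            simp only [F, pow_two, Finset.sum_mul]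
            simp only [Finset.mul_sum]
            rw [Finset.sum_comm]
            refine Finset.sum_congr rfl fun i _ => ?_
            rw [Finset.sum_comm]
            exact Finset.sum_congr rfl fun j _ => Finset.sum_congr rfl fun η _ => by ring
        _ = _ := by
            simp only [hgram, mul_add, mul_ite, mul_one, mul_zero, Finset.sum_add_distrib,
              Finset.sum_ite_eq, Finset.mem_univ, if_true, pow_two, Finset.mul_sum, Finset.sum_mul]
            congr 1
            · exact Finset.sum_congr rfl fun i _ => by ring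
            · refine Finset.sum_congr rfl fun i _ => Finset.sum_congr rfl fun j _ => by ring
    rw [Finset.sum_congr rfl fun l _ => hl l, ← Finset.mul_sum, Finset.sum_add_distrib,
      Finset.sum_comm, Finset.sum_congr rfl fun i _ => sum_diff_sq i, ← Finset.mul_sum,
      sum_diff_row_sq he]
    simp
    ring
  have hr2 : ∀ χ ∈ T, 2 ≤ (Finset.univ.filter fun l =>
      secVec C b x χ.1 (fun η => (F l η : ℂ)) ≠ 0).card := by
    intro χ hχ
    by_contra hlt
    set S := fun l => secVec C b x χ.1 (fun η => (F l η : ℂ)) with hS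
    have hsum : ∑ l, S l = 0 := by
      simp only [S, hT]
      rw [Finset.sum_comm]
      refine Finset.sum_eq_zero fun i _ => ?_
      rw [← Finset.sum_mul, ← Int.cast_sum, sum_diff, Int.cast_zero, zero_mul]
    have hall : ∀ l, S l = 0 := by
      intro l
      by_contra hl
      refine hl ?_
      rw [← hsum]
      symm
      refine Finset.sum_eq_single l (fun l' _ hne => ?_) (by simp)
      by_contra hl'
      exact hlt (Finset.one_lt_card.2 ⟨l', by simpa [S] using hl', l, by simpa [S] using hl, hne⟩)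
    have hz0 : ∀ i, secVec C b x χ.1 (fun η => (z i η : ℂ)) = 0 :=
      fun i => eq_zero_of_diff (fun l => by rw [← hT]; exact hall l) i
    refine hne0 χ hχ ?_
    exact ctr_eq_zero_of_part_eq_zero (hC_one hyC hC) hM.2.2 hb.1 χ Finset.univ
      (fun i η => w i η) (fun i η => (z i η : ℂ)) (fun η hη η' hη' => hR η' hη' η) fun i _ => hz0 i
  have hF : ∀ l, ∀ η ∈ b, (F l η : ℂ) =
      ∑ η' ∈ Finset.univ.filter (· ∈ b), regDot p η.1 η'.1 * (F l η' : ℂ) := by
    intro l η hη
    simp only [F, Int.cast_sum, Int.cast_mul, Finset.mul_sum]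
    rw [Finset.sum_comm]
    refine Finset.sum_congr rfl fun i _ => ?_
    conv_lhs => rw [hproj i η hη, Finset.mul_sum]
    exact Finset.sum_congr rfl fun η' _ => by ring
  have h := card_subset_mul_le_of_forms hyC hC hpM hx hb hTB F hF hnorm 2 hr2
  have h2 := Nat.mul_le_mul_left (2 * Nat.card Z) her
  nlinarith

end General

/-- If some `p`-element has centralizer with `p`-part at most `p²`, the principal block has at most
`p²` characters of `p'`-degree. -/
theorem card_principal_le (hM : IsPModular p M) {k : ℕ} (hx : orderOf x = p ^ k)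
    (hC2 : (Nat.card (Subgroup.centralizer ({x} : Set G))).factorization p ≤ 2) :
    Nat.card {χ : IrrCharacter G // χ ∈ principalBlock M G ∧ ¬ p ∣ charDegree χ.1} ≤ p ^ 2 := by
  have hpM := hM.2.2
  haveI := Blocks.charP_residue (p := p) hpM
  set T : Set (IrrCharacter G) := {χ | χ ∈ principalBlock M G ∧ ¬ p ∣ charDegree χ.1} with hTdef
  show Nat.card T ≤ p ^ 2
  have hB : IsPBlock M (principalBlock M G) := Blocks.isPBlock_principalBlock hpM
  rcases Nat.eq_zero_or_pos k with rfl | hk
  · rw [pow_zero, orderOf_eq_one_iff] at hx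
    subst hx
    have htop : Subgroup.centralizer ({1} : Set G) = ⊤ := eq_top_iff.2 fun g _ =>
      Subgroup.mem_centralizer_singleton_iff.2 (by simp)
    rw [htop, Subgroup.card_top] at hC2
    have hd : blockDefect p (principalBlock M G) ≤ 2 := (Nat.sub_le _ _).trans hC2
    exact ((Nat.card_mono (Set.toFinite _) fun χ hχ => hχ.1).trans
      (card_le_of_defect_le_two hM hB hd)).trans (Nat.pow_le_pow_right hp.out.pos hd)
  set C := Subgroup.centralizer ({x} : Set G) with hCdef
  set b := principalBlock M C with hbdef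
  have hxC : x ∈ C := Subgroup.mem_centralizer_singleton_iff.2 rfl
  have hCt : ∀ t : ℕ, t.Coprime (Nat.card G) → C = Subgroup.centralizer ({x ^ t} : Set G) :=
    fun t ht => centralizer_pow ht
  have hind : inducingSet M C (principalBlock M G) = b :=
    inducingSet_principalBlock hpM ⟨k, hx⟩
  have hb : IsInducedBlock M C b (principalBlock M G) := by
    have h : Char.trivialChar C ∈ inducingSet M C (principalBlock M G) := by
      rw [hind]; exact Blocks.trivial_mem_principalBlock
    exact h
  have hne : ∀ χ ∈ T, ctr p C b x χ.1 χ.1 ≠ 0 := by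
    intro χ hχ
    refine ctr_self_ne_zero hpM hx hb hind hχ.1 fun h0 => hχ.2 ?_
    have h := Blocks.memLocalIdeal_char_mul_sub hpM (Char.irr_isCharacter χ)
      (Commute.one_right x) hx
    rw [mul_one, h0, zero_sub, Char.memLocalIdeal_neg_iff, ← Char.charDegree_cast,
      Blocks.memLocalIdeal_natCast_iff hpM] at h
    exact h
  set Z := Subgroup.zpowers (⟨x, hxC⟩ : C) with hZdef
  have hZ : Z ≤ Subgroup.center C := Subgroup.zpowers_le.2 (Subgroup.mem_center_iff.2 fun g =>
    Subtype.ext (Subgroup.mem_centralizer_singleton_iff.1 g.2))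
  haveI : Z.Normal :=
    ⟨fun n hn g => by rwa [Subgroup.mem_center_iff.1 (hZ hn) g, mul_inv_cancel_right]⟩
  have hcardZ : Nat.card Z = p ^ k := by rw [Nat.card_zpowers, Subgroup.orderOf_mk, hx]
  have hZp : IsPGroup p Z := IsPGroup.of_card hcardZ
  obtain ⟨D, hD⟩ := Blocks.exists_defectGroup (p := p) hb.1
  have hDcard := Blocks.card_defectGroup hpM hb.1 hD
  have hd2 : blockDefect p b ≤ 2 := (Nat.sub_le _ _).trans hC2
  have hcard := card_map_mul Z hZ hZp hpM hb.1 hD
  have hdom := isDefectGroup_dominated Z hZ hZp hpM hb.1 hD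
  set Db := D.map (QuotientGroup.mk' Z) with hDb
  rw [hcardZ, hDcard] at hcard
  have hkd : k ≤ blockDefect p b :=
    (Nat.pow_dvd_pow_iff_le_right hp.out.one_lt).1 (Dvd.intro_left _ hcard)
  have hDbcard : Nat.card Db = p ^ (blockDefect p b - k) := by
    refine Nat.eq_of_mul_eq_mul_right (pow_pos hp.out.pos k) ?_
    rw [hcard, ← pow_add, Nat.sub_add_cancel hkd]
  have hle : p ^ blockDefect p b ≤ p ^ 2 := Nat.pow_le_pow_right hp.out.pos hd2
  by_cases hbot : Db = ⊥
  · have h1 : Nat.card (dominated Z b) ≤ 1 := by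
      have hdomb := isPBlock_dominated Z hZ hZp hpM hb.1
      have h := four_mul_card_le hpM hdomb
      have h2 := Blocks.card_defectGroup hpM hdomb hdom
      rw [hbot, Subgroup.card_bot] at h2
      rw [pow_mul', ← h2] at h
      omega
    refine (card_subset_le_pow_mul_rank hxC hCt hpM hx hb (fun χ hχ => hχ.1) hne).trans ?_
    exact ((Nat.mul_le_mul_left _ ((blockRank_le_card Z hZ hZp hpM hb.1).trans h1)).trans_eq
      (mul_one _)).trans hle
  · have hcyc : IsCyclic Db := by
      rcases Nat.lt_or_ge (blockDefect p b - k) 1 with h | h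
      · rw [Nat.lt_one_iff.1 h, pow_zero] at hDbcard
        haveI : Subsingleton Db := (Nat.card_eq_one_iff_unique.1 hDbcard).1
        infer_instance
      · rw [show blockDefect p b - k = 1 by omega, pow_one] at hDbcard
        exact isCyclic_of_prime_card hDbcard
    refine (card_subset_le_of_cyclic_quotient hxC hCt hpM hx hb (fun χ hχ => hχ.1) hM hne Z hZ hZp
      hdom hcyc hbot).trans ?_
    rw [hcardZ, mul_comm, hcard]
    exact hle

end Cfsg.Agent.Blocks.SeenSubsection
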