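import Cfsg.Agent.Lib.Blocks.Core

/-!
# Self-conjugate 2-blocks of full defect

An irreducible character of odd degree lying in the same 2-block as its complex conjugate lies in
the principal 2-block.  (So a real-valued irreducible character of odd degree lies there.)
-/

set_option autoImplicit false
set_option linter.style.haveILetI false

namespace Cfsg.Agent.Blocks

open Cfsg
open scoped ComplexConjugate

universe u

variable {G : Type u} [Group G] [Finite G] {M : Ideal AlgInt}

/-- The inverse class. -/
def classInv : ConjClasses G → ConjClasses G :=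
  Quotient.lift (fun g => ConjClasses.mk g⁻¹) fun a b h => by
    obtain ⟨c, hc⟩ := isConj_iff.1 (show IsConj a b from h)
    exact ConjClasses.mk_eq_mk_iff_isConj.2 (isConj_iff.2 ⟨c, by rw [← hc]; group⟩)

omit [Finite G] in
theorem classInv_mk (g : G) : classInv (ConjClasses.mk g) = ConjClasses.mk g⁻¹ := rfl

omit [Finite G] in
theorem classInv_classInv (C : ConjClasses G) : classInv (classInv C) = C := by
  obtain ⟨g, rfl⟩ := C.exists_rep
  rw [classInv_mk, classInv_mk, inv_inv]

omit [Finite G] in
theorem orderOf_conjugate (c x : G) : orderOf (c * x * c⁻¹) = orderOf x := by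
  simpa using (MulAut.conj c).orderOf_eq x

/-- A real class of elements of odd order other than `1` has even size. -/
theorem two_dvd_card_of_real {g : G} (hg : IsPRegular 2 g) (h1 : g ≠ 1) (hr : IsConj g g⁻¹) :
    2 ∣ (Subgroup.centralizer ({g} : Set G)).index := by
  classical
  haveI := Fintype.ofFinite G
  rw [← card_isConj_eq_index, Nat.card_eq_fintype_card, Fintype.card_subtype,
    ← CharP.cast_eq_zero_iff (ZMod 2) 2, Finset.card_eq_sum_ones, Nat.cast_sum]
  refine Finset.sum_involution (fun x _ => x⁻¹) (fun x _ => ?_) (fun x hx _ he => ?_)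
    (fun x hx => ?_) fun x _ => inv_inv x
  · decide
  · obtain ⟨c, hc⟩ := isConj_iff.1 (Finset.mem_filter.1 hx).2
    have hx2 : x ^ 2 = 1 := by
      rw [pow_two]; nth_rw 1 [← he]; rw [inv_mul_cancel]
    have hx' : c * g ^ 2 * c⁻¹ = 1 := by rw [← hx2, ← hc, conj_pow]
    have hg2 : g ^ 2 = 1 := by
      rwa [mul_inv_eq_one, mul_eq_left] at hx'
    rcases (Nat.dvd_prime Nat.prime_two).1 (orderOf_dvd_of_pow_eq_one hg2) with h | h
    · exact h1 (orderOf_eq_one_iff.1 h)
    · exact hg (h ▸ dvd_rfl)
  · refine Finset.mem_filter.2 ⟨Finset.mem_univ _, ?_⟩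
    have hx' : IsConj g x := (Finset.mem_filter.1 hx).2
    obtain ⟨c, hc⟩ := isConj_iff.1 hx'
    exact hr.trans (isConj_iff.2 ⟨c, by rw [← hc]; group⟩)

/-- An irreducible character of odd degree in a self-conjugate block lies in the principal block. -/
theorem sameBlock_one_of_self_conj [hM : M.IsMaximal] (h2M : (2 : AlgInt) ∈ M)
    (χ : IrrCharacter G) (hodd : ∃ d : ℕ, Odd d ∧ χ.1 1 = d)
    (hself : SameBlock M χ.1 (fun g => conj (χ.1 g))) :
    SameBlock M (fun _ : G => (1 : ℂ)) χ.1 := by
  classical
  haveI := hM.isPrime
  haveI := Fintype.ofFinite G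
  haveI := Fintype.ofFinite (ConjClasses G)
  haveI h2 : Fact (Nat.Prime 2) := ⟨Nat.prime_two⟩
  have hpM : ((2 : ℕ) : AlgInt) ∈ M := by simpa using h2M
  haveI hchar : CharP (AlgInt ⧸ M) 2 := charP_residue hpM
  obtain ⟨d, hd, hχ1⟩ := hodd
  have hd0 : (d : ℂ) ≠ 0 := Nat.cast_ne_zero.2 (fun h => by rw [h] at hd; simp at hd)
  have hcc : IsClassFunction G χ.1 := irr_classFun χ
  by_contra hn
  have hn' : ¬ SameBlock M χ.1 (Char.trivialChar G).1 := fun h => hn (SameBlock.symm h)
  have hzero := regular_orthogonality hpM (χ := χ) (ψ := Char.trivialChar G) hn'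
  simp only [Char.trivialChar_apply, map_one, mul_one] at hzero
  set cl := fun C : ConjClasses G => centralChar χ.1 C.out with hcl
  have hmk : ∀ C : ConjClasses G, ConjClasses.mk C.out = C := fun C => Quotient.out_eq C
  have hsum : ∑ C ∈ Finset.univ.filter (fun C : ConjClasses G => IsPRegular 2 C.out), cl C = 0 := by
    have h : (d : ℂ) * ∑ C ∈ Finset.univ.filter (fun C : ConjClasses G => IsPRegular 2 C.out),
        cl C = 0 := by
      rw [Finset.mul_sum, ← hzero]
      rw [← Finset.sum_fiberwise_of_maps_to (t := Finset.univ.filter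
        (fun C : ConjClasses G => IsPRegular 2 C.out)) (g := ConjClasses.mk) (fun x hx => ?_)
        (fun x => χ.1 x)]
      · refine Finset.sum_congr rfl fun C hC => ?_
        have hset : (Finset.univ.filter (IsPRegular 2)).filter (fun x : G => ConjClasses.mk x = C) =
            Finset.univ.filter (fun x : G => IsConj C.out x) := by
          ext x
          simp only [Finset.mem_filter, Finset.mem_univ, true_and]
          constructor
          · rintro ⟨-, hx⟩
            exact (ConjClasses.mk_eq_mk_iff_isConj.1 (hx.trans (hmk C).symm)).symm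
          · intro hx
            refine ⟨?_, (ConjClasses.mk_eq_mk_iff_isConj.2 hx.symm).trans (hmk C)⟩
            obtain ⟨c, hc⟩ := isConj_iff.1 hx
            have hC' : IsPRegular 2 C.out := (Finset.mem_filter.1 hC).2
            unfold IsPRegular at hC' ⊢
            rw [← hc, orderOf_conjugate c C.out]
            exact hC'
        rw [hset, Finset.sum_congr rfl fun x hx =>
          (Char.IsClassFunction.apply_of_isConj hcc (Finset.mem_filter.1 hx).2).symm,
          Finset.sum_const, nsmul_eq_mul, ← Fintype.card_subtype, ← Nat.card_eq_fintype_card,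
          card_isConj_eq_index]
        simp only [hcl, centralChar, hχ1]
        rw [mul_div_cancel₀ _ hd0]
      · simp only [Finset.mem_filter, Finset.mem_univ, true_and] at hx ⊢
        obtain ⟨c, hc⟩ := isConj_iff.1 (ConjClasses.mk_eq_mk_iff_isConj.1 (hmk (ConjClasses.mk x)))
        unfold IsPRegular at hx ⊢
        rw [← hc, orderOf_conjugate c] at hx
        exact hx
    exact (mul_eq_zero.1 h).resolve_left hd0
  have hR : ∀ g, MemLocalRing M (centralChar χ.1 g) := fun g => memLocalRing_centralChar χ g
  set S := (Finset.univ.filter (fun C : ConjClasses G => IsPRegular 2 C.out)) with hS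
  set E := (ConjClasses.mk (1 : G)) with hE
  have hEout : E.out = 1 := isConj_one_left.1 (ConjClasses.mk_eq_mk_iff_isConj.1 (hmk E))
  have hES : E ∈ S := by
    rw [hS, Finset.mem_filter, hEout]
    exact ⟨Finset.mem_univ _, by simp [IsPRegular]⟩
  have hred : red M (∑ C ∈ S, cl C) = 1 := by
    rw [red_sum S (f := cl) (fun C _ => hR _), ← Finset.add_sum_erase S _ hES]
    have h1 : red M (cl E) = 1 := by
      have : cl E = 1 := by
        simp only [hcl]
        rw [hEout, centralChar, Subgroup.centralizer_eq_top_iff_subset.2 (by simp), Subgroup.index_top,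
          Nat.cast_one, one_mul, hχ1, div_self hd0]
      rw [this, red_one]
    rw [h1, add_eq_left]
    refine Finset.sum_involution (fun C _ => classInv C) (fun C hC => ?_) (fun C hC hne => ?_)
      (fun C hC => ?_) fun C _ => classInv_classInv C
    · -- the two terms agree
      have hinv : IsConj C.out⁻¹ (classInv C).out := by
        rw [← ConjClasses.mk_eq_mk_iff_isConj, hmk, ← classInv_mk, hmk]
      have hidx : centralChar χ.1 (classInv C).out = centralChar (fun g => conj (χ.1 g)) C.out := by
        have hi : (Subgroup.centralizer ({(classInv C).out} : Set G)).index =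
            (Subgroup.centralizer ({C.out} : Set G)).index := by
          rw [← card_isConj_eq_index, ← card_isConj_eq_index]
          refine Nat.card_congr ((Equiv.inv G).subtypeEquiv fun x => ?_)
          constructor
          · intro h
            have h' : IsConj C.out⁻¹ x := hinv.trans h
            obtain ⟨c, hc⟩ := isConj_iff.1 h'
            exact isConj_iff.2 ⟨c, by rw [Equiv.inv_apply, ← hc]; group⟩
          · intro h
            obtain ⟨c, hc⟩ := isConj_iff.1 h
            refine hinv.symm.trans (isConj_iff.2 ⟨c, ?_⟩)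
            rw [Equiv.inv_apply] at hc
            rw [← inv_inv x, ← hc]
            group
        simp only [centralChar, hi]
        rw [← Char.IsClassFunction.apply_of_isConj hcc hinv,
          ← Char.IsCharacter.conj_apply (Char.irr_isCharacter χ), hχ1, Complex.conj_natCast]
      have hdiff := hself C.out
      rw [← hidx] at hdiff
      show red M (centralChar χ.1 C.out) + red M (centralChar χ.1 (classInv C).out) = 0
      rw [(red_eq_iff (hR _) (hR _)).2 hdiff, CharTwo.add_self_eq_zero]
    · intro hfix
      apply hne
      have hC1 : C ≠ E := Finset.ne_of_mem_erase hC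
      have hCS := (Finset.mem_filter.1 (Finset.mem_of_mem_erase hC)).2
      have hreal : IsConj C.out C.out⁻¹ := by
        rw [← ConjClasses.mk_eq_mk_iff_isConj, hmk, ← classInv_mk, hmk, hfix]
      have heven := two_dvd_card_of_real hCS (fun h => hC1 (by rw [← hmk C, h, hE])) hreal
      refine red_eq_zero_of_mem ?_
      have hinv : MemLocalRing M ((d : ℂ))⁻¹ :=
        memLocalRing_inv_natCast hpM (by
          rw [Nat.two_dvd_ne_zero, ← Nat.odd_iff]; exact hd)
      show MemLocalIdeal M (centralChar χ.1 C.out)
      rw [centralChar, hχ1, div_eq_mul_inv]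
      refine MemLocalIdeal.mul_right (MemLocalIdeal.mul_right
        ((memLocalIdeal_natCast_iff hpM _).2 heven) ?_) hinv
      exact memLocalRing_of_isIntegral (CharInt.isIntegral_char (Char.irr_isCharacter χ) _)
    · have hC1 : C ≠ E := Finset.ne_of_mem_erase hC
      refine Finset.mem_erase.2 ⟨fun h => hC1 ?_, ?_⟩
      · rw [← classInv_classInv C, h, hE, classInv_mk, inv_one]
      · have hCS := (Finset.mem_filter.1 (Finset.mem_of_mem_erase hC)).2
        rw [hS, Finset.mem_filter]
        refine ⟨Finset.mem_univ _, ?_⟩
        have hinv : IsConj C.out⁻¹ (classInv C).out := by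
          rw [← ConjClasses.mk_eq_mk_iff_isConj, hmk, ← classInv_mk, hmk]
        obtain ⟨c, hc⟩ := isConj_iff.1 hinv
        unfold IsPRegular at hCS ⊢
        rw [← hc, orderOf_conjugate c, orderOf_inv]
        exact hCS
  rw [hsum, red_zero] at hred
  exact zero_ne_one hred

end Cfsg.Agent.Blocks
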